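import Cfsg.Agent.Lib.AutOmegaOdd.Points

/-!
Orthogonal groups in any characteristic and dimension: root groups modulo the centre.
-/

set_option autoImplicit false

namespace Cfsg.Agent.Lib.AutOmega

open QuadraticMap hiding proj
open Cfsg.Agent.Lib.Classical.Quad Cfsg.Agent.Lib.Classical.QuadOmega
open Cfsg.Agent.Lib.AutOmegaOdd (G G_ext G_mul G_one G_inv G_inv' G_Q G_B sg sg_apply sg_add sg_zero
  sg_self sg_neg sg_smul sg_conj sg_fix sg_fix_self sg_swap U sg_mem_U mem_U U_smul map_conj_U Fr InW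
  proj proj_mem decomp B_proj sg_e_fix sg_e_f sg_e_inj mem_U_e Semi)

universe u v

variable {F : Type u} [Field F] {V : Type v} [AddCommGroup V] [Module F V] {Q : QuadraticForm F V}
  {e f : V}

/-- The standing hypotheses: a totally singular subspace of half the dimension only occurs in large dimension. -/
structure Hyp (Q : QuadraticForm F V) : Prop where
  good : Good Q
  big : ∀ T : Submodule F V, (∀ a ∈ T, Q a = 0) →
    2 * Module.finrank F T < Module.finrank F V ∨ 10 ≤ Module.finrank F V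

/-! ### Modulo the centre -/

/-- `PΩ(Q)`. -/
abbrev PG (Q : QuadraticForm F V) := G Q ⧸ Subgroup.center (G Q)

/-- The projection. -/
noncomputable abbrev pr (Q : QuadraticForm F V) : G Q →* PG Q := QuotientGroup.mk' _

theorem pr_surjective : Function.Surjective (pr Q) := QuotientGroup.mk'_surjective _

theorem pr_eq_one {z : G Q} : pr Q z = 1 ↔ z ∈ Subgroup.center (G Q) := QuotientGroup.eq_one_iff z

variable [Finite V]

theorem sign_of_pr (hG : Good Q) {g h : G Q} (he : pr Q g = pr Q h) :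
    (∀ v, g.1.1 v = h.1.1 v) ∨ ∀ v, g.1.1 v = -(h.1.1 v) := by
  have hz : g * h⁻¹ ∈ Subgroup.center (G Q) :=
    pr_eq_one.1 (by rw [map_mul, map_inv, he, mul_inv_cancel])
  rcases center_cases hG hz with hc | hc
  · refine Or.inl fun v => ?_
    have h1 : g = h := mul_inv_eq_one.1 (Subtype.ext hc)
    rw [h1]
  · refine Or.inr fun v => ?_
    have h1 := congrArg (fun a : isoG Q => a.1 (h.1.1 v)) hc
    rw [negOne_apply] at h1
    rw [← h1]
    exact congrArg g.1.1 (G_inv h v).symm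

theorem pr_eq_of_scalar (hG : Good Q) {g h : G Q} {c : F} (hc : c * c = 1)
    (hgh : ∀ v, g.1.1 v = c • h.1.1 v) : pr Q g = pr Q h := by
  rw [← mul_inv_eq_one, ← map_inv, ← map_mul, pr_eq_one, mem_center_iff_val hG]
  rcases mul_self_eq_one_iff.1 hc with h1 | h1
  · refine Or.inl (iso_ext fun v => ?_)
    show g.1.1 ((h⁻¹).1.1 v) = v
    rw [hgh, h1, one_smul, G_inv']
  · refine Or.inr (iso_ext fun v => ?_)
    show g.1.1 ((h⁻¹).1.1 v) = -v
    rw [hgh, h1, neg_one_smul, G_inv']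

theorem center_sq (hG : Good Q) {z : G Q} (hz : z ∈ Subgroup.center (G Q)) : z * z = 1 := by
  rcases center_cases hG hz with h | h <;> refine Subtype.ext (iso_ext fun v => ?_)
  · show z.1.1 (z.1.1 v) = v
    rw [h]; rfl
  · show z.1.1 (z.1.1 v) = v
    rw [h]; simp

variable {p : ℕ} [Fact p.Prime] [CharP F p]

theorem center_pow (hG : Good Q) {z : G Q} (hz : z ∈ Subgroup.center (G Q)) (n : ℕ) :
    z ^ p ^ n = z := by
  induction n with
  | zero => rw [pow_zero, pow_one]
  | succ n ih =>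
    rw [pow_succ, pow_mul, ih]
    rcases (Fact.out : p.Prime).eq_two_or_odd' with h | ⟨k, hk⟩
    · rw [h, pow_two, center_sq hG hz]
      subst h
      symm
      rcases center_cases hG hz with h1 | h1
      · exact Subtype.ext h1
      · refine G_ext fun v => ?_
        rw [h1, negOne_apply, G_one, neg_eq_iff_add_eq_zero, ← two_smul F v]
        have : (2 : F) = 0 := by exact_mod_cast CharP.cast_eq_zero F 2
        rw [this, zero_smul]
    · rw [hk, pow_succ, pow_mul, pow_two, center_sq hG hz, one_pow, one_mul]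

include p in
/-- Elements of `p`-power order are determined by their images. -/
theorem eq_of_pr (hG : Good Q) {a b : G Q} {i j : ℕ} (ha : a ^ p ^ i = 1) (hb : b ^ p ^ j = 1)
    (h : pr Q a = pr Q b) : a = b := by
  have hz : b⁻¹ * a ∈ Subgroup.center (G Q) :=
    pr_eq_one.1 (by rw [map_mul, map_inv, h, inv_mul_cancel])
  have hcomm : Commute b (b⁻¹ * a) := Subgroup.mem_center_iff.1 hz b
  have h1 : a ^ p ^ (i + j) = 1 := by rw [pow_add, pow_mul, ha, one_pow]
  have h2 : b ^ p ^ (i + j) = 1 := by rw [add_comm, pow_add, pow_mul, hb, one_pow]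
  rw [show a = b * (b⁻¹ * a) by group, hcomm.mul_pow, h2, one_mul, center_pow (p := p) hG hz,
    inv_mul_eq_one] at h1
  exact h1.symm

include p in
/-- Commuting modulo the centre with an element of order `p` is commuting. -/
theorem commute_of_pr (hG : Good Q) {g b : G Q} {i : ℕ} (hb : b ^ p ^ i = 1)
    (h : Commute (pr Q g) (pr Q b)) : Commute g b := by
  have := eq_of_pr (p := p) hG (a := g * b * g⁻¹) (b := b) (i := i) (j := i)
    (by rw [conj_pow, hb, mul_one, mul_inv_cancel]) hb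
    (by rw [map_mul, map_mul, map_inv, h.eq, mul_inv_cancel_right])
  exact mul_inv_eq_iff_eq_mul.1 this

include p in
theorem exists_lift (hG : Good Q) {T : PG Q} (hT : T ^ p = 1) : ∃ r : G Q, r ^ p = 1 ∧ pr Q r = T := by
  obtain ⟨r₀, rfl⟩ := pr_surjective T
  rw [← map_pow] at hT
  have hz := pr_eq_one.1 hT
  refine ⟨r₀ * r₀ ^ p, ?_, by rw [map_mul, hT, mul_one]⟩
  have hz' := center_pow (p := p) hG hz 1
  rw [pow_one] at hz'
  rw [(Commute.self_pow r₀ p).mul_pow, hz', center_sq hG hz]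

omit [Finite V] in
theorem sg_pow_p {x u : V} (hx : Q x = 0) (hu : polar Q x u = 0) : sg Q x u ^ p = 1 := by
  have hn : ∀ n : ℕ, (sg Q x u) ^ n = sg Q x ((n : F) • u) := by
    intro n
    induction n with
    | zero => rw [pow_zero, Nat.cast_zero, zero_smul, sg_zero hx]
    | succ n ih =>
      rw [pow_succ, ih, ← sg_add hx (by rw [polar_smul_right, hu, smul_zero]) hu, Nat.cast_succ,
        add_smul, one_smul]
  rw [hn, CharP.cast_eq_zero, zero_smul, sg_zero hx]

omit [Finite V] in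
theorem pow_p_of_mem_U {x : V} (hx : Q x = 0) {g : G Q} (hg : g ∈ U Q x) : g ^ p = 1 := by
  obtain ⟨u, hu, rfl⟩ := (mem_U hx).1 hg
  exact sg_pow_p hx hu

/-- The root group modulo the centre. -/
noncomputable def UP (Q : QuadraticForm F V) (x : V) : Subgroup (PG Q) := (U Q x).map (pr Q)

omit [Finite V] [Fact p.Prime] [CharP F p] in
theorem mem_UP_e (HP : Fr Q e f) {T : PG Q} :
    T ∈ UP Q e ↔ ∃ u, InW Q e f u ∧ T = pr Q (sg Q e u) := by
  constructor
  · rintro ⟨g, hg, rfl⟩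
    obtain ⟨u, hu, rfl⟩ := (mem_U_e HP).1 hg
    exact ⟨u, hu, rfl⟩
  · rintro ⟨u, hu, rfl⟩
    exact ⟨_, sg_mem_U e hu.ex, rfl⟩

omit [Fact p.Prime] [CharP F p] in
theorem pr_sg_inj (hG : Good Q) (HP : Fr Q e f) {u w : V} (hu : InW Q e f u) (hw : InW Q e f w)
    (h : pr Q (sg Q e u) = pr Q (sg Q e w)) : u = w := by
  rcases sign_of_pr hG h with h1 | h1
  · exact sg_e_inj HP hu hw (G_ext h1)
  · have h2 := h1 e
    rw [sg_fix_self HP.ee hu.ex, sg_fix_self HP.ee hw.ex] at h2
    refine sg_e_inj HP hu hw (G_ext fun v => ?_)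
    have htwo : (2 : F) • e = 0 := by rw [two_smul]; nth_rewrite 1 [h2]; exact neg_add_cancel e
    have h20 : (2 : F) = 0 := (smul_eq_zero.1 htwo).resolve_right HP.e_ne
    rw [h1, neg_eq_iff_add_eq_zero, ← two_smul F, h20, zero_smul]

/-! ### The space `W` -/

omit [Finite V] [Fact p.Prime] [CharP F p]

theorem W_pair (hG : Good Q) (HP : Fr Q e f) :
    ∃ a b, InW Q e f a ∧ InW Q e f b ∧ Fr Q a b := by
  obtain ⟨s, hs0, hs, hse, hsf⟩ := hG.exists_sing_perp HP.ee HP.ff HP.ef
  obtain ⟨t, ht, hst, het, hft⟩ := hG.exists_partner_perp HP.ee HP.ff HP.ef hs hs0 hse hsf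
  exact ⟨s, t, ⟨hse, hsf⟩, ⟨by rw [polar_comm, het], by rw [polar_comm, hft]⟩, ⟨hs, ht, hst⟩⟩

theorem W_partner (hG : Good Q) (HP : Fr Q e f) {s : V} (hs : InW Q e f s) (hsQ : Q s = 0)
    (hs0 : s ≠ 0) : ∃ t, InW Q e f t ∧ Fr Q s t := by
  obtain ⟨t, ht, hst, het, hft⟩ :=
    hG.exists_partner_perp HP.ee HP.ff HP.ef hsQ hs0 hs.xe hs.xf
  exact ⟨t, ⟨by rw [polar_comm, het], by rw [polar_comm, hft]⟩, ⟨hsQ, ht, hst⟩⟩

theorem W_nondeg (hG : Good Q) (HP : Fr Q e f) {x : V} (hx : InW Q e f x) (hx0 : x ≠ 0) :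
    ∃ w, InW Q e f w ∧ polar Q x w = 1 := by
  obtain ⟨w, hw⟩ := hG.exists_one hx0
  exact ⟨proj Q e f w, proj_mem HP w, by rw [B_proj hx, hw]⟩

theorem W_nonsing (hG : Good Q) (HP : Fr Q e f) {a b : V} (ha : InW Q e f a) (hb : InW Q e f b)
    (Hab : Fr Q a b) :
    ∃ u w, InW Q e f u ∧ InW Q e f w ∧ InW Q a b u ∧ InW Q a b w ∧ Q u ≠ 0 ∧ polar Q u w = 1 := by
  obtain ⟨c, hc, hce, hcf, hca, hcb⟩ := hG.exists_nonsing_perp HP.ee HP.ff HP.ef Hab.ee Hab.ff
    Hab.ef ha.ex hb.ex ha.fx hb.fx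
  have hc0 : c ≠ 0 := fun h => hc (by rw [h, map_zero])
  obtain ⟨w, hw⟩ := hG.exists_one hc0
  have hcef : InW Q e f c := ⟨hce, hcf⟩
  have hcab : InW Q a b c := ⟨hca, hcb⟩
  refine ⟨c, proj Q a b (proj Q e f w), hcef, ((proj_mem HP w).sub (ha.smul _)).sub (hb.smul _), hcab,
    proj_mem Hab _, hc, ?_⟩
  rw [B_proj hcab, B_proj hcef, hw]

/-- To prove an additive property on `W` it suffices to treat singular vectors. -/
theorem W_induction (hG : Good Q) (HP : Fr Q e f) {P : V → Prop}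
    (hadd : ∀ x y, InW Q e f x → InW Q e f y → P x → P y → P (x + y))
    (hs : ∀ x, InW Q e f x → Q x = 0 → P x) : ∀ x, InW Q e f x → P x := by
  intro v hv
  obtain ⟨a, b, ha, hb, Hab⟩ := W_pair hG HP
  set r := proj Q a b v with hr
  have hrW : InW Q e f r := (hv.sub (ha.smul _)).sub (hb.smul _)
  have hq : Q (r + ((-Q r) • a + b)) = 0 := by
    rw [QuadraticMap.map_add ⇑Q, pair_nonsing Hab.ee Hab.ff Hab.ef, polar_add_right,
      polar_smul_right, (proj_mem Hab v).xe, (proj_mem Hab v).xf]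
    simp
  have hv' : v = (r + ((-Q r) • a + b)) + ((Q r + polar Q v b) • a + (polar Q v a - 1) • b) := by
    rw [hr, proj]; module
  rw [hv']
  refine hadd _ _ (hrW.add ((ha.smul _).add hb)) ((ha.smul _).add (hb.smul _))
    (hs _ (hrW.add ((ha.smul _).add hb)) hq) (hadd _ _ (ha.smul _) (hb.smul _) ?_ ?_)
  · exact hs _ (ha.smul _) (by rw [QuadraticMap.map_smul, Hab.ee, smul_zero])
  · exact hs _ (hb.smul _) (by rw [QuadraticMap.map_smul, Hab.ff, smul_zero])

/-- A common nonperpendicular singular vector. -/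
theorem W_both (hG : Good Q) (HP : Fr Q e f) {x y : V} (hx : InW Q e f x) (hy : InW Q e f y)
    (hxQ : Q x = 0) (hyQ : Q y = 0) (hx0 : x ≠ 0) (hy0 : y ≠ 0) (hxy : polar Q x y = 0) :
    ∃ z, InW Q e f z ∧ Q z = 0 ∧ polar Q x z ≠ 0 ∧ polar Q y z ≠ 0 := by
  by_cases hdep : ∃ c : F, y = c • x
  · obtain ⟨c, rfl⟩ := hdep
    obtain ⟨t, ht, Hxt⟩ := W_partner hG HP hx hxQ hx0
    have hc : c ≠ 0 := fun h => hy0 (by rw [h, zero_smul])
    exact ⟨t, ht, Hxt.ff, by rw [Hxt.ef]; exact one_ne_zero,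
      by rw [polar_smul_left, Hxt.ef, smul_eq_mul, mul_one]; exact hc⟩
  · push Not at hdep
    obtain ⟨w, hw1, hw2⟩ := hG.exists_both hdep fun c h => by
      rcases eq_or_ne c 0 with rfl | hc
      · exact hx0 (by rw [h, zero_smul])
      · exact hdep c⁻¹ (by rw [h, smul_smul, inv_mul_cancel₀ hc, one_smul])
    set w' := proj Q e f w
    have h1 : polar Q x w' = 1 := by rw [B_proj hx, hw1]
    have h2 : polar Q y w' = 1 := by rw [B_proj hy, hw2]
    refine ⟨w' - Q w' • x, (proj_mem HP w).sub (hx.smul _), ?_, ?_, ?_⟩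
    · rw [sub_eq_add_neg, ← neg_smul, QuadraticMap.map_add ⇑Q, QuadraticMap.map_smul, hxQ,
        polar_smul_right, polar_comm Q w' x, h1]
      simp
    · rw [polar_sub_right, polar_smul_right, polar_self_sing hxQ, h1]; simp
    · rw [polar_sub_right, polar_smul_right, polar_comm Q y x, hxy, h2]; simp

theorem sg_stab_W {x u : V} (hxQ : Q x = 0) (hxu : polar Q x u = 0) (hx : InW Q e f x)
    (hu : InW Q e f u) {v : V} (hv : InW Q e f v) : InW Q e f ((sg Q x u).1.1 v) := by
  rw [sg_apply hxQ hxu]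
  exact ((hv.add (hu.smul _)).sub (hx.smul _)).sub (hx.smul _)

/-- The mixed second difference of a Siegel transformation. -/
theorem sg_second {x u w : V} (hx : Q x = 0) (hu : polar Q x u = 0) (hw : polar Q x w = 0) (v : V) :
    (sg Q x (u + w)).1.1 v + v - ((sg Q x u).1.1 v + (sg Q x w).1.1 v) =
      (-(polar Q u w * polar Q v x)) • x := by
  rw [sg_apply hx hu, sg_apply hx hw, sg_apply hx (by rw [polar_add_right, hu, hw, add_zero]),
    QuadraticMap.map_add ⇑Q, polar_add_right]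
  module

/-- An additive map of `W` commuting with the Siegel transformations of `W` is a scalar. -/
theorem commutant (hG : Good Q) (HP : Fr Q e f) {C : V → V}
    (hCW : ∀ x, InW Q e f x → InW Q e f (C x))
    (hCadd : ∀ x y, InW Q e f x → InW Q e f y → C (x + y) = C x + C y)
    (hC : ∀ x u, InW Q e f x → InW Q e f u → Q x = 0 → polar Q x u = 0 →
      ∀ v, InW Q e f v → C ((sg Q x u).1.1 v) = (sg Q x u).1.1 (C v)) :
    ∃ l : F, ∀ x, InW Q e f x → C x = l • x := by
  have hC0 : C 0 = 0 := by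
    have := hCadd 0 0 (InW.zero e f) (InW.zero e f)
    rwa [add_zero, left_eq_add] at this
  have hCsub : ∀ x y, InW Q e f x → InW Q e f y → C (x - y) = C x - C y := fun x y hx hy => by
    rw [eq_sub_iff_add_eq, ← hCadd _ _ (hx.sub hy) hy, sub_add_cancel]
  have key : ∀ x y, InW Q e f x → InW Q e f y → Fr Q x y →
      ∀ k : F, C (k • x) = (k * polar Q (C y) x) • x := by
    intro x y hx hy Hxy k
    obtain ⟨u, w, hu, hw, hu', hw', -, huw⟩ := W_nonsing hG HP hx hy Hxy
    set u₁ := (-k) • u with hu₁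
    have hu₁W := hu.smul (-k)
    have hxu : polar Q x u₁ = 0 := by rw [hu₁, polar_smul_right, hu'.ex, smul_zero]
    have hxw : polar Q x w = 0 := hw'.ex
    have hxs : polar Q x (u₁ + w) = 0 := by rw [polar_add_right, hxu, hxw, add_zero]
    have h3 := sg_stab_W Hxy.ee hxs hx (hu₁W.add hw) hy
    have h1 := sg_stab_W Hxy.ee hxu hx hu₁W hy
    have h2 := sg_stab_W Hxy.ee hxw hx hw hy
    have e1 := congrArg C (sg_second Hxy.ee hxu hxw y)
    rw [hCsub _ _ (h3.add hy) (h1.add h2), hCadd _ _ h3 hy, hCadd _ _ h1 h2,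
      hC x _ hx (hu₁W.add hw) Hxy.ee hxs y hy, hC x _ hx hu₁W Hxy.ee hxu y hy,
      hC x _ hx hw Hxy.ee hxw y hy, sg_second Hxy.ee hxu hxw, hu₁, polar_smul_left, huw, Hxy.fe] at e1
    simpa using e1.symm
  obtain ⟨a, b, ha, hb, Hab⟩ := W_pair hG HP
  -- eigenvalues
  have hex : ∀ x, InW Q e f x → Q x = 0 → x ≠ 0 → ∃ l : F, ∀ k : F, C (k • x) = (k * l) • x :=
    fun x hx hxQ hx0 => by
      obtain ⟨y, hy, Hxy⟩ := W_partner hG HP hx hxQ hx0
      exact ⟨_, key x y hx hy Hxy⟩
  choose! lam hlam using hex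
  have hnp : ∀ x y, InW Q e f x → InW Q e f y → Q x = 0 → Q y = 0 → polar Q x y ≠ 0 →
      lam x = lam y := by
    intro x y hx hy hxQ hyQ hne
    have hx0 : x ≠ 0 := fun h => hne (by rw [h, polar_zero_left])
    have hy0 : y ≠ 0 := fun h => hne (by rw [h, polar_zero_right])
    have Hxy : Fr Q x ((polar Q x y)⁻¹ • y) :=
      ⟨hxQ, by rw [QuadraticMap.map_smul, hyQ, smul_zero],
        by rw [polar_smul_right, smul_eq_mul, inv_mul_cancel₀ hne]⟩
    have h1 := key x _ hx (hy.smul _) Hxy 1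
    rw [hlam x hx hxQ hx0 1, one_mul, one_mul] at h1
    rw [smul_left_injective F hx0 h1, hlam y hy hyQ hy0, polar_smul_left, polar_comm Q y x,
      smul_eq_mul]
    field_simp
  have hall : ∀ x, InW Q e f x → Q x = 0 → x ≠ 0 → lam x = lam a := by
    intro x hx hxQ hx0
    by_cases h : polar Q x a = 0
    · obtain ⟨z, hz, hzQ, h1, h2⟩ := W_both hG HP hx ha hxQ Hab.ee hx0 Hab.e_ne h
      rw [hnp x z hx hz hxQ hzQ h1, ← hnp a z ha hz Hab.ee hzQ h2]
    · exact hnp x a hx ha hxQ Hab.ee h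
  refine ⟨lam a, W_induction hG HP (fun x y hx hy h1 h2 => by rw [hCadd x y hx hy, h1, h2, smul_add])
    fun x hx hxQ => ?_⟩
  rcases eq_or_ne x 0 with rfl | hx0
  · rw [hC0, smul_zero]
  · have := hlam x hx hxQ hx0 1
    rwa [one_smul, one_mul, hall x hx hxQ hx0] at this

/-- The centraliser of a root group. -/
theorem centralizer_U [Finite V] (hG : Good Q) (HP : Fr Q e f) {g : G Q}
    (hg : ∀ u, InW Q e f u → g * sg Q e u * g⁻¹ = sg Q e u) :
    ∃ u, InW Q e f u ∧ pr Q g = pr Q (sg Q e u) := by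
  have hfix : ∀ v, polar Q e v = 0 → (sg Q e v).1.1 (g.1.1 e) = g.1.1 e := by
    intro v hv
    obtain ⟨u, hu, h⟩ := (mem_U_e HP).1 (sg_mem_U e hv)
    rw [h, ← hg u hu, G_mul, G_mul, G_inv, sg_fix_self HP.ee hu.ex]
  obtain ⟨t, ht⟩ := sie_common_fix hG HP.e_ne HP.ee hfix
  have ht0 : t ≠ 0 := fun h => by
    have := G_inv g e
    rw [ht, h, zero_smul, map_zero] at this
    exact HP.e_ne this.symm
  -- the action on `W`
  have hgx : ∀ x, InW Q e f x → g.1.1 x = t⁻¹ • x + polar Q (g.1.1 x) f • e := by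
    intro x hx
    have h1 : polar Q (g.1.1 x) e = 0 := by
      have := G_B g x e
      rw [ht, hx.xe, polar_smul_right, smul_eq_mul, mul_eq_zero] at this
      exact this.resolve_left ht0
    have h0 := hg x hx
    rw [sg_conj HP.ee hx.ex, ht, sg_smul HP.ee (by rw [polar_comm, h1])] at h0
    have hp : InW Q e f (t • proj Q e f (g.1.1 x)) := (proj_mem HP _).smul t
    conv_lhs at h0 => rw [decomp (Q := Q) e f (g.1.1 x), h1, zero_smul, add_zero, smul_add, smul_smul]
    rw [sg_add HP.ee (by rw [polar_smul_right, polar_self_sing HP.ee, smul_zero]) hp.ex,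
      sg_self HP.ee, one_mul] at h0
    have h2 := sg_e_inj HP hp hx h0
    conv_lhs => rw [decomp (Q := Q) e f (g.1.1 x), h1, zero_smul, add_zero]
    rw [add_comm]
    congr 1
    rw [eq_comm, inv_smul_eq_iff₀ ht0, h2]
  obtain ⟨a, b, ha, hb, Hab⟩ := W_pair hG HP
  have ht1 : t⁻¹ * t⁻¹ = 1 := by
    have h := G_B g a b
    rw [hgx a ha, hgx b hb] at h
    simpa [polar_add_left, polar_add_right, polar_smul_left, polar_smul_right, ha.xe, hb.ex,
      polar_self_sing HP.ee, Hab.ef, mul_comm] using h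
  set y := proj Q e f (g.1.1 f) with hy
  have hgfe : polar Q (g.1.1 f) e = t⁻¹ := by
    have h := G_B g f e
    rw [HP.fe, ht, polar_smul_right, smul_eq_mul] at h
    exact eq_inv_of_mul_eq_one_right h
  have hti : t⁻¹ = t := by
    field_simp at ht1 ⊢
    linear_combination ht1
  have hgf : g.1.1 f = polar Q (g.1.1 f) f • e + t • f + y := by
    conv_lhs => rw [decomp (Q := Q) e f (g.1.1 f), hgfe, hti]
  have hyW : InW Q e f y := proj_mem HP _
  set c := polar Q (g.1.1 f) f with hc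
  have hu : InW Q e f (t • y) := hyW.smul t
  have htt : t * t = 1 := by rwa [hti] at ht1
  have hq : c * t + Q y = 0 := by
    have h := G_Q g f
    rw [HP.ff, hgf] at h
    simp only [QuadraticMap.map_add ⇑Q, QuadraticMap.map_smul, HP.ee, HP.ff, polar_add_left,
      polar_smul_left, polar_smul_right, HP.ef, hyW.ex, hyW.fx] at h
    simpa [mul_comm] using h
  refine ⟨t • y, hu, pr_eq_of_scalar hG htt fun z => ?_⟩
  conv_lhs => rw [decomp (Q := Q) e f z]
  conv_rhs => rw [decomp (Q := Q) e f z]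
  set w := proj Q e f z
  have hw : InW Q e f w := proj_mem HP z
  have hcw : polar Q (g.1.1 w) f = -polar Q w y := by
    have h := G_B g w f
    rw [hw.xf, hgx w hw, hgf] at h
    simp only [polar_add_left, polar_add_right, polar_smul_left, polar_smul_right, hw.xe, hw.xf,
      hyW.ex, polar_self_sing HP.ee, HP.ef, smul_eq_mul, mul_zero, mul_one, zero_add,
      add_zero] at h
    rw [hti] at h
    have : t * (polar Q w y + polar Q (g.1.1 w) f) = 0 := by linear_combination h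
    linear_combination (mul_eq_zero.1 this).resolve_left ht0
  have hgw : g.1.1 w = t • w + (-polar Q w y) • e := by
    rw [← hcw, ← hti]; exact hgx w hw
  simp only [map_add, map_smul, ht, hgf, hgw, sg_fix_self HP.ee hu.ex,
    sg_e_f HP hu, sg_e_fix HP hu hw, QuadraticMap.map_smul, polar_smul_right, smul_eq_mul]
  have hc' : c = -(Q y) * t := by linear_combination t * hq - c * htt
  rw [hc']
  rcases mul_self_eq_one_iff.1 htt with h | h <;> simp only [h] <;> module

/-- The root group is minimal among subgroups normalised by the Levi subgroup. -/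
theorem U_minimal (hG : Good Q) (HP : Fr Q e f) {M : Subgroup (G Q)} (hM : M ≤ U Q e)
    (hne : M ≠ ⊥)
    (hnorm : ∀ x u, InW Q e f x → InW Q e f u → Q x = 0 → polar Q x u = 0 → ∀ m ∈ M,
      sg Q x u * m * (sg Q x u)⁻¹ ∈ M) : M = U Q e := by
  let P : V → Prop := fun v => InW Q e f v ∧ sg Q e v ∈ M
  have padd : ∀ a b, P a → P b → P (a + b) := fun a b ha hb =>
    ⟨ha.1.add hb.1, by rw [sg_add HP.ee ha.1.ex hb.1.ex]; exact mul_mem ha.2 hb.2⟩
  have pneg : ∀ a, P a → P (-a) := fun a ha =>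
    ⟨ha.1.neg, by rw [sg_neg HP.ee ha.1.ex]; exact inv_mem ha.2⟩
  have pconj : ∀ x u, InW Q e f x → InW Q e f u → Q x = 0 → polar Q x u = 0 → ∀ v, P v →
      P ((sg Q x u).1.1 v) := by
    intro x u hx hu hxQ hxu v hv
    refine ⟨sg_stab_W hxQ hxu hx hu hv.1, ?_⟩
    have h := hnorm x u hx hu hxQ hxu _ hv.2
    rwa [sg_conj HP.ee hv.1.ex, sg_fix hxQ hxu hx.ex hu.ex] at h
  have line : ∀ y, InW Q e f y → Q y = 0 → ∀ v, P v → polar Q v y ≠ 0 → ∀ k : F, P (k • y) := by
    intro y hy hyQ v hv hvy k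
    have hy0 : y ≠ 0 := fun h => hvy (by rw [h, polar_zero_right])
    obtain ⟨y', hy', Hyy⟩ := W_partner hG HP hy hyQ hy0
    obtain ⟨u, w, hu, hw, hu', hw', -, huw⟩ := W_nonsing hG HP hy hy' Hyy
    set d := -(k / polar Q v y) with hd
    have hyu : polar Q y (d • u) = 0 := by rw [polar_smul_right, hu'.ex, smul_zero]
    have hyw : polar Q y w = 0 := hw'.ex
    have hys : polar Q y (d • u + w) = 0 := by rw [polar_add_right, hyu, hyw, add_zero]
    have h3 := padd _ _ (padd _ _ (pconj y _ hy ((hu.smul d).add hw) hyQ hys v hv) hv)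
      (pneg _ (padd _ _ (pconj y _ hy (hu.smul d) hyQ hyu v hv) (pconj y _ hy hw hyQ hyw v hv)))
    rw [← sub_eq_add_neg, sg_second hyQ hyu hyw, polar_smul_left, huw, smul_eq_mul, mul_one, hd,
      neg_mul, neg_neg, div_mul_cancel₀ _ hvy] at h3
    exact h3
  obtain ⟨m, hm, hm1⟩ : ∃ m ∈ M, m ≠ 1 := by
    by_contra! hno
    exact hne ((Subgroup.eq_bot_iff_forall M).2 hno)
  obtain ⟨v0, hv0, rfl⟩ := (mem_U_e HP).1 (hM hm)
  have hv00 : v0 ≠ 0 := fun h => hm1 (by rw [h, sg_zero HP.ee])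
  obtain ⟨y, hy, hyQ, hy0, hvy⟩ : ∃ y, InW Q e f y ∧ Q y = 0 ∧ y ≠ 0 ∧ polar Q v0 y ≠ 0 := by
    by_contra! h
    obtain ⟨w, hw, h1⟩ := W_nondeg hG HP hv0 hv00
    have h2 : ∀ x, InW Q e f x → polar Q v0 x = 0 :=
      W_induction hG HP (fun a b _ _ ha hb => by rw [polar_add_right, ha, hb, add_zero])
        fun x hx hxQ => by
          rcases eq_or_ne x 0 with rfl | hx0
          · exact polar_zero_right Q v0
          · exact h x hx hxQ hx0
    rw [h2 w hw] at h1
    exact zero_ne_one h1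
  have hpy : ∀ k : F, P (k • y) := line y hy hyQ v0 ⟨hv0, hm⟩ hvy
  have hall : ∀ x, InW Q e f x → Q x = 0 → P x := by
    intro x hx hxQ
    rcases eq_or_ne x 0 with rfl | hx0
    · simpa using hpy 0
    have hp1 : P y := by simpa using hpy 1
    by_cases h : polar Q y x = 0
    · obtain ⟨z, hz, hzQ, h1, h2⟩ := W_both hG HP hy hx hyQ hxQ hy0 hx0 h
      have hpz : P z := by simpa using line z hz hzQ y hp1 h1 1
      simpa using line x hx hxQ z hpz (by rw [polar_comm]; exact h2) 1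
    · simpa using line x hx hxQ y hp1 h 1
  refine le_antisymm hM fun g hg => ?_
  obtain ⟨u, hu, rfl⟩ := (mem_U_e HP).1 hg
  exact (W_induction hG HP (P := P) (fun a b _ _ ha hb => padd a b ha hb) hall u hu).2

end Cfsg.Agent.Lib.AutOmega
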