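import Cfsg.Agent.Lib.AutOmega.Inv
import Cfsg.Agent.Lib.Classical.QuadOmega.SingularApply

/-!
Maximal totally singular subspaces and properness; determinants of isometries.
-/

set_option autoImplicit false

namespace Cfsg.Agent.Lib.AutOmega

open QuadraticMap hiding proj
open Matrix Cfsg.Agent.Lib.Classical.Quad Cfsg.Agent.Lib.Classical.QuadOmega
open Cfsg.Agent.Lib.AutOmegaOdd (G Semi)

universe u

variable {F : Type u} [Field F] [Fintype F]

section det

variable {ι : Type} [Fintype ι] [DecidableEq ι] {f : (ι → F) → F} {Q : QuadraticForm F (ι → F)}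

/-- The determinant of an isometry is its Dickson invariant. -/
theorem det_toI (hQ : Nd Q) (hreg : Reg F (ι → F)) (hf : ∀ v, Q v = f v)
    (g : Cfsg.isometryGroup F f) :
    ((g : GL ι F) : Matrix ι ι F).det = (((dick hQ (toI hf g) : ℤˣ) : ℤ) : F) := by
  obtain ⟨l, hl, hlg⟩ := exists_refl_list hQ hreg (toI hf g)
  have hmat : ((g : GL ι F) : Matrix ι ι F) =
      (l.map fun v => Cfsg.reflectionMatrix (⇑Q) v).prod := by
    refine Matrix.ext_of_mulVec_single fun i => ?_
    rw [prod_reflection_mulVec _ l hl, hlg]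
    rfl
  rw [hmat, det_prod_reflection _ l hl, ← hlg, dick_prod_refl hQ l hl]
  push_cast
  rfl

theorem mem_special_iff (hQ : Nd Q) (h2 : (2 : F) ≠ 0) (hf : ∀ v, Q v = f v) {g : GL ι F} :
    g ∈ Cfsg.specialIsometryGL F f ↔
      ∃ h : g ∈ Cfsg.isometryGroup F f, dick hQ (toI hf ⟨g, h⟩) = 1 := by
  have key : ∀ h : g ∈ Cfsg.isometryGroup F f,
      g ∈ Cfsg.Geo.specialLinear ι F ↔ dick hQ (toI hf ⟨g, h⟩) = 1 := fun h => by
    have hd := det_toI hQ (reg_of_two_ne_zero h2) hf ⟨g, h⟩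
    rw [Cfsg.Geo.specialLinear, MonoidHom.mem_ker, Units.ext_iff,
      Matrix.GeneralLinearGroup.val_det_apply, hd, Units.val_one]
    rcases Int.units_eq_one_or (dick hQ (toI hf ⟨g, h⟩)) with e | e <;> rw [e]
    · simp
    · simp only [Units.val_neg, Units.val_one, Int.cast_neg, Int.cast_one]
      refine ⟨fun h1 => absurd ?_ h2, fun h1 => absurd h1 (by decide)⟩
      linear_combination -h1
  exact ⟨fun h => ⟨(Subgroup.mem_inf.1 h).1, (key _).1 (Subgroup.mem_inf.1 h).2⟩,
    fun ⟨h, hd⟩ => Subgroup.mem_inf.2 ⟨h, (key h).2 hd⟩⟩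

theorem psoAut_eq (D : Dat Q) (hf : ∀ v, Q v = f v) :
    Cfsg.psoAut F f = ((dick D.nd).ker.map (ofIso Q)).map (act hf D.good) := by
  refine le_antisymm ((Subgroup.closure_le _).2 ?_) ?_
  · rintro β ⟨g, hg, hβ⟩
    obtain ⟨h, hd⟩ := (mem_special_iff D.nd D.h2 hf).1 hg
    exact ⟨_, ⟨toI hf ⟨g, h⟩, hd, rfl⟩,
      (act_of_induced hf D.good (σ := RingEquiv.refl F) rfl (fun v => rfl) hβ).symm⟩
  · rintro _ ⟨_, ⟨k, hk, rfl⟩, rfl⟩
    refine Subgroup.subset_closure ?_
    obtain ⟨g, hg, hi⟩ := pair_of_semi hf D.good (ofIso Q k)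
    obtain ⟨⟨g', hg'⟩, rfl⟩ := (toI hf).surjective k
    obtain rfl : g = g' := Units.ext (Matrix.ext_of_mulVec_single fun i => hg _)
    exact ⟨g, (mem_special_iff D.nd D.h2 hf).2 ⟨hg', hk⟩, hi⟩

end det

/-! ### Classes of maximal totally singular subspaces of a hyperbolic form -/

variable {N : ℕ}

omit [Fintype F] in
theorem exists_sub_of_dim {W : Type*} [AddCommGroup W] [Module F W] [FiniteDimensional F W]
    (U : Submodule F W) {k : ℕ} (hk : k ≤ Module.finrank F U) :
    ∃ S ≤ U, Module.finrank F S = k := by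
  let B := Module.finBasis F U
  let f : Fin k → W := fun i => ((B (Fin.castLE hk i) : U) : W)
  refine ⟨Submodule.span F (Set.range f), Submodule.span_le.2 (by rintro _ ⟨i, rfl⟩; exact (B _).2), ?_⟩
  rw [finrank_span_eq_card (R := F) (b := f)
    ((B.linearIndependent.comp _ (Fin.castLE_injective _)).map' U.subtype
      (Submodule.ker_subtype U)), Fintype.card_fin]

theorem isMax_iff {U : Submodule F (Fin N ⊕ Fin N → F)} :
    Cfsg.IsMaxTotallySingular (Cfsg.quadFormPlus N F) U ↔ MaxTS (plusQ N F) U := by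
  have hle : ∀ W : Submodule F (Fin N ⊕ Fin N → F),
      (∀ w ∈ W, Cfsg.quadFormPlus N F w = 0) → Module.finrank F W ≤ N := fun W hW => by
    have h := (nd_plusQ (F := F) N).two_mul_finrank_le W fun x hx y hy =>
      TSing.polar_eq (Q := plusQ N F) (fun u hu => by rw [plusQ_apply]; exact hW u hu) hx hy
    rw [finrank_plus] at h
    omega
  constructor
  · rintro ⟨hU, hmax⟩
    have hX := maxTS_xPlane (F := F) N
    have hXd := ((maxTS_iff N _).1 hX).1
    obtain ⟨S, hS, hSd⟩ := exists_sub_of_dim (xPlane N F) (k := Module.finrank F U)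
      (by rw [hXd]; exact hle U hU)
    have hUT : TSing (plusQ N F) U := fun u hu => (plusQ_apply N u).trans (hU u hu)
    obtain ⟨g, hg⟩ := exists_map_TSing (nd_plusQ N) hUT (fun v hv => hX.sing v (hS hv)) hSd.symm
    have hsub : U ≤ imgS g⁻¹ (xPlane N F) := fun u hu => mem_imgS.2
      ⟨g.1 u, hS (hg ▸ mem_imgS.2 ⟨u, hu, rfl⟩), g.1.symm_apply_apply u⟩
    have hM := hX.img g⁻¹
    rw [← hmax _ (fun w hw => (plusQ_apply N w).symm.trans (hM.sing w hw)) hsub]
    exact hM
  · intro h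
    obtain ⟨hd, hU⟩ := (maxTS_iff N U).1 h
    exact ⟨hU, fun W hW hle' => (Submodule.eq_of_le_of_finrank_le hle' (by rw [hd]; exact hle W hW)).symm⟩

theorem sameParity_iff {U W : Submodule F (Fin N ⊕ Fin N → F)} (hU : MaxTS (plusQ N F) U) :
    Cfsg.SameParityClass U W ↔ parS U W = (-1) ^ N := by
  have hd := ((maxTS_iff N U).1 hU).1
  have hle := Submodule.finrank_mono (inf_le_left : U ⊓ W ≤ U)
  rw [parS, parS_eq_iff (m := N) (by omega) le_rfl, Cfsg.SameParityClass, hd, Nat.sub_self,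
    Nat.zero_mod, Nat.even_iff]

theorem parS_symm (U W : Submodule F (Fin N ⊕ Fin N → F)) : parS U W = parS W U := by
  rw [parS, parS, inf_comm]

/-- The parity of two maximal subspaces from their classes. -/
theorem parS_of_classes {U X : Submodule F (Fin N ⊕ Fin N → F)} (hU : MaxTS (plusQ N F) U)
    (hX : MaxTS (plusQ N F) X) :
    parS X U = (-1) ^ N * (parS (xPlane N F) U * parS (xPlane N F) X) := by
  have hW := maxTS_xPlane (F := F) N
  have h := parS_trans (nd_plusQ N) hU hW hX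
  have e : parS (xPlane N F) (xPlane N F) = (-1) ^ N := by
    rw [parS, inf_idem, ((maxTS_iff N _).1 hW).1]
  rw [e, parS_symm X (xPlane N F)] at h
  rw [← mul_left_cancel_iff (a := parS (xPlane N F) U), ← h]
  have hU2 : ∀ s : ℤˣ, s * s = 1 := Int.units_mul_self
  calc parS (xPlane N F) X * (-1) ^ N = (-1) ^ N * parS (xPlane N F) X := mul_comm _ _
    _ = parS (xPlane N F) U * parS (xPlane N F) U * ((-1) ^ N * parS (xPlane N F) X) := by
        rw [hU2, one_mul]
    _ = _ := by ac_rfl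

/-- A map fixing the coordinate subspace followed by an isometry. -/
theorem psc_plus (h2 : (2 : F) ≠ 0) (g : Matrix (Fin N ⊕ Fin N) (Fin N ⊕ Fin N) F)
    (D : (Fin N ⊕ Fin N → F) ≃ₗ[F] (Fin N ⊕ Fin N → F)) {c : F} (hD : ∀ v, plusQ N F (D v) = c * plusQ N F v)
    (hDx : ∀ v ∈ xPlane N F, D v ∈ xPlane N F)
    (h : isoG (plusQ N F)) (hg : ∀ v, g *ᵥ v = D (h.1 v)) :
    Cfsg.PreservesSingularClasses (Cfsg.quadFormPlus N F) g ↔ dick (nd_plusQ N) h = 1 := by
  have hDX : (xPlane N F).map (D : _ →ₗ[F] _) = xPlane N F := Submodule.eq_of_le_of_finrank_le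
    (fun v hv => by obtain ⟨w, hw, rfl⟩ := hv; exact hDx w hw)
    (by rw [LinearEquiv.finrank_map_eq])
  have key : ∀ U, MaxTS (plusQ N F) U →
      (Cfsg.SameParityClass U (Cfsg.imageSubmodule g U) ↔ dick (nd_plusQ N) h = 1) := by
    intro U hU
    have himg : Cfsg.imageSubmodule g U = (imgS h U).map (D : _ →ₗ[F] _) := by
      ext v
      constructor
      · rintro ⟨u, hu, rfl⟩
        exact ⟨h.1 u, mem_imgS.2 ⟨u, hu, rfl⟩, (hg u).symm⟩
      · rintro ⟨w, hw, rfl⟩
        obtain ⟨u, hu, rfl⟩ := mem_imgS.1 hw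
        exact ⟨u, hu, hg u⟩
    have hX := hU.img h
    have hY : MaxTS (plusQ N F) ((imgS h U).map (D : _ →ₗ[F] _)) :=
      ⟨fun v hv => by obtain ⟨w, hw, rfl⟩ := hv; exact (hD w).trans (by rw [hX.sing w hw, mul_zero]),
        by rw [LinearEquiv.finrank_map_eq]; exact hX.dim⟩
    have hcls : parS (xPlane N F) ((imgS h U).map (D : _ →ₗ[F] _)) = parS (xPlane N F) (imgS h U) := by
      conv_lhs => rw [← hDX]
      rw [parS, parS, ← Submodule.map_inf _ D.injective, LinearEquiv.finrank_map_eq]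
    rw [sameParity_iff hU, himg, parS_of_classes hY hU, hcls, ← parS_of_classes hX hU,
      dick_eq_parS (reg_of_two_ne_zero h2) h hU]
    generalize parS U (imgS h U) = s
    rcases Int.units_eq_one_or s with rfl | rfl <;> rcases Nat.even_or_odd N with e | e <;>
      simp [e.neg_one_pow]
  exact ⟨fun hp => (key _ (maxTS_xPlane N)).1 (hp _ (isMax_iff.2 (maxTS_xPlane N))),
    fun hd U hU => (key U (isMax_iff.1 hU)).2 hd⟩

section transport

omit [Fintype F]
variable {ι κ : Type} [Fintype ι] [DecidableEq ι] [Fintype κ] [DecidableEq κ]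
  {f : (ι → F) → F} {f' : (κ → F) → F} (E : (ι → F) ≃ₗ[F] (κ → F))

theorem isMax_map (hE : ∀ v, f' (E v) = f v) {U : Submodule F (ι → F)}
    (hU : Cfsg.IsMaxTotallySingular f U) : Cfsg.IsMaxTotallySingular f' (U.map (E : _ →ₗ[F] _)) := by
  refine ⟨fun w hw => ?_, fun W hW hle => ?_⟩
  · obtain ⟨u, hu, rfl⟩ := hw
    exact (hE u).trans (hU.1 u hu)
  · have h := hU.2 (W.comap (E : (ι → F) →ₗ[F] (κ → F))) (fun u hu => (hE u).symm.trans (hW _ (Submodule.mem_comap.1 hu)))
      (Submodule.map_le_iff_le_comap.1 hle)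
    conv_rhs => rw [← h]
    rw [Submodule.map_comap_eq_of_surjective E.surjective]

theorem psc_congr_one (hE : ∀ v, f' (E v) = f v) {g : Matrix ι ι F} {g' : Matrix κ κ F}
    (hg : ∀ v, E (g *ᵥ v) = g' *ᵥ E v) (h : Cfsg.PreservesSingularClasses f' g') :
    Cfsg.PreservesSingularClasses f g := fun U hU => by
  have h1 := h _ (isMax_map E hE hU)
  have e : Cfsg.imageSubmodule g' (U.map (E : _ →ₗ[F] _)) =
      (Cfsg.imageSubmodule g U).map (E : _ →ₗ[F] _) := by
    rw [Cfsg.imageSubmodule, Cfsg.imageSubmodule, ← Submodule.map_comp, ← Submodule.map_comp]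
    congr 1
    exact LinearMap.ext fun v => (hg v).symm
  rw [e, Cfsg.SameParityClass, ← Submodule.map_inf _ E.injective, LinearEquiv.finrank_map_eq,
    LinearEquiv.finrank_map_eq] at h1
  exact h1

theorem psc_congr (hE : ∀ v, f' (E v) = f v) {g : Matrix ι ι F} {g' : Matrix κ κ F}
    (hg : ∀ v, E (g *ᵥ v) = g' *ᵥ E v) :
    Cfsg.PreservesSingularClasses f g ↔ Cfsg.PreservesSingularClasses f' g' :=
  ⟨psc_congr_one E.symm (fun v => by rw [← hE, E.apply_symm_apply]) (g := g') (g' := g) fun v => by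
    rw [E.symm_apply_eq, hg, E.apply_symm_apply], psc_congr_one E hE hg⟩

end transport

end Cfsg.Agent.Lib.AutOmega
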