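import Cfsg.Agent.Lib.AutOmega.Parity
import Cfsg.Agent.Lib.AutPSp.Lang
import Cfsg.Agent.Lib.AutPSp.Split
import Cfsg.Agent.Lib.Classical.QuadOmega.Normal

/-!
Semisimilitudes with scalar power: the rational form, its type, and conjugacy to a standard one.
-/

set_option autoImplicit false

namespace Cfsg.Agent.Lib.AutOmega

open QuadraticMap hiding proj
open Matrix Cfsg.Agent.Lib.Classical.Quad Cfsg.Agent.Lib.Classical.QuadOmega Cfsg.Agent.Lib.Classical.QuadF2
open Cfsg.Agent.Lib.AutOmegaOdd (Semi)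

universe u w

variable {F : Type u} [Field F] {K : Type w} [Field K] (em : K →+* F) {σ : F ≃+* F}

section forms

variable {ι : Type} [Fintype ι] [DecidableEq ι] {Q : QuadraticForm F (ι → F)}

theorem exists_nonsing_vec [Nonempty ι] (hQ : Nd Q) : ∃ v, Q v ≠ 0 :=
  Nd.exists_nonsing (V := ι → F) hQ

/-- A semisimilitude is determined by its map. -/
theorem semi_ext_map [Nonempty ι] (hQ : Nd Q) {A B : Semi Q} (hσ : A.σ = B.σ)
    (h : ∀ v, A.map v = B.map v) : A = B := by
  refine semi_ext hσ ?_ h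
  obtain ⟨v, hv⟩ := exists_nonsing_vec hQ
  have h1 := A.map_Q v
  rw [h, B.map_Q, hσ] at h1
  exact (mul_right_cancel₀ ((map_ne_zero B.σ).2 hv) h1).symm

/-- The semilinear matrix of a semisimilitude. -/
theorem exists_mat (ψ : Semi Q) :
    ∃ g : GL ι F, ∀ v, (g : Matrix ι ι F) *ᵥ (fun i => ψ.σ (v i)) = ψ.map v := by
  let L : (ι → F) ≃ₗ[F] (ι → F) :=
    { (AddEquiv.piCongrRight fun _ : ι => ψ.σ.symm.toAddEquiv).trans ψ.map with
      map_smul' := fun c v => by
        show ψ.map (fun i => ψ.σ.symm ((c • v) i)) = c • ψ.map fun i => ψ.σ.symm (v i)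
        rw [show (fun i => ψ.σ.symm ((c • v) i)) = ψ.σ.symm c • fun i => ψ.σ.symm (v i) by
          funext i; simp, ψ.map_smul, RingEquiv.apply_symm_apply] }
  refine ⟨(toAut (LinearEquiv.refl F (ι → F))).symm L, fun v => ?_⟩
  have h := toAut_apply (LinearEquiv.refl F (ι → F)) ((toAut (LinearEquiv.refl F (ι → F))).symm L)
    fun i => ψ.σ (v i)
  rw [MulEquiv.apply_symm_apply] at h
  refine (h.trans rfl).symm.trans ?_
  show ψ.map (fun i => ψ.σ.symm (ψ.σ (v i))) = _
  simp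

variable [Fintype F]

theorem pow_map_mat {ψ : Semi Q} {g : GL ι F}
    (hg : ∀ v, (g : Matrix ι ι F) *ᵥ (fun i => ψ.σ (v i)) = ψ.map v) (n : ℕ) (v : ι → F) :
    (ψ ^ n).map v = ((AutPSL.tw (AutPSp.mapG ψ.σ) g n : GL ι F) : Matrix ι ι F) *ᵥ
      fun i => (ψ.σ ^ n : F ≃+* F) (v i) := by
  induction n generalizing v with
  | zero => simp
  | succ k ih =>
    rw [pow_succ', semi_mul_map, ih, ← hg, AutPSL.tw_succ, Units.val_mul, pow_succ', ← mulVec_mulVec]
    congr 1
    exact (map_mulVec_field ψ.σ _ _).symm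

variable [Fintype K]

/-- The rational form of a semisimilitude with scalar power. -/
theorem exists_rational [Nonempty ι] (hQ : Nd Q) (hι : ∀ x : F, σ x = x ↔ x ∈ Set.range em)
    {r : ℕ} (hr : orderOf σ = r) (hr0 : 0 < r) {ψ : Semi Q} (hψ : ψ.σ = σ) {l : Fˣ}
    (hl : ψ ^ r = ofScalar Q l) :
    ∃ (R₀ : QuadraticForm K (ι → K)) (A : (ι → F) ≃ₗ[F] (ι → F)) (d : F) (c : Fˣ), d ≠ 0 ∧
      Compat em A R₀ (d⁻¹ • Q) ∧ Nd R₀ ∧ ∀ v, ψ.map (kp em A v) = (c : F) • kp em A v := by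
  subst hψ
  obtain ⟨g, hg⟩ := exists_mat ψ
  have hord : ψ.σ ^ r = 1 := by rw [← hr]; exact pow_orderOf_eq_one _
  have hl' : AutPSL.tw (AutPSp.mapG ψ.σ) g r = GeneralLinearGroup.scalar ι l := by
    refine Units.ext (Matrix.ext_iff_mulVec.2 fun v => ?_)
    have h := pow_map_mat hg r v
    rw [hl, hord, ofScalar_map] at h
    refine h.symm.trans ?_
    simp [GeneralLinearGroup.scalar, ← Matrix.smul_one_eq_diagonal, smul_mulVec]
  obtain ⟨c, hc⟩ := AutPSp.exists_scalarG_normalise hr hr0 hl'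
  obtain ⟨a, ha⟩ := AutPSp.langG hr hr0 hc
  let A : (ι → F) ≃ₗ[F] (ι → F) := toAut (LinearEquiv.refl F (ι → F)) a
  have hA : ∀ v, kp em A v = (a : Matrix ι ι F) *ᵥ fun i => em (v i) := fun v =>
    toAut_apply (LinearEquiv.refl F (ι → F)) a _
  have hfix : ∀ v, ψ.map (kp em A v) = ((c⁻¹ : Fˣ) : F) • kp em A v := by
    intro v
    have e : (c : F) • ψ.map (kp em A v) = kp em A v := by
      rw [← hg, hA]
      conv_rhs => rw [← ha]
      simp only [Units.val_mul, ← mulVec_mulVec]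
      rw [show ((AutPSp.mapG ψ.σ a : GL ι F) : Matrix ι ι F) *ᵥ (fun i => em (v i)) =
        fun i => ψ.σ (((a : Matrix ι ι F) *ᵥ fun i => em (v i)) i) from ?_]
      · simp [GeneralLinearGroup.scalar, ← Matrix.smul_one_eq_diagonal, smul_mulVec]
      · conv_lhs => arg 2; ext i; rw [← (hι (em (v i))).2 ⟨v i, rfl⟩]
        exact map_mulVec_field ψ.σ _ _
    conv_rhs => rw [← e, smul_smul, Units.inv_mul, one_smul]
  have hval : ∀ v, ψ.H * ψ.σ (Q (kp em A v)) = (((c⁻¹ : Fˣ) : F) * ((c⁻¹ : Fˣ) : F)) * Q (kp em A v) := by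
    intro v
    rw [← ψ.map_Q, hfix, QuadraticMap.map_smul, smul_eq_mul]
  obtain ⟨u, hu⟩ : ∃ u, Q (kp em A u) ≠ 0 := by
    by_contra! h0
    obtain ⟨z, hz⟩ := exists_nonsing_vec hQ
    refine hz ((form_semilin em A (S := Q) (Q := Q) (RingHom.id F) (AddMonoidHom.id _)
      (fun _ _ => rfl) 0 (fun v => by rw [AddMonoidHom.id_apply, h0, zero_mul]) z).trans (zero_mul _))
  set d := Q (kp em A u) with hd
  have hrat : ∀ v, d⁻¹ * Q (kp em A v) ∈ Set.range em := fun v => (hι _).1 (by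
    rw [map_mul, map_inv₀]
    have h1 := hval v
    have h2 := hval u
    rw [← hd] at h2
    have hσd : ψ.σ d ≠ 0 := (map_ne_zero ψ.σ).2 hu
    have hH := ψ.H0
    field_simp
    refine mul_left_cancel₀ hH ?_
    linear_combination d * h1 - Q (kp em A v) * h2)
  choose R₀f hR₀f using hrat
  have hpol : ∀ v w : ι → K, em (polar R₀f v w) = d⁻¹ * polar Q (kp em A v) (kp em A w) := by
    intro v w
    simp only [polar, map_sub, hR₀f, kp_add]
    ring
  let R₀ : QuadraticForm K (ι → K) := QuadraticMap.ofPolar R₀f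
    (fun a v => em.injective (by
      rw [smul_eq_mul, map_mul, map_mul, hR₀f, hR₀f, kp_smul, QuadraticMap.map_smul, smul_eq_mul]
      ring))
    (fun v v' w => em.injective (by rw [map_add, hpol, hpol, hpol, kp_add, polar_add_left, mul_add]))
    (fun a v w => em.injective (by
      rw [smul_eq_mul, map_mul, hpol, hpol, kp_smul, polar_smul_left, smul_eq_mul]
      ring))
  have hC : Compat em A R₀ (d⁻¹ • Q) := fun v => (hR₀f v).symm
  refine ⟨R₀, A, d, c⁻¹, hu, hC, nd_of_compat hC fun x hx => hQ x fun y => ?_, hfix⟩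
  have h := hx y
  simp only [polar, QuadraticMap.smul_apply, smul_eq_mul, ← mul_sub, mul_eq_zero] at h
  exact h.resolve_left (inv_ne_zero hu)

end forms

section conj

variable [Fintype F] [Fintype K] {ι κ : Type} [Fintype ι] [DecidableEq ι] [Fintype κ] [DecidableEq κ]
  {f : (ι → F) → F} {Q : QuadraticForm F (ι → F)} {R : QuadraticForm K (κ → K)}
  {hf : ∀ v, Q v = f v} {hG : Good Q} {G : Subgroup (MulAut (Cfsg.POmega F f))}
  {J : (κ → F) ≃ₗ[F] (ι → F)}

omit [Fintype F] [Fintype K] [Fintype κ] [DecidableEq κ] in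
theorem one_σ_fix (hι : ∀ x : F, σ x = x ↔ x ∈ Set.range em) (x : K) :
    σ (em x) = em ((1 : Semi R).σ x) := (hι _).2 ⟨x, rfl⟩

variable {em}

/-- The standard semisimilitude of a rational form. -/
noncomputable def stdS (h : Compat em J R Q) (hι : ∀ x : F, σ x = x ↔ x ∈ Set.range em) : Semi Q :=
  extSemi h 1 σ (one_σ_fix em hι)

variable {h : Compat em J R Q} {hι : ∀ x : F, σ x = x ↔ x ∈ Set.range em}

theorem stdS_σ : (stdS h hι).σ = σ := rfl

theorem stdS_kp (v : κ → K) : (stdS h hι).map (kp em J v) = kp em J v :=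
  extSemi_kp 1 σ (one_σ_fix em hι) v

theorem stdS_comm (g : (sigmaHom R).ker) :
    stdS h hι * extHom h g = extHom h g * stdS h hι :=
  semi_eq_of_kp (em := em) (J := J) (by simp [extHom_σ, stdS_σ])
    (by
      simp only [semi_mul_H, stdS, extSemi_H, extSemi_σ, extHom_H, extHom_σ, semi_one_H, map_one,
        one_mul, RingAut.one_apply, mul_one]
      exact (hι _).2 ⟨_, rfl⟩)
    fun v => by rw [semi_mul_map, semi_mul_map, extHom_kp, stdS_kp, stdS_kp, extHom_kp]

theorem stdS_pow {r : ℕ} (hr : orderOf σ = r) : (stdS h hι) ^ r = 1 := by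
  have hm : ∀ (n : ℕ) (v : κ → K), ((stdS h hι) ^ n).map (kp em J v) = kp em J v := by
    intro n
    induction n with
    | zero => intro v; rfl
    | succ k ih => intro v; rw [pow_succ, semi_mul_map, stdS_kp, ih]
  refine semi_eq_of_kp (em := em) (J := J) ?_ ?_ fun v => by rw [hm]; rfl
  · rw [semi_pow_σ, stdS_σ, ← hr, pow_orderOf_eq_one]; rfl
  · rw [semi_pow_H _ (by simp [stdS])]; rfl

/-- A semisimilitude with a rational form isometric to a standard one is conjugate to the standard one. -/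
theorem exists_conj_std [Nonempty ι] [Nonempty κ] (D : Proper hf hG G) (h : Compat em J R Q)
    (hι : ∀ x : F, σ x = x ↔ x ∈ Set.range em) {R₀ : QuadraticForm K (ι → K)}
    {A : (ι → F) ≃ₗ[F] (ι → F)} {d : F} {c : Fˣ} (hd : d ≠ 0)
    (hC : Compat em A R₀ (d⁻¹ • Q)) {ψ : Semi Q} (hψ : ψ.σ = σ)
    (hfix : ∀ v, ψ.map (kp em A v) = (c : F) • kp em A v)
    (e : (κ → K) ≃ₗ[K] (ι → K)) (he : ∀ v, R₀ (e v) = R v) :
    ∃ a ∈ D.P, ψ * a = ofScalar Q c * (a * stdS h hι) := by
  have hQn : Nd Q := hG.nd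
  let L : (ι → F) →ₗ[F] (ι → F) :=
    { toFun := fun z => ∑ i, J.symm z i • kp em A (e (Pi.single i 1))
      map_add' := fun x y => by simp [add_smul, Finset.sum_add_distrib]
      map_smul' := fun t x => by simp [Finset.smul_sum, smul_smul] }
  have hLkp : ∀ v, L (kp em J v) = kp em A (e v) := fun v => by
    show ∑ i, J.symm (kp em J v) i • _ = _
    conv_rhs => rw [pi_eq_sum_univ' v, map_sum, kp_sum]
    exact Finset.sum_congr rfl fun i _ => by rw [kp, J.symm_apply_apply, map_smul, kp_smul]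
  have hLQ : ∀ z, Q (L z) = d * Q z := by
    intro z
    refine (form_semilin em J (RingHom.id F) L.toAddMonoidHom L.map_smul d (fun v => ?_) z)
    show Q (L (kp em J v)) = d * Q (kp em J v)
    rw [hLkp, h, ← he, ← hC, QuadraticMap.smul_apply, smul_eq_mul, mul_inv_cancel_left₀ hd]
  have hinj : Function.Injective L := (injective_iff_map_eq_zero L).2 fun z hz => hQn z fun y => by
    have h1 : polar Q (L z) (L y) = d * polar Q z y := by simp only [polar, ← map_add, hLQ]; ring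
    rw [hz, polar_zero_left, eq_comm, mul_eq_zero] at h1
    exact h1.resolve_left hd
  let Le := LinearEquiv.ofInjectiveEndo L hinj
  let a₀ : Semi Q :=
    { σ := 1, H := d, H0 := hd, map := Le.toAddEquiv, map_smul := Le.map_smul, map_Q := hLQ }
  have key : ψ * a₀ = ofScalar Q c * (a₀ * stdS h hι) :=
    semi_ext_map hQn (by simp [a₀, hψ, stdS_σ]) fun z => by
      refine semilin_ext em J (fun t => σ t) (fun z => (ψ * a₀).map z)
        (fun z => (ofScalar Q c * (a₀ * stdS h hι)).map z) (map_add (ψ * a₀).map)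
        (map_add (ofScalar Q c * (a₀ * stdS h hι)).map) (fun t x => ?_) (fun t x => ?_) (fun v => ?_) z
      · rw [(ψ * a₀).map_smul]
        simp [a₀, hψ]
      · rw [(ofScalar Q c * (a₀ * stdS h hι)).map_smul]
        simp [a₀, stdS_σ]
      · simp only [semi_mul_map, ofScalar_map, stdS_kp]
        show ψ.map (L (kp em J v)) = (c : F) • L (kp em J v)
        rw [hLkp, hfix]
  obtain ⟨w, hw⟩ := exists_nonsing_vec (nd_of_compat h hQn)
  obtain ⟨er, hv⟩ := extI_refl (h := h) hw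
  rcases D.mem_or hf hG (g := a₀) rfl hv with ha | ha
  · exact ⟨a₀, ha, key⟩
  · refine ⟨_, ha, ?_⟩
    rw [← mul_assoc, key, ← er, ofIso_extI]
    simp only [mul_assoc]
    rw [stdS_comm]

/-- The same for automorphisms. -/
theorem act_conj_std [Nonempty ι] [Nonempty κ] (D : Proper hf hG G) (h : Compat em J R Q)
    (hι : ∀ x : F, σ x = x ↔ x ∈ Set.range em) {R₀ : QuadraticForm K (ι → K)}
    {A : (ι → F) ≃ₗ[F] (ι → F)} {d : F} {c : Fˣ} (hd : d ≠ 0)
    (hC : Compat em A R₀ (d⁻¹ • Q)) {ψ : Semi Q} (hψ : ψ.σ = σ)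
    (hfix : ∀ v, ψ.map (kp em A v) = (c : F) • kp em A v)
    (e : (κ → K) ≃ₗ[K] (ι → K)) (he : ∀ v, R₀ (e v) = R v) :
    ∃ a ∈ G, act hf hG ψ = a * act hf hG (stdS h hι) * a⁻¹ := by
  obtain ⟨a, ha, he'⟩ := exists_conj_std D h hι hd hC hψ hfix e he
  refine ⟨act hf hG a, D.eq ▸ ⟨a, ha, rfl⟩, ?_⟩
  rw [eq_mul_inv_iff_mul_eq, ← map_mul, ← map_mul]
  exact (act_eq_iff hf hG).2 ⟨c, he'⟩

end conj

end Cfsg.Agent.Lib.AutOmega
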