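import Cfsg.Agent.Lib.AutOmega.Sim
import Cfsg.Agent.Lib.AutPSL.Facts
import Mathlib.RingTheory.AdjoinRoot
import Mathlib.FieldTheory.Finite.Basic
import Mathlib.Algebra.Polynomial.SpecificDegree

/-!
A Frobenius semisimilitude of a minus form and its power.
-/

set_option autoImplicit false

namespace Cfsg.Agent.Lib.AutOmega

open QuadraticMap hiding proj
open Cfsg.Agent.Lib.Classical.Quad Cfsg.Agent.Lib.Classical.QuadOmega Cfsg.Agent.Lib.Classical.QuadF2
open Cfsg.Agent.Lib.AutOmegaOdd (Semi)

universe u v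

variable {F : Type u} [Field F] [Fintype F]

section gal

variable {p f : ℕ} [Fact p.Prime]

/-- The Frobenius generates. -/
theorem exists_frob (hf : 1 ≤ f) (hF : Fintype.card F = p ^ f) :
    ∃ σ : F ≃+* F, (∀ x, σ x = x ^ p) ∧ (∀ (n : ℕ) x, (σ ^ n) x = x ^ p ^ n) ∧ orderOf σ = f ∧
      Nat.card (F ≃+* F) = f := by
  haveI : CharP F p := charP_of_card_eq_prime_pow (R := F) (f := f) hF
  haveI : ExpChar F p := ExpChar.prime (Fact.out)
  haveI : PerfectRing F p := PerfectRing.ofFiniteOfIsReduced p F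
  refine ⟨frobeniusEquiv F p, fun x => rfl, ?_⟩
  set σ := frobeniusEquiv F p
  have hn : ∀ (n : ℕ) x, (σ ^ n) x = x ^ p ^ n := by
    intro n
    induction n with
    | zero => intro x; simp
    | succ n ih =>
      intro x
      rw [pow_succ', RingAut.mul_apply, ih, pow_succ, pow_mul]
      rfl
  obtain ⟨e⟩ := AutPSL.ringAut_equiv (F := F) hf hF
  have hcard : Nat.card (F ≃+* F) = f := by
    rw [Nat.card_congr e.toEquiv, Nat.card_congr Multiplicative.toAdd, Nat.card_zmod]
  refine ⟨hn, (orderOf_eq_iff hf).2 ⟨RingEquiv.ext fun x => ?_, fun n hnf hn0 h => ?_⟩, hcard⟩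
  · rw [hn, ← hF, RingAut.one_apply]
    exact FiniteField.pow_card x
  · obtain ⟨u, hu⟩ := IsCyclic.exists_ofOrder_eq_natCard (α := Fˣ)
    have h2 : (u : F) ^ p ^ n = u := by rw [← hn, h]; rfl
    have hpn : 1 < p ^ n := Nat.one_lt_pow (by omega) (Fact.out : p.Prime).one_lt
    have h1 : u ^ (p ^ n - 1) = 1 := by
      refine mul_right_cancel (b := u) ?_
      rw [← pow_succ, Nat.sub_add_cancel hpn.le, one_mul]
      exact Units.ext (by simpa using h2)
    have hd := orderOf_dvd_of_pow_eq_one h1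
    rw [hu, Nat.card_units, Nat.card_eq_fintype_card, hF] at hd
    have hlt : p ^ n < p ^ f := Nat.pow_lt_pow_right (Fact.out : p.Prime).one_lt hnf
    have := Nat.le_of_dvd (by omega) hd
    omega

theorem exists_pow_eq (hf : 1 ≤ f) {σ : F ≃+* F} (ho : orderOf σ = f)
    (hc : Nat.card (F ≃+* F) = f) (τ : F ≃+* F) : ∃ j : ℕ, τ = σ ^ j := by
  have hfin : IsOfFinOrder σ := orderOf_pos_iff.1 (by omega)
  have htop : Subgroup.zpowers σ = ⊤ := by
    have : Finite (F ≃+* F) := Nat.finite_of_card_ne_zero (by omega)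
    exact Subgroup.eq_top_of_card_eq _ (by rw [Nat.card_zpowers, ho, hc])
  have : τ ∈ Subgroup.zpowers σ := htop ▸ Subgroup.mem_top τ
  obtain ⟨j, hj⟩ := hfin.mem_powers_iff_mem_zpowers.2 this
  exact ⟨j, hj.symm⟩

end gal

theorem semi_pow_map {V : Type v} [AddCommGroup V] [Module F V] {Q : QuadraticForm F V} (ψ : Semi Q)
    (n : ℕ) (v : V) : (ψ ^ n).map v = (fun x => ψ.map x)^[n] v := by
  induction n generalizing v with
  | zero => rfl
  | succ k ih => rw [pow_succ, semi_mul_map, ih, Function.iterate_succ_apply]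

theorem semi_pow_σ {V : Type v} [AddCommGroup V] [Module F V] {Q : QuadraticForm F V} (ψ : Semi Q)
    (n : ℕ) : (ψ ^ n).σ = ψ.σ ^ n := map_pow (sigmaHom Q) ψ n

theorem semi_pow_H {V : Type v} [AddCommGroup V] [Module F V] {Q : QuadraticForm F V} (ψ : Semi Q)
    (hH : ψ.H = 1) (n : ℕ) : (ψ ^ n).H = 1 := by
  induction n with
  | zero => rfl
  | succ k ih => rw [pow_succ', semi_mul_H, hH, ih, map_one, one_mul]

/-! ### Building a semisimilitude of a minus form -/

variable {a b : F} {m : ℕ}

omit [Fintype F] in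
theorem frob_xl {m : ℕ} (p : ((Fin m → F) × (Fin m → F)) × (Fin 2 → F)) (i : Fin m) :
    eMinus m p (.inl (.inl i)) = p.1.1 i := rfl

omit [Fintype F] in
theorem frob_xr {m : ℕ} (p : ((Fin m → F) × (Fin m → F)) × (Fin 2 → F)) (i : Fin m) :
    eMinus m p (.inl (.inr i)) = p.1.2 i := rfl

omit [Fintype F] in
theorem frob_z {m : ℕ} (p : ((Fin m → F) × (Fin m → F)) × (Fin 2 → F)) (j : Fin 2) :
    eMinus m p (.inr j) = p.2 j := rfl

/-- The semilinear map acting on coordinates. -/
noncomputable def binSemi (σ : F ≃+* F) (psi : (Fin 2 → F) →+ (Fin 2 → F))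
    (hinj : Function.Injective psi) (hsm : ∀ (c : F) z, psi (c • z) = σ c • psi z)
    (hN : ∀ z, binQ a b (psi z) = σ (binQ a b z)) : Semi (minusQ m a b) :=
  let L : ((Fin m ⊕ Fin m) ⊕ Fin 2 → F) →+ ((Fin m ⊕ Fin m) ⊕ Fin 2 → F) :=
    { toFun := fun v => eMinus m ((fun i => σ (v (.inl (.inl i))), fun i => σ (v (.inl (.inr i)))),
        psi (fun j => v (.inr j)))
      map_zero' := by
        rw [show (fun j : Fin 2 => (0 : (Fin m ⊕ Fin m) ⊕ Fin 2 → F) (.inr j)) = 0 from rfl, map_zero]
        ext ((i | i) | i) <;> simp [frob_xl, frob_xr, frob_z]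
      map_add' := fun v w => by
        rw [show (fun j : Fin 2 => (v + w) (.inr j)) = (fun j => v (.inr j)) + fun j => w (.inr j)
          from rfl, map_add]
        ext ((i | i) | i) <;> simp [frob_xl, frob_xr, frob_z] }
  have hL : Function.Injective L := fun v w h => by
    have h' := (eMinus m).injective h
    simp only [Prod.mk.injEq, funext_iff] at h'
    ext ((i | i) | j)
    · exact σ.injective (h'.1.1 i)
    · exact σ.injective (h'.1.2 i)
    · exact congrFun (hinj (funext h'.2)) j
  { σ := σ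
    H := 1
    H0 := one_ne_zero
    map := AddEquiv.ofBijective L (Finite.injective_iff_bijective.1 hL)
    map_smul := fun c v => by
      show L (c • v) = σ c • L v
      show eMinus m _ = σ c • eMinus m _
      rw [← map_smul]
      congr 1
      exact Prod.ext (Prod.ext (funext fun i => by simp) (funext fun i => by simp))
        (hsm c fun j => v (.inr j))
    map_Q := fun v => by
      show minusQ m a b (L v) = 1 * σ (minusQ m a b v)
      rw [one_mul, minusQ_apply, minusQ_apply]
      show Cfsg.quadFormMinus m F a b (eMinus m _) = _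
      rw [minus_apply, splitQ_apply, hN, Cfsg.quadFormMinus, map_add, map_sum, binQ_apply]
      simp }

theorem binSemi_σ (σ : F ≃+* F) (psi : (Fin 2 → F) →+ (Fin 2 → F))
    (hinj : Function.Injective psi) (hsm : ∀ (c : F) z, psi (c • z) = σ c • psi z)
    (hN : ∀ z, binQ a b (psi z) = σ (binQ a b z)) :
    (binSemi (m := m) σ psi hinj hsm hN).σ = σ := rfl

theorem binSemi_map (σ : F ≃+* F) (psi : (Fin 2 → F) →+ (Fin 2 → F))
    (hinj : Function.Injective psi) (hsm : ∀ (c : F) z, psi (c • z) = σ c • psi z)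
    (hN : ∀ z, binQ a b (psi z) = σ (binQ a b z)) (v : (Fin m ⊕ Fin m) ⊕ Fin 2 → F) :
    (binSemi (m := m) σ psi hinj hsm hN).map v =
      eMinus m ((fun i => σ (v (.inl (.inl i))), fun i => σ (v (.inl (.inr i)))),
        psi (fun j => v (.inr j))) := rfl

theorem binSemi_pow (σ : F ≃+* F) (psi : (Fin 2 → F) →+ (Fin 2 → F))
    (hinj : Function.Injective psi) (hsm : ∀ (c : F) z, psi (c • z) = σ c • psi z)
    (hN : ∀ z, binQ a b (psi z) = σ (binQ a b z)) (n : ℕ) (v : (Fin m ⊕ Fin m) ⊕ Fin 2 → F) :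
    (binSemi (m := m) σ psi hinj hsm hN ^ n).map v =
      eMinus m ((fun i => (σ ^ n) (v (.inl (.inl i))), fun i => (σ ^ n) (v (.inl (.inr i)))),
        psi^[n] (fun j => v (.inr j))) := by
  rw [semi_pow_map]
  induction n generalizing v with
  | zero => ext ((i | i) | i) <;> rfl
  | succ k ih =>
    rw [Function.iterate_succ_apply, ih]
    ext ((i | i) | i)
    · show (σ ^ k) (σ _) = _
      rw [← RingAut.mul_apply, ← pow_succ]; rfl
    · show (σ ^ k) (σ _) = _
      rw [← RingAut.mul_apply, ← pow_succ]; rfl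
    · show psi^[k] (psi _) i = _
      rw [← Function.iterate_succ_apply]; rfl

/-- A power of a semisimilitude that is a reflection. -/
theorem eq_refl_of_map {φ : Semi (minusQ m a b)} (hσ : φ.σ = 1) (hH : φ.H = 1) {w : Fin 2 → F}
    (hw : binQ a b w ≠ 0)
    (h : ∀ v, φ.map v = eMinus m ((fun i => v (.inl (.inl i)), fun i => v (.inl (.inr i))),
      (refl (binQ a b) w).1 (fun j => v (.inr j)))) :
    ∃ x, minusQ m a b x ≠ 0 ∧ minusQ m a b x = binQ a b w ∧ φ = ofIso _ (refl (minusQ m a b) x) := by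
  have hval : minusQ m a b (eMinus m (0, w)) = binQ a b w := by
    rw [minusQ_apply, minus_apply, splitQ_apply]; simp
  have hx : minusQ m a b (eMinus m (0, w)) ≠ 0 := by rwa [hval]
  refine ⟨_, hx, hval, semi_ext hσ hH fun v => ?_⟩
  rw [h, ofIso_map, refl_apply hx, refl_apply hw, hval]
  have hp : polar (minusQ m a b) v (eMinus m (0, w)) = polar (binQ a b) (fun j => v (.inr j)) w := by
    rw [polar_minusQ]
    simp [frob_xl, frob_xr, frob_z, polar, binQ_apply]
    ring
  rw [hp]
  ext ((i | i) | i) <;> simp [frob_xl, frob_xr, frob_z]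

/-- The Frobenius semisimilitude in odd characteristic. -/
theorem exists_frobSemi_odd {p f : ℕ} [Fact p.Prime] (hf : 1 ≤ f) (hF : Fintype.card F = p ^ f)
    (hp : p ≠ 2) (h2 : (2 : F) ≠ 0) (hab : Aniso a b) (m : ℕ) :
    ∃ (ψ : Semi (minusQ m a b)) (psi : (Fin 2 → F) → (Fin 2 → F)),
      orderOf ψ.σ = f ∧ Nat.card (F ≃+* F) = f ∧
      (∀ v, ψ.map v = eMinus m ((fun i => ψ.σ (v (.inl (.inl i))), fun i => ψ.σ (v (.inl (.inr i)))),
        psi (fun j => v (.inr j)))) ∧
      (∀ w z, psi (mulW a b w z) = mulW a b (psi w) (psi z)) ∧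
      ∃ x, minusQ m a b x ≠ 0 ∧ ψ ^ f = ofIso _ (refl (minusQ m a b) x) := by
  obtain ⟨σ, hσ, hσn, hord, hcard⟩ := exists_frob hf hF
  obtain ⟨k, hk⟩ : Odd p := (Fact.out : p.Prime).odd_of_ne_two hp
  set α := a / 2 with hα
  set d := α ^ 2 - b with hd
  have ha : a = 2 * α := by rw [hα]; field_simp
  have hdns : ¬ IsSquare d := fun ⟨t, ht⟩ =>
    one_ne_zero (hab (t - α) 1 (by rw [ha]; linear_combination -ht)).2
  have hd0 : d ≠ 0 := fun h => hdns (h ▸ ⟨0, by simp⟩)
  have hN : ∀ z : Fin 2 → F, binQ a b z = (z 0 + α * z 1) ^ 2 - d * z 1 ^ 2 := fun z => by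
    rw [binQ_apply, hd, ha]; ring
  let psi : (Fin 2 → F) →+ (Fin 2 → F) :=
    { toFun := fun z => ![σ (z 0 + α * z 1) - α * (d ^ k * σ (z 1)), d ^ k * σ (z 1)]
      map_zero' := by ext i; fin_cases i <;> simp
      map_add' := fun z w => by ext i; fin_cases i <;> simp <;> ring }
  have hinj : Function.Injective psi := fun z w h => by
    have h0 : σ (z 0 + α * z 1) - α * (d ^ k * σ (z 1)) =
        σ (w 0 + α * w 1) - α * (d ^ k * σ (w 1)) := congrFun h 0
    have h1 : d ^ k * σ (z 1) = d ^ k * σ (w 1) := congrFun h 1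
    rw [h1, sub_left_inj] at h0
    have e1 := σ.injective (mul_left_cancel₀ (pow_ne_zero k hd0) h1)
    have e0 := σ.injective h0
    rw [e1, add_left_inj] at e0
    ext i; fin_cases i
    · exact e0
    · exact e1
  have hdp : σ d = d * (d ^ k) ^ 2 := by rw [hσ, hk]; ring
  have hNpsi : ∀ z, binQ a b (psi z) = σ (binQ a b z) := fun z => by
    rw [hN, hN]
    show (σ (z 0 + α * z 1) - α * (d ^ k * σ (z 1)) + α * (d ^ k * σ (z 1))) ^ 2
      - d * (d ^ k * σ (z 1)) ^ 2 = _
    rw [map_sub, map_mul σ d, map_pow, map_pow, hdp]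
    ring
  have hsm : ∀ (c : F) z, psi (c • z) = σ c • psi z := fun c z => by
    ext i; fin_cases i <;> simp [psi] <;> ring
  have hmulp : ∀ w z, psi (mulW a b w z) = mulW a b (psi w) (psi z) := fun w z => by
    have hs : σ ((mulW a b w z) 0 + α * (mulW a b w z) 1) =
        σ (w 0 + α * w 1) * σ (z 0 + α * z 1) + σ d * (σ (w 1) * σ (z 1)) := by
      rw [← map_mul, ← map_mul, ← map_mul, ← map_add]
      congr 1
      rw [mulW_apply, hd, ha]; simp; ring
    have hs1 : σ ((mulW a b w z) 1) =
        σ (w 1) * σ (z 0 + α * z 1) + σ (w 0 + α * w 1) * σ (z 1) := by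
      rw [← map_mul, ← map_mul, ← map_add]
      congr 1
      rw [mulW_apply, ha]; simp; ring
    have hb : b = α ^ 2 - d := by rw [hd]; ring
    show ![σ ((mulW a b w z) 0 + α * (mulW a b w z) 1) - α * (d ^ k * σ ((mulW a b w z) 1)),
      d ^ k * σ ((mulW a b w z) 1)] = _
    rw [hs, hs1, hdp, mulW_apply]
    ext i; fin_cases i <;> simp [psi, ha, hb] <;> ring
  refine ⟨binSemi σ psi hinj hsm hNpsi, psi, hord, hcard, fun v => rfl, hmulp, ?_⟩
  -- the power
  let e : ℕ → ℕ := fun n => (p ^ n - 1) / 2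
  have he : ∀ n, 2 * e n + 1 = p ^ n := fun n => by
    obtain ⟨j, hj⟩ : Odd (p ^ n) := Odd.pow ⟨k, hk⟩
    show 2 * ((p ^ n - 1) / 2) + 1 = _
    omega
  have hiter : ∀ (n : ℕ) z, psi^[n] z =
      ![(σ ^ n) (z 0 + α * z 1) - α * (d ^ e n * (σ ^ n) (z 1)), d ^ e n * (σ ^ n) (z 1)] := by
    intro n
    induction n with
    | zero => intro z; ext i; fin_cases i <;> simp [e]
    | succ n ih =>
      intro z
      have hes : e (n + 1) = k + p * e n := by
        have h1 := he (n + 1); have h2' := he n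
        rw [pow_succ, ← h2', hk] at h1
        rw [hk]; nlinarith
      have hy : d ^ k * σ (d ^ e n * (σ ^ n) (z 1)) = d ^ e (n + 1) * (σ ^ (n + 1)) (z 1) := by
        rw [map_mul, hσ (d ^ e n), ← RingAut.mul_apply, ← pow_succ', hes, ← pow_mul]
        rw [← mul_assoc, ← pow_add, mul_comm (e n) p]
      rw [Function.iterate_succ_apply', ih]
      show ![σ ((_ : F) + α * _) - α * (d ^ k * σ _), d ^ k * σ _] = _
      simp only [Matrix.cons_val_zero, Matrix.cons_val_one]
      rw [sub_add_cancel, hy, ← RingAut.mul_apply, ← pow_succ']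
  set ψ := binSemi (m := m) σ psi hinj hsm hNpsi
  have hσf : σ ^ f = 1 := by rw [← hord]; exact pow_orderOf_eq_one σ
  have hde : d ^ e f = -1 := by
    have hF2 : ringChar F ≠ 2 := fun h => h2 (by
      haveI := ringChar.charP F
      exact_mod_cast (CharP.cast_eq_zero_iff F (ringChar F) 2).2 (by rw [h]))
    have h1 : e f = Fintype.card F / 2 := by have := he f; omega
    rw [h1]
    exact (FiniteField.pow_dichotomy hF2 hd0).resolve_left
      fun h => hdns ((FiniteField.isSquare_iff hF2 hd0).2 h)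
  have e2 : binQ a b ![-a, 2] = -(4 * d) := by rw [hN, hd, ha]; simp; ring
  have hw : binQ a b ![-a, 2] ≠ 0 := by
    rw [e2, neg_ne_zero, show (4 : F) = 2 * 2 by norm_num]
    exact mul_ne_zero (mul_ne_zero h2 h2) hd0
  obtain ⟨x, hx, -, hx'⟩ := eq_refl_of_map (φ := ψ ^ f) (by rw [semi_pow_σ]; exact hσf)
    (semi_pow_H ψ rfl f) hw fun v => by
      rw [binSemi_pow, hσf, hiter, hσf, hde, refl_apply hw, e2]
      congr 2
      have hp : polar (binQ a b) (fun j => v (.inr j)) ![-a, 2] = -(4 * d) * v (.inr 1) := by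
        simp only [polar, binQ_apply, Pi.add_apply, hd, ha]
        simp
        ring
      rw [hp, mul_div_cancel_left₀ _ (e2 ▸ hw)]
      ext i; fin_cases i <;> simp [ha] <;> ring
  exact ⟨x, hx, hx'⟩

/-- The Frobenius semisimilitude in characteristic two. -/
theorem exists_frobSemi_two {f : ℕ} (hf : 1 ≤ f) (hF : Fintype.card F = 2 ^ f) (hab : Aniso a b)
    (m : ℕ) :
    ∃ ψ : Semi (minusQ m a b), orderOf ψ.σ = f ∧ Nat.card (F ≃+* F) = f ∧
      ∃ x, minusQ m a b x ≠ 0 ∧ ψ ^ f = ofIso _ (refl (minusQ m a b) x) := by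
  obtain ⟨σ, hσ, hσn, hord, hcard⟩ := exists_frob (p := 2) hf hF
  haveI : CharP F 2 := charP_of_card_eq_prime_pow (R := F) (f := f) hF
  have h2 : (2 : F) = 0 := by exact_mod_cast CharP.cast_eq_zero F 2
  have ha0 : a ≠ 0 := fun h => aniso_disc hab (by rw [h]; linear_combination (-2 * b) * h2)
  set β := b / a ^ 2 with hβ
  have hb : b = β * a ^ 2 := by rw [hβ]; field_simp
  let psi : (Fin 2 → F) →+ (Fin 2 → F) :=
    { toFun := fun z => ![σ (z 0) + β * σ (a * z 1), σ (a * z 1) / a]
      map_zero' := by ext i; fin_cases i <;> simp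
      map_add' := fun z w => by ext i; fin_cases i <;> simp <;> ring }
  have hinj : Function.Injective psi := fun z w h => by
    have h0 : σ (z 0) + β * σ (a * z 1) = σ (w 0) + β * σ (a * w 1) := congrFun h 0
    have h1 : σ (a * z 1) / a = σ (a * w 1) / a := congrFun h 1
    rw [div_left_inj' ha0] at h1
    rw [h1, add_left_inj] at h0
    ext i; fin_cases i
    · exact σ.injective h0
    · exact mul_left_cancel₀ ha0 (σ.injective h1)
  have hsm : ∀ (c : F) z, psi (c • z) = σ c • psi z := fun c z => by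
    ext i; fin_cases i <;> simp [psi] <;> ring
  have hNpsi : ∀ z, binQ a b (psi z) = σ (binQ a b z) := fun z => by
    have e : σ (binQ a b z) = (z 0 ^ 2 + z 0 * (a * z 1) + β * (a * z 1) ^ 2) ^ 2 := by
      rw [hσ, binQ_apply, hb]; ring
    rw [e, binQ_apply]
    show (σ (z 0) + β * σ (a * z 1)) ^ 2 + a * (σ (z 0) + β * σ (a * z 1)) * (σ (a * z 1) / a) +
      b * (σ (a * z 1) / a) ^ 2 = _
    rw [hσ, hσ, hb]
    field_simp
    ring_nf
    simp only [h2, mul_zero, add_zero, zero_add]
  set ψ := binSemi (m := m) σ psi hinj hsm hNpsi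
  have hσf : σ ^ f = 1 := by rw [← hord]; exact pow_orderOf_eq_one σ
  let T : ℕ → F := fun n => Nat.rec 0 (fun _ t => σ t + β) n
  have hT : ∀ n, T (n + 1) = σ (T n) + β := fun n => rfl
  have hT' : ∀ n, T (n + 1) = T n + (σ ^ n) β := by
    intro n
    induction n with
    | zero => simp [T]
    | succ n ih =>
      rw [hT (n + 1), pow_succ', RingAut.mul_apply]
      conv_rhs => rw [hT n]
      rw [ih, map_add]
      ring
  have hiter : ∀ (n : ℕ) z, psi^[n] z =
      ![(σ ^ n) (z 0) + T n * (σ ^ n) (a * z 1), (σ ^ n) (a * z 1) / a] := by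
    intro n
    induction n with
    | zero => intro z; ext i; fin_cases i <;> simp [T, ha0]
    | succ n ih =>
      intro z
      rw [Function.iterate_succ_apply', ih]
      show ![σ _ + β * σ (a * _), σ (a * _) / a] = _
      simp only [Matrix.cons_val_zero, Matrix.cons_val_one]
      rw [mul_div_cancel₀ _ ha0, pow_succ', RingAut.mul_apply, RingAut.mul_apply, hT, map_add,
        map_mul σ (T n)]
      ext i; fin_cases i <;> simp
      ring
  have hTf : T f = 1 := by
    have h1 : T f * T f = T f := by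
      have e1 := hT f
      rw [hT', hσf, RingAut.one_apply, add_left_inj, hσ, pow_two] at e1
      exact e1.symm
    rcases mul_eq_zero.1 (show T f * (T f - 1) = 0 by linear_combination h1) with h | h
    · exfalso
      let P : Polynomial F := Polynomial.X ^ 2 + Polynomial.X + Polynomial.C β
      have hdeg : P.natDegree = 2 := by simp only [P]; compute_degree!
      have hp0 : P ≠ 0 := fun h => by rw [h, Polynomial.natDegree_zero] at hdeg; omega
      have hirr : Irreducible P :=
        (Polynomial.irreducible_iff_roots_eq_zero_of_degree_le_three (by rw [hdeg]) (by rw [hdeg]; omega)).2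
          (Multiset.eq_zero_of_forall_notMem fun x hx => by
            rw [Polynomial.mem_roots hp0, Polynomial.IsRoot.def] at hx
            simp [P] at hx
            exact one_ne_zero (hab (a * x) 1 (by rw [hb]; linear_combination a ^ 2 * hx)).2)
      have : Fact (Irreducible P) := ⟨hirr⟩
      have : Module.Finite F (AdjoinRoot P) := (AdjoinRoot.powerBasis hp0).finite
      have : Finite (AdjoinRoot P) := Module.finite_of_finite F
      have : CharP (AdjoinRoot P) 2 := charP_of_injective_algebraMap (algebraMap F _).injective 2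
      set θ := AdjoinRoot.root P
      have hθ : θ ^ 2 = θ + algebraMap F _ β := by
        have h0 : Polynomial.aeval θ P = 0 := by rw [AdjoinRoot.aeval_eq, AdjoinRoot.mk_self]
        have h0' : θ ^ 2 + θ + algebraMap F (AdjoinRoot P) β = 0 := by simpa [P] using h0
        have h2' : (2 : AdjoinRoot P) = 0 := by exact_mod_cast CharP.cast_eq_zero (AdjoinRoot P) 2
        linear_combination h0' - (θ + algebraMap F (AdjoinRoot P) β) * h2'
      have hθn : ∀ n, θ ^ 2 ^ n = θ + algebraMap F _ (T n) := by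
        intro n
        induction n with
        | zero => simp [T]
        | succ n ih =>
          rw [pow_succ, pow_mul, ih, add_pow_char, hθ, hT, hσ, map_add, map_pow]
          ring
      have hfix : FiniteField.frobeniusAlgHom F (AdjoinRoot P) = 1 := by
        refine AdjoinRoot.algHom_ext ?_
        show θ ^ Fintype.card F = θ
        rw [hF, hθn, h, map_zero, add_zero]
      have ho := FiniteField.orderOf_frobeniusAlgHom F (AdjoinRoot P)
      rw [hfix, orderOf_one, PowerBasis.finrank (AdjoinRoot.powerBasis hp0), AdjoinRoot.powerBasis_dim,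
        hdeg] at ho
      omega
    · exact sub_eq_zero.1 h
  have e1 : binQ a b ![1, 0] = 1 := by simp [binQ_apply]
  have hw : binQ a b ![1, 0] ≠ 0 := by rw [e1]; exact one_ne_zero
  obtain ⟨x, hx, -, hx'⟩ := eq_refl_of_map (φ := ψ ^ f) (by rw [semi_pow_σ]; exact hσf)
    (semi_pow_H ψ rfl f) hw fun v => by
      rw [binSemi_pow, hσf, hiter, hσf, hTf, refl_apply hw, e1, div_one]
      congr 2
      have hp : polar (binQ a b) (fun j => v (.inr j)) ![1, 0] = a * v (.inr 1) := by
        simp only [polar, binQ_apply, Pi.add_apply]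
        simp
        linear_combination v (Sum.inr 0) * h2
      rw [hp]
      ext i; fin_cases i <;> simp [ha0]
      linear_combination a * v (Sum.inr 1) * h2
  exact ⟨ψ, hord, hcard, x, hx, hx'⟩

end Cfsg.Agent.Lib.AutOmega
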