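import Cfsg.Agent.Lib.AutOmega.Inv
import Mathlib.GroupTheory.SpecificGroups.Dihedral
import Mathlib.GroupTheory.SpecificGroups.KleinFour
import Mathlib.GroupTheory.SpecificGroups.Cyclic

/-!
The similitudes modulo the inner automorphisms.
-/

set_option autoImplicit false

namespace Cfsg.Agent.Lib.AutOmega

open QuadraticMap hiding proj
open Cfsg.Agent.Lib.Classical.Quad Cfsg.Agent.Lib.Classical.QuadOmega
open Cfsg.Agent.Lib.AutOmegaOdd (G Semi)

universe u v w

/-! ### Groups of order four and eight -/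

section Grp

variable {X : Type*} [Group X]

theorem exists_hom_of_map {A : Type*} [Group A] {B : Type*} [Group B] {M : Type*} [Group M]
    (ψ : A →* B) (S : Subgroup A) (N : Subgroup B) (χ : S →* M) (hχ : Function.Surjective χ)
    (hker : ∀ a : S, ψ a.1 ∈ N ↔ χ a = 1) :
    ∃ φ : ↥(S.map ψ) →* M, Function.Surjective φ ∧ φ.ker = N.subgroupOf (S.map ψ) := by
  have hs := ψ.subgroupMap_surjective S
  have hle : (ψ.subgroupMap S).ker ≤ χ.ker := fun a ha => by
    refine (hker a).1 ?_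
    have : ψ a.1 = 1 := congrArg Subtype.val (MonoidHom.mem_ker.1 ha)
    rw [this]
    exact N.one_mem
  let φ := (ψ.subgroupMap S).liftOfSurjective hs ⟨χ, hle⟩
  have hφ : ∀ a, φ (ψ.subgroupMap S a) = χ a := fun a =>
    MonoidHom.liftOfRightInverse_comp_apply _ _ _ _ a
  refine ⟨φ, fun x => ?_, ?_⟩
  · obtain ⟨a, rfl⟩ := hχ x
    exact ⟨_, hφ a⟩
  · ext b
    obtain ⟨a, rfl⟩ := hs b
    rw [MonoidHom.mem_ker, hφ, Subgroup.mem_subgroupOf, ← hker]
    rfl

theorem pow_val_eq {n : ℕ} (y : X) (hy : orderOf y ∣ n) (i : ℤ) :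
    y ^ i = y ^ (i % (n : ℤ)) := by
  conv_lhs => rw [← Int.emod_add_mul_ediv i n, zpow_add, zpow_mul, zpow_natCast,
    orderOf_dvd_iff_pow_eq_one.1 hy, one_zpow, mul_one]

/-- A group of four-cyclic rotations and an inverting involution is dihedral. -/
theorem dihedral_range {y r : X} (hy : orderOf y = 4) (hr : r * r = 1)
    (hyr : r * y * r = y⁻¹) (hn : r ∉ Subgroup.zpowers y) :
    Nonempty (DihedralGroup 4 ≃* Subgroup.closure ({y, r} : Set X)) := by
  let f : ZMod 4 → X := fun i => y ^ i.val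
  have hf : ∀ i j, f (i + j) = f i * f j := fun i j => by
    show y ^ (i + j).val = y ^ i.val * y ^ j.val
    rw [ZMod.val_add, ← pow_add]
    conv_rhs => rw [← pow_mod_orderOf, hy]
  have hf0 : f 0 = 1 := by simp [f]
  have hneg : ∀ i, f (-i) = (f i)⁻¹ := fun i => eq_inv_of_mul_eq_one_left (by
    rw [← hf, neg_add_cancel, hf0])
  have hsw : ∀ i, f i * r = r * f (-i) := fun i => by
    have h1 : r * f i * r = (f i)⁻¹ := by
      show r * y ^ i.val * r = (y ^ i.val)⁻¹
      have hc : r * y * r⁻¹ = y⁻¹ := by rw [inv_eq_of_mul_eq_one_right hr]; exact hyr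
      rw [← inv_pow, ← hc, conj_pow, inv_eq_of_mul_eq_one_right hr]
    rw [hneg, ← h1, ← mul_assoc, ← mul_assoc, hr, one_mul]
  let φ : DihedralGroup 4 →* X := MonoidHom.mk'
    (fun g => match g with
      | .r i => f i
      | .sr i => r * f i)
    (fun a b => by
      rcases a with i | i <;> rcases b with j | j <;>
        simp only [DihedralGroup.r_mul_r, DihedralGroup.r_mul_sr, DihedralGroup.sr_mul_r,
          DihedralGroup.sr_mul_sr]
      · exact hf i j
      · rw [← mul_assoc, hsw, mul_assoc, ← hf, sub_eq_add_neg, add_comm]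
      · rw [hf, mul_assoc]
      · rw [mul_assoc, ← mul_assoc (f i), hsw, mul_assoc, ← mul_assoc r, hr, one_mul, ← hf,
          sub_eq_add_neg, add_comm])
  have hinj : Function.Injective φ := by
    rw [injective_iff_map_eq_one]
    rintro (i | i) h
    · have h1 : y ^ i.val = 1 := h
      rw [← orderOf_dvd_iff_pow_eq_one, hy] at h1
      have : i.val = 0 := Nat.eq_zero_of_dvd_of_lt h1 (ZMod.val_lt i)
      rw [(ZMod.val_eq_zero i).1 this]
      rfl
    · refine absurd ?_ hn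
      have h1 : r * f i = 1 := h
      rw [eq_inv_of_mul_eq_one_left h1, ← hneg]
      exact ⟨((-i).val : ℤ), zpow_natCast y _⟩
  have hrange : φ.range = Subgroup.closure ({y, r} : Set X) := by
    refine le_antisymm ?_ ((Subgroup.closure_le _).2 ?_)
    · rintro _ ⟨g | g, rfl⟩
      · exact pow_mem (Subgroup.subset_closure (Set.mem_insert y _)) _
      · exact mul_mem (Subgroup.subset_closure (Set.mem_insert_of_mem _ rfl))
          (pow_mem (Subgroup.subset_closure (Set.mem_insert y _)) _)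
    · intro w hw
      rcases hw with h | h
      · refine ⟨.r 1, ?_⟩
        show y ^ (1 : ZMod 4).val = w
        rw [show (1 : ZMod 4).val = 1 from rfl, pow_one, h]
      · refine ⟨.sr 0, ?_⟩
        show r * f 0 = w
        rw [hf0, mul_one, Set.mem_singleton_iff.1 h]
  exact ⟨(MonoidHom.ofInjective hinj).trans (MulEquiv.subgroupCongr hrange)⟩

theorem cyclic_four {x z : X} (hz1 : z ≠ 1) (hz : z * z = 1) (hxx : x * x = z) :
    Nonempty (Multiplicative (ZMod 4) ≃* Subgroup.closure ({x, z} : Set X)) := by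
  have ho : orderOf x = 2 ^ (1 + 1) := by
    have : Fact (Nat.Prime 2) := ⟨Nat.prime_two⟩
    refine orderOf_eq_prime_pow (by rw [pow_one, pow_two, hxx]; exact hz1) ?_
    rw [show (2 : ℕ) ^ (1 + 1) = 2 * 2 from rfl, pow_mul, pow_two x, hxx, pow_two, hz]
  have he : Subgroup.closure ({x, z} : Set X) = Subgroup.zpowers x := by
    refine le_antisymm ((Subgroup.closure_le _).2 ?_) ?_
    · intro w hw
      rcases hw with h | h
      · rw [h]; exact Subgroup.mem_zpowers x
      · rw [Set.mem_singleton_iff.1 h, ← hxx]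
        exact mul_mem (Subgroup.mem_zpowers x) (Subgroup.mem_zpowers x)
    · exact Subgroup.zpowers_le.2 (Subgroup.subset_closure (Set.mem_insert _ _))
  rw [he]
  exact ⟨mulEquivOfCyclicCardEq (by rw [Nat.card_zpowers, ho]; simp)⟩

theorem klein_four {x z : X} (hz1 : z ≠ 1) (hz : z * z = 1) (hx1 : x ≠ 1) (hxz' : x ≠ z)
    (hxz : x * z = z * x) (hxx : x * x = 1) :
    Nonempty (Multiplicative (ZMod 2 × ZMod 2) ≃* Subgroup.closure ({x, z} : Set X)) := by
  let f : ZMod 2 × ZMod 2 → X := fun p => x ^ p.1.val * z ^ p.2.val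
  have key : ∀ a b : ZMod 2, ∀ {y : X}, y * y = 1 → y ^ (a + b).val = y ^ a.val * y ^ b.val :=
    fun a b y hy => by
      rw [ZMod.val_add, ← pow_add, ← pow_mod_orderOf, ← pow_mod_orderOf (n := a.val + b.val),
        Nat.mod_mod_of_dvd _ (orderOf_dvd_iff_pow_eq_one.2 (by rw [pow_two, hy]))]
  let φ : Multiplicative (ZMod 2 × ZMod 2) →* X := MonoidHom.mk' (fun p => f p.toAdd) fun p q => by
    show f (p.toAdd + q.toAdd) = f p.toAdd * f q.toAdd
    simp only [f, Prod.fst_add, Prod.snd_add, key _ _ hxx, key _ _ hz]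
    have : Commute (x ^ q.toAdd.1.val) (z ^ p.toAdd.2.val) := Commute.pow_pow hxz _ _
    rw [mul_assoc, ← mul_assoc (x ^ q.toAdd.1.val), this.eq]
    group
  have hinj : Function.Injective φ := by
    rw [injective_iff_map_eq_one]
    intro p h
    suffices H : ∀ q, f q = 1 → q = 0 from H p.toAdd h
    rintro ⟨a, b⟩ h1
    have hv : ∀ a : ZMod 2, a = 0 ∨ a = 1 := by decide
    rcases hv a with rfl | rfl <;> rcases hv b with rfl | rfl <;>
      simp [f, show (1 : ZMod 2).val = 1 from rfl] at h1 ⊢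
    · exact hz1 h1
    · exact hx1 h1
    · exact hxz' (by rw [eq_inv_of_mul_eq_one_left h1, inv_eq_of_mul_eq_one_right hz])
  have hrange : φ.range = Subgroup.closure ({x, z} : Set X) := by
    refine le_antisymm ?_ ((Subgroup.closure_le _).2 ?_)
    · intro w hw
      obtain ⟨p, rfl⟩ := MonoidHom.mem_range.1 hw
      have hx : x ∈ Subgroup.closure ({x, z} : Set X) := Subgroup.subset_closure (by simp)
      have hz' : z ∈ Subgroup.closure ({x, z} : Set X) := Subgroup.subset_closure (by simp)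
      exact (Subgroup.closure ({x, z} : Set X)).mul_mem
        ((Subgroup.closure ({x, z} : Set X)).pow_mem hx _)
        ((Subgroup.closure ({x, z} : Set X)).pow_mem hz' _)
    · intro w hw
      rcases hw with h | h
      · refine ⟨.ofAdd (1, 0), ?_⟩
        show x ^ (1 : ZMod 2).val * z ^ (0 : ZMod 2).val = w
        rw [show (1 : ZMod 2).val = 1 from rfl, ZMod.val_zero, pow_zero, pow_one, mul_one, h]
      · refine ⟨.ofAdd (0, 1), ?_⟩
        show x ^ (0 : ZMod 2).val * z ^ (1 : ZMod 2).val = w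
        rw [show (1 : ZMod 2).val = 1 from rfl, ZMod.val_zero, pow_zero, pow_one, one_mul,
          Set.mem_singleton_iff.1 h]
  exact ⟨(MonoidHom.ofInjective hinj).trans (MulEquiv.subgroupCongr hrange)⟩

/-- The abelian group of the two signs. -/
noncomputable def signsEquiv : ℤˣ × ℤˣ ≃* Multiplicative (ZMod 2 × ZMod 2) :=
  (MulEquiv.prodCongr (mulEquivOfPrimeCardEq (p := 2) (by simp [Nat.card_eq_fintype_card])
      (by simp [Nat.card_eq_fintype_card]))
    (mulEquivOfPrimeCardEq (p := 2) (by simp [Nat.card_eq_fintype_card])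
      (by simp [Nat.card_eq_fintype_card]))).trans
    (MulEquiv.prodMultiplicative (ZMod 2) (ZMod 2)).symm

/-- One sign. -/
noncomputable def signEquiv : ℤˣ ≃* Multiplicative (ZMod 2) :=
  mulEquivOfPrimeCardEq (p := 2) (by simp [Nat.card_eq_fintype_card])
    (by simp [Nat.card_eq_fintype_card])

end Grp

/-! ### The image in `Out` -/

variable {F : Type u} [Field F] [Fintype F] {ι : Type} [Fintype ι] [DecidableEq ι]
  {f : (ι → F) → F} {Q : QuadraticForm F (ι → F)}

/-- The map to the outer automorphism group. -/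
noncomputable def outMk (hf : ∀ v, Q v = f v) (hG : Good Q) :
    Semi Q →* Cfsg.Out (Cfsg.POmega F f) :=
  (QuotientGroup.mk' (Cfsg.Inn (Cfsg.POmega F f))).comp (act hf hG)

theorem outMk_eq_one (hf : ∀ v, Q v = f v) (hG : Good Q) {ψ : Semi Q} :
    outMk hf hG ψ = 1 ↔ act hf hG ψ ∈ Cfsg.Inn (Cfsg.POmega F f) := QuotientGroup.eq_one_iff _

theorem outMk_scalar (hf : ∀ v, Q v = f v) (hG : Good Q) (c : Fˣ) :
    outMk hf hG (ofScalar Q c) = 1 := by
  rw [outMk_eq_one, act_ofScalar]; exact one_mem _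

namespace Dat

variable (hf : ∀ v, Q v = f v) (D : Dat Q)

include hf in
theorem outMk_iso_eq_one {h : isoG Q} : outMk hf D.good (ofIso Q h) = 1 ↔
    dick D.nd h = 1 ∧ (spn D.nd h = 1 ∨ spn D.nd (negOne Q) = -1) := by
  rw [outMk_eq_one, act_mem_inn]
  constructor
  · rintro ⟨c, k, hk, he⟩
    obtain ⟨k1, k2⟩ := (mem_siegel_iff D.good D.h2 k).1 hk
    rw [← one_mul (ofIso Q h), ← map_one (ofScalar Q)] at he
    rcases scalar_iso_eq he with rfl | rfl
    · exact ⟨k1, Or.inl k2⟩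
    · rw [map_mul, map_mul, D.neg, k1, k2, mul_one, mul_one]
      exact ⟨rfl, Int.units_eq_one_or _⟩
  · rintro ⟨h1, h2⟩
    rcases Int.units_eq_one_or (spn D.nd h) with e | e
    · exact ⟨1, h, (mem_siegel_iff D.good D.h2 h).2 ⟨h1, e⟩, by rw [map_one, one_mul]⟩
    · refine ⟨-1, negOne Q * h, (mem_siegel_iff D.good D.h2 _).2 ⟨?_, ?_⟩, ?_⟩
      · rw [map_mul, D.neg, h1, one_mul]
      · rw [map_mul, h2.resolve_left (by rw [e]; decide), e]; rfl
      · rw [ofScalar_negOne, ← map_mul, ← mul_assoc,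
          show negOne Q * negOne Q = 1 from iso_ext fun v => neg_neg v, one_mul]

theorem outMk_iso_congr {g h : isoG Q} (h1 : dick D.nd g = dick D.nd h)
    (h2 : spn D.nd g = spn D.nd h) : outMk hf D.good (ofIso Q g) = outMk hf D.good (ofIso Q h) := by
  rw [← mul_inv_eq_one, ← map_inv, ← map_mul, ← map_inv (ofIso Q), ← map_mul, D.outMk_iso_eq_one hf]
  simp [h1, h2]

include hf in
theorem act_mem_inn_iff {ψ : Semi Q} (hσ : ψ.σ = 1) (hν : spn D.nd (negOne Q) = -1) :
    act hf D.good ψ ∈ Cfsg.Inn (Cfsg.POmega F f) ↔ mc Q ψ = 1 ∧ D.del ψ = 1 := by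
  constructor
  · intro h
    obtain ⟨c, k, hk, rfl⟩ := (act_mem_inn hf D.good).1 h
    refine ⟨by simp, ?_⟩
    rw [D.del_mul (ofScalar_σ c) (ofIso_σ k), D.del_scalar, D.del_iso, one_mul]
    exact ((mem_siegel_iff D.good D.h2 k).1 hk).1
  · rintro ⟨h1, h2⟩
    obtain ⟨c, h, e⟩ := D.exists_decomp hσ
    rw [h1, pw, if_pos rfl, mul_one] at e
    rw [e, D.del_mul (ofScalar_σ c) (ofIso_σ h), D.del_scalar, D.del_iso, one_mul] at h2
    rw [← outMk_eq_one, e, map_mul, outMk_scalar, one_mul, D.outMk_iso_eq_one hf]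
    exact ⟨h2, Or.inr hν⟩

theorem exists_invs (a b : ℤˣ) : ∃ h : isoG Q, dick D.nd h = a ∧ spn D.nd h = b := by
  obtain ⟨e, e', -, -, he, he', -, -, hee, -⟩ := D.good.two
  have hQ : ∀ c : F, Q (c • e + e') = c := fun c => pair_nonsing he he' hee c
  have h1 : Q ((1 : F) • e + e') ≠ 0 := by rw [hQ]; exact one_ne_zero
  have h2 : Q (D.g0.H • e + e') ≠ 0 := by rw [hQ]; exact D.g0.H0
  have hns : sqSign D.g0.H = -1 := D.mc_g0
  rcases Int.units_eq_one_or a with rfl | rfl <;> rcases Int.units_eq_one_or b with rfl | rfl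
  · exact ⟨1, map_one _, map_one _⟩
  · refine ⟨refl Q ((1 : F) • e + e') * refl Q (D.g0.H • e + e'), ?_, ?_⟩
    · rw [map_mul, dick_refl _ h1, dick_refl _ h2]; rfl
    · rw [map_mul, spn_refl _ D.h2 h1, spn_refl _ D.h2 h2, hQ, hQ, sqSign_one, hns, one_mul]
  · exact ⟨refl Q ((1 : F) • e + e'), dick_refl _ h1,
      by rw [spn_refl _ D.h2 h1, hQ, sqSign_one]⟩
  · exact ⟨refl Q (D.g0.H • e + e'), dick_refl _ h2,
      by rw [spn_refl _ D.h2 h2, hQ, hns]⟩

/-- An isometry with given invariants. -/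
noncomputable def isoOf (a b : ℤˣ) : isoG Q := (D.exists_invs a b).choose

theorem dick_isoOf (a b : ℤˣ) : dick D.nd (D.isoOf a b) = a := (D.exists_invs a b).choose_spec.1

theorem spn_isoOf (a b : ℤˣ) : spn D.nd (D.isoOf a b) = b := (D.exists_invs a b).choose_spec.2

/-- The class of the spinor norm. -/
noncomputable def zE : Cfsg.Out (Cfsg.POmega F f) := outMk hf D.good (ofIso Q (D.isoOf 1 (-1)))

/-- The class of a reflection. -/
noncomputable def rE : Cfsg.Out (Cfsg.POmega F f) := outMk hf D.good (ofIso Q (D.isoOf (-1) 1))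

/-- The class of a similitude with nonsquare multiplier. -/
noncomputable def xE : Cfsg.Out (Cfsg.POmega F f) := outMk hf D.good D.g0

theorem zE_eq_one : D.zE hf = 1 ↔ spn D.nd (negOne Q) = -1 := by
  rw [zE, D.outMk_iso_eq_one hf, D.dick_isoOf, D.spn_isoOf]
  simp

theorem iso_sq (h : isoG Q) : outMk hf D.good (ofIso Q h) * outMk hf D.good (ofIso Q h) = 1 := by
  rw [← map_mul, ← map_mul, D.outMk_iso_eq_one hf, map_mul, map_mul, Int.units_mul_self,
    Int.units_mul_self]
  exact ⟨rfl, Or.inl rfl⟩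

theorem zz : D.zE hf * D.zE hf = 1 := D.iso_sq hf _

theorem rr : D.rE hf * D.rE hf = 1 := D.iso_sq hf _

theorem iso_comm (g h : isoG Q) : outMk hf D.good (ofIso Q g) * outMk hf D.good (ofIso Q h) =
    outMk hf D.good (ofIso Q h) * outMk hf D.good (ofIso Q g) := by
  rw [← map_mul, ← map_mul, ← map_mul, ← map_mul]
  exact D.outMk_iso_congr hf (by rw [map_mul, map_mul, mul_comm]) (by rw [map_mul, map_mul, mul_comm])

theorem xx : D.xE hf * D.xE hf = outMk hf D.good (ofIso Q D.h0) := by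
  rw [xE, ← map_mul, D.g0sq, map_mul, outMk_scalar, one_mul]

theorem xr : D.xE hf * D.rE hf = D.zE hf * D.rE hf * D.xE hf := by
  simp only [xE, rE, zE]
  rw [← map_mul, mul_ofIso, map_mul, ← map_mul (outMk hf D.good) (ofIso Q _) (ofIso Q _),
    ← map_mul (ofIso Q)]
  congr 1
  refine D.outMk_iso_congr hf ?_ ?_
  · rw [dick_conjI _ (reg_of_two_ne_zero D.h2), map_mul, D.dick_isoOf, D.dick_isoOf, one_mul]
  · rw [spn_conjI _ D.h2, D.dick_isoOf, if_neg (by decide), D.mc_g0, D.spn_isoOf, map_mul,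
      D.spn_isoOf, D.spn_isoOf]
    rfl

theorem xz : D.xE hf * D.zE hf = D.zE hf * D.xE hf := by
  simp only [xE, zE]
  rw [← map_mul, mul_ofIso, map_mul]
  congr 1
  refine D.outMk_iso_congr hf ?_ ?_
  · rw [dick_conjI _ (reg_of_two_ne_zero D.h2)]
  · rw [spn_conjI _ D.h2, D.dick_isoOf, if_pos rfl, mul_one]

theorem xE_xx : D.xE hf * D.xE hf = 1 ∨ D.xE hf * D.xE hf = D.zE hf := by
  rw [D.xx hf]
  rcases Int.units_eq_one_or (spn D.nd D.h0) with e | e
  · exact Or.inl ((D.outMk_iso_eq_one hf).2 ⟨D.h0d, Or.inl e⟩)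
  · exact Or.inr (D.outMk_iso_congr hf (by rw [D.h0d, D.dick_isoOf]) (by rw [e, D.spn_isoOf]))

theorem iso_mem_closure (h : isoG Q) :
    outMk hf D.good (ofIso Q h) ∈ Subgroup.closure {D.zE hf, D.rE hf} := by
  have hz : D.zE hf ∈ Subgroup.closure {D.zE hf, D.rE hf} := Subgroup.subset_closure (Set.mem_insert _ _)
  have hr : D.rE hf ∈ Subgroup.closure {D.zE hf, D.rE hf} :=
    Subgroup.subset_closure (Set.mem_insert_of_mem _ rfl)
  rcases Int.units_eq_one_or (dick D.nd h) with d | d <;>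
    rcases Int.units_eq_one_or (spn D.nd h) with s | s
  · rw [(D.outMk_iso_eq_one hf).2 ⟨d, Or.inl s⟩]; exact one_mem _
  · rw [D.outMk_iso_congr hf (h := D.isoOf 1 (-1)) (by rw [d, D.dick_isoOf]) (by rw [s, D.spn_isoOf])]
    exact hz
  · rw [D.outMk_iso_congr hf (h := D.isoOf (-1) 1) (by rw [d, D.dick_isoOf]) (by rw [s, D.spn_isoOf])]
    exact hr
  · rw [D.outMk_iso_congr hf (h := D.isoOf 1 (-1) * D.isoOf (-1) 1)
      (by rw [d, map_mul, D.dick_isoOf, D.dick_isoOf]; rfl)
      (by rw [s, map_mul, D.spn_isoOf, D.spn_isoOf]; rfl), map_mul, map_mul]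
    exact mul_mem hz hr

/-- The image of the similitudes in `Out`. -/
theorem map_sim : (sigmaHom Q).ker.map (outMk hf D.good) =
    Subgroup.closure {D.xE hf, D.rE hf} := by
  refine le_antisymm ?_ ((Subgroup.closure_le _).2 ?_)
  · rintro _ ⟨ψ, hψ, rfl⟩
    obtain ⟨c, h, e⟩ := D.exists_decomp (show ψ.σ = 1 from hψ)
    have hx : D.xE hf ∈ Subgroup.closure {D.xE hf, D.rE hf} := Subgroup.subset_closure (Set.mem_insert _ _)
    have hr : D.rE hf ∈ Subgroup.closure {D.xE hf, D.rE hf} :=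
      Subgroup.subset_closure (Set.mem_insert_of_mem _ rfl)
    have hz : D.zE hf ∈ Subgroup.closure {D.xE hf, D.rE hf} := by
      have h1 := D.xr hf
      rw [mul_assoc (D.zE hf), ← mul_inv_eq_iff_eq_mul] at h1
      rw [← h1]
      exact mul_mem (mul_mem hx hr) (inv_mem (mul_mem hr hx))
    have hi : outMk hf D.good (ofIso Q h) ∈ Subgroup.closure {D.xE hf, D.rE hf} :=
      (Subgroup.closure_le _).2 (by rintro _ (rfl | rfl) <;> assumption) (D.iso_mem_closure hf h)
    rw [e, map_mul, map_mul, outMk_scalar, one_mul]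
    refine mul_mem ?_ hi
    unfold pw
    split_ifs
    · rw [map_one]; exact one_mem _
    · exact hx
  · rintro _ (rfl | rfl)
    · exact ⟨_, D.g0σ, rfl⟩
    · exact ⟨_, (rfl : (ofIso Q (D.isoOf (-1) 1)).σ = 1), rfl⟩

theorem xE_not (hn : D.zE hf ≠ 1) : D.xE hf ≠ 1 ∧ D.xE hf ≠ D.zE hf := by
  constructor
  · intro h
    have hm := (act_mem_inn hf D.good).1 ((outMk_eq_one hf D.good).1 h)
    obtain ⟨c, k, -, e⟩ := hm
    have := congrArg (mc Q) e
    simp [D.mc_g0] at this
  · intro h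
    have h1 : outMk hf D.good ((ofIso Q (D.isoOf 1 (-1)))⁻¹ * D.g0) = 1 := by
      rw [map_mul, map_inv]; exact inv_mul_eq_one.2 h.symm
    obtain ⟨c, k, -, e⟩ := (act_mem_inn hf D.good).1 ((outMk_eq_one hf D.good).1 h1)
    have := congrArg (mc Q) e
    simp [D.mc_g0] at this

theorem pgo_dihedral (hn : D.zE hf ≠ 1) :
    Nonempty (DihedralGroup 4 ≃* (sigmaHom Q).ker.map (outMk hf D.good)) := by
  rw [D.map_sim hf]
  have hxr := D.xr hf
  have hxz := D.xz hf
  have hzz := D.zz hf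
  have hrr := D.rr hf
  have hzr : D.zE hf * D.rE hf = D.rE hf * D.zE hf := D.iso_comm hf _ _
  have hrne : ∀ w ∈ ({1, D.zE hf} : Set (Cfsg.Out (Cfsg.POmega F f))), D.rE hf ≠ w := by
    rintro w (rfl | rfl) h
    · have := ((D.outMk_iso_eq_one hf).1 h).1
      rw [D.dick_isoOf] at this
      exact absurd this (by decide)
    · have h1 : D.rE hf * D.zE hf = 1 := by rw [h, hzz]
      rw [rE, zE, ← map_mul, ← map_mul, D.outMk_iso_eq_one hf, map_mul, D.dick_isoOf,
        D.dick_isoOf] at h1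
      exact absurd h1.1 (by decide)
  have hmc : ∀ g ∈ ({1, D.zE hf} : Set (Cfsg.Out (Cfsg.POmega F f))), D.rE hf ≠ D.xE hf * g := by
    intro g hg h
    obtain ⟨φ, hφσ, rfl, hφm⟩ : ∃ φ : Semi Q, φ.σ = 1 ∧ g = outMk hf D.good φ ∧ mc Q φ = 1 := by
      rcases hg with rfl | rfl
      · exact ⟨1, rfl, (map_one _).symm, map_one _⟩
      · exact ⟨_, rfl, rfl, mc_ofIso _⟩
    rw [rE, xE, ← map_mul, ← mul_inv_eq_one, ← map_inv, ← map_mul, outMk_eq_one, act_mem_inn] at h
    obtain ⟨c, k, -, e⟩ := h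
    have := congrArg (mc Q) e
    simp [D.mc_g0, hφm] at this
  obtain ⟨y, hyy, hyr, hcl, hy⟩ : ∃ y, y * y = D.zE hf ∧ D.rE hf * y * D.rE hf = y⁻¹ ∧
      Subgroup.closure {y, D.rE hf} = Subgroup.closure {D.xE hf, D.rE hf} ∧
      (∀ g ∈ ({1, D.zE hf} : Set (Cfsg.Out (Cfsg.POmega F f))), D.rE hf ≠ y * g) := by
    rcases D.xE_xx hf with h | h
    · refine ⟨D.xE hf * D.rE hf, ?_, ?_, ?_, ?_⟩
      · calc D.xE hf * D.rE hf * (D.xE hf * D.rE hf)
            = D.zE hf * D.rE hf * D.xE hf * (D.xE hf * D.rE hf) := by rw [hxr]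
          _ = D.zE hf * D.rE hf * (D.xE hf * D.xE hf) * D.rE hf := by group
          _ = _ := by rw [h, mul_one, mul_assoc, hrr, mul_one]
      · rw [eq_inv_iff_mul_eq_one]
        calc D.rE hf * (D.xE hf * D.rE hf) * D.rE hf * (D.xE hf * D.rE hf)
            = D.rE hf * D.xE hf * (D.rE hf * D.rE hf) * D.xE hf * D.rE hf := by group
          _ = D.rE hf * (D.xE hf * D.xE hf) * D.rE hf := by rw [hrr]; group
          _ = 1 := by rw [h, mul_one, hrr]
      · refine le_antisymm ((Subgroup.closure_le _).2 ?_) ((Subgroup.closure_le _).2 ?_)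
        · rintro _ (rfl | rfl)
          · exact mul_mem (Subgroup.subset_closure (Set.mem_insert _ _))
              (Subgroup.subset_closure (Set.mem_insert_of_mem _ rfl))
          · exact Subgroup.subset_closure (Set.mem_insert_of_mem _ rfl)
        · rintro _ (rfl | rfl)
          · have h1 : D.xE hf * D.rE hf * D.rE hf ∈ Subgroup.closure {D.xE hf * D.rE hf, D.rE hf} :=
              mul_mem (Subgroup.subset_closure (Set.mem_insert _ _))
                (Subgroup.subset_closure (Set.mem_insert_of_mem _ rfl))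
            rwa [mul_assoc, hrr, mul_one] at h1
          · exact Subgroup.subset_closure (Set.mem_insert_of_mem _ rfl)
      · rintro g hg he
        have hgr : D.rE hf * g = g * D.rE hf := by
          rcases hg with rfl | rfl
          · rw [mul_one, one_mul]
          · exact hzr.symm
        rw [mul_assoc, hgr, ← mul_assoc] at he
        have h1 : D.xE hf * g = 1 := by simpa using he
        rcases hg with rfl | rfl
        · exact (D.xE_not hf hn).1 (by simpa using h1)
        · exact (D.xE_not hf hn).2 (by rw [eq_inv_of_mul_eq_one_left h1, inv_eq_of_mul_eq_one_right hzz])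
    · refine ⟨D.xE hf, h, ?_, rfl, hmc⟩
      rw [eq_inv_iff_mul_eq_one]
      calc D.rE hf * D.xE hf * D.rE hf * D.xE hf
          = D.rE hf * (D.xE hf * D.rE hf) * D.xE hf := by group
        _ = D.rE hf * (D.zE hf * D.rE hf * D.xE hf) * D.xE hf := by rw [hxr]
        _ = D.rE hf * (D.rE hf * D.zE hf) * (D.xE hf * D.xE hf) := by rw [hzr]; group
        _ = D.rE hf * D.rE hf * (D.zE hf * D.zE hf) := by rw [h]; group
        _ = 1 := by rw [hrr, hzz, mul_one]
  rw [← hcl]
  have ho : orderOf y = 2 ^ (1 + 1) := by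
    have : Fact (Nat.Prime 2) := ⟨Nat.prime_two⟩
    refine orderOf_eq_prime_pow (by rw [pow_one, pow_two, hyy]; exact hn) ?_
    rw [show (2 : ℕ) ^ (1 + 1) = 2 * 2 from rfl, pow_mul, pow_two y, hyy, pow_two, hzz]
  refine dihedral_range (by rw [ho]; rfl) hrr hyr fun hmem => ?_
  obtain ⟨i, hi⟩ := Subgroup.mem_zpowers_iff.1 hmem
  rw [← zpow_mod_orderOf, ho] at hi
  have h0 : 0 ≤ i % ((2 ^ (1 + 1) : ℕ) : ℤ) := Int.emod_nonneg _ (by norm_num)
  have h4 : i % ((2 ^ (1 + 1) : ℕ) : ℤ) < 4 := Int.emod_lt_of_pos _ (by norm_num)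
  generalize i % ((2 ^ (1 + 1) : ℕ) : ℤ) = k at hi h0 h4
  interval_cases k
  · exact hrne 1 (by simp) (by simpa using hi.symm)
  · exact hy 1 (by simp) (by simpa using hi.symm)
  · exact hrne _ (Set.mem_insert_of_mem _ rfl) (by rw [← hi, zpow_ofNat, pow_two, hyy])
  · exact hy _ (Set.mem_insert_of_mem _ rfl) (by rw [← hi, zpow_ofNat, pow_succ', pow_two, hyy])

/-- The similitudes that are proper. -/
noncomputable def proper : Subgroup (Semi Q) :=
  ((MonoidHom.snd ℤˣ ℤˣ).comp D.inv2).ker.map (sigmaHom Q).ker.subtype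

theorem mem_proper {ψ : Semi Q} : ψ ∈ D.proper ↔ ψ.σ = 1 ∧ D.del ψ = 1 := by
  constructor
  · rintro ⟨⟨φ, hφ⟩, h, rfl⟩
    exact ⟨hφ, h⟩
  · rintro ⟨h1, h2⟩
    exact ⟨⟨ψ, h1⟩, h2, rfl⟩

theorem map_proper : D.proper.map (outMk hf D.good) = Subgroup.closure {D.xE hf, D.zE hf} := by
  refine le_antisymm ?_ ((Subgroup.closure_le _).2 ?_)
  · rintro _ ⟨ψ, hψ, rfl⟩
    obtain ⟨hσ, hd⟩ := D.mem_proper.1 hψ
    obtain ⟨c, h, e⟩ := D.exists_decomp hσ
    rw [e, D.del_std] at hd
    rw [e, map_mul, map_mul, outMk_scalar, one_mul]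
    refine mul_mem ?_ ?_
    · unfold pw
      split_ifs
      · rw [map_one]; exact one_mem _
      · exact Subgroup.subset_closure (Set.mem_insert _ _)
    · rcases Int.units_eq_one_or (spn D.nd h) with s | s
      · rw [(D.outMk_iso_eq_one hf).2 ⟨hd, Or.inl s⟩]; exact one_mem _
      · rw [D.outMk_iso_congr hf (h := D.isoOf 1 (-1)) (by rw [hd, D.dick_isoOf])
          (by rw [s, D.spn_isoOf])]
        exact Subgroup.subset_closure (Set.mem_insert_of_mem _ rfl)
  · rintro _ (rfl | rfl)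
    · exact ⟨_, D.mem_proper.2 ⟨D.g0σ, D.del_g0⟩, rfl⟩
    · exact ⟨_, D.mem_proper.2 ⟨rfl, by rw [D.del_iso, D.dick_isoOf]⟩, rfl⟩

/-- The special isometries. -/
noncomputable def special : Subgroup (Semi Q) := (dick D.nd).ker.map (ofIso Q)

/-! ### The homomorphisms -/

theorem inv2_surjective : Function.Surjective D.inv2 := fun ⟨a, b⟩ => by
  refine ⟨⟨D.pw a * ofIso Q (D.isoOf b 1), by simp [MonoidHom.mem_ker, sigmaHom_apply, D.pw_σ]⟩,
    Prod.ext ?_ ?_⟩
  · show mc Q (D.pw a * ofIso Q (D.isoOf b 1)) = a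
    rw [map_mul, D.mc_pw, mc_ofIso, mul_one]
  · show D.del (D.pw a * ofIso Q (D.isoOf b 1)) = b
    rw [← one_mul (D.pw a), ← map_one (ofScalar Q), D.del_std, D.dick_isoOf]

theorem act_mem_special {ψ : Semi Q} (hσ : ψ.σ = 1) :
    act hf D.good ψ ∈ D.special.map (act hf D.good) ↔ mc Q ψ = 1 ∧ D.del ψ = 1 := by
  constructor
  · rintro ⟨_, ⟨k, hk, rfl⟩, e⟩
    obtain ⟨c, rfl⟩ := (act_eq_iff hf D.good).1 e.symm
    refine ⟨by simp, ?_⟩
    rw [D.del_mul (ofScalar_σ c) (ofIso_σ k), D.del_scalar, D.del_iso, one_mul]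
    exact hk
  · rintro ⟨h1, h2⟩
    obtain ⟨c, h, e⟩ := D.exists_decomp hσ
    rw [h1, pw, if_pos rfl, mul_one] at e
    rw [e, D.del_mul (ofScalar_σ c) (ofIso_σ h), D.del_scalar, D.del_iso, one_mul] at h2
    exact ⟨_, ⟨h, h2, rfl⟩, ((act_eq_iff hf D.good).2 ⟨c, e⟩).symm⟩

include hf in
theorem pgo_mod_pso : ∃ φ : ↥((sigmaHom Q).ker.map (act hf D.good)) →* Multiplicative (ZMod 2 × ZMod 2),
    Function.Surjective φ ∧ φ.ker =
      (D.special.map (act hf D.good)).subgroupOf ((sigmaHom Q).ker.map (act hf D.good)) :=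
  exists_hom_of_map _ _ _ (signsEquiv.toMonoidHom.comp D.inv2)
    (signsEquiv.surjective.comp D.inv2_surjective) fun a => by
      rw [D.act_mem_special hf a.2, MonoidHom.comp_apply, MulEquiv.coe_toMonoidHom,
        MulEquiv.map_eq_one_iff]
      exact (Prod.mk_eq_one (x := mc Q a.1) (y := D.del a.1)).symm

include hf in
theorem relIndex_special : (Cfsg.Inn (Cfsg.POmega F f)).relIndex (D.special.map (act hf D.good)) =
    if spn D.nd (negOne Q) = -1 then 1 else 2 := by
  split_ifs with hν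
  · rw [Subgroup.relIndex_eq_one]
    rintro _ ⟨_, ⟨k, hk, rfl⟩, rfl⟩
    rw [D.act_mem_inn_iff hf (ofIso_σ k) hν, mc_ofIso, D.del_iso]
    exact ⟨rfl, hk⟩
  · have hmap : D.special.map (act hf D.good) = (dick D.nd).ker.map ((act hf D.good).comp (ofIso Q)) :=
      Subgroup.map_map _ _ _
    obtain ⟨φ, hs, hk⟩ := exists_hom_of_map ((act hf D.good).comp (ofIso Q)) (dick D.nd).ker
      (Cfsg.Inn (Cfsg.POmega F f)) ((spn D.nd).comp (dick D.nd).ker.subtype)
      (fun b => ⟨⟨D.isoOf 1 b, D.dick_isoOf 1 b⟩, D.spn_isoOf 1 b⟩) fun a => by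
      rw [MonoidHom.comp_apply, ← outMk_eq_one, D.outMk_iso_eq_one hf]
      simp only [MonoidHom.comp_apply, Subgroup.coe_subtype]
      exact ⟨fun h => h.2.resolve_right hν, fun h => ⟨a.2, Or.inl h⟩⟩
    rw [hmap, Subgroup.relIndex, ← hk, Subgroup.index_ker, MonoidHom.range_eq_top.2 hs,
      Subgroup.card_top, Nat.card_eq_fintype_card]
    rfl

theorem hom_of_out_equiv {M : Type w} [Group M] {S : Subgroup (Semi Q)}
    (he : Nonempty (M ≃* S.map (outMk hf D.good))) :
    ∃ φ : ↥(S.map (act hf D.good)) →* M, Function.Surjective φ ∧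
      φ.ker = (Cfsg.Inn (Cfsg.POmega F f)).subgroupOf (S.map (act hf D.good)) := by
  obtain ⟨e⟩ := he
  refine exists_hom_of_map _ _ _ (e.symm.toMonoidHom.comp ((outMk hf D.good).subgroupMap S))
    (e.symm.surjective.comp (MonoidHom.subgroupMap_surjective _ _)) fun a => ?_
  rw [MonoidHom.comp_apply, MulEquiv.coe_toMonoidHom, MulEquiv.map_eq_one_iff, ← outMk_eq_one]
  exact ⟨fun h => Subtype.ext h, fun h => congrArg Subtype.val h⟩

end Dat

end Cfsg.Agent.Lib.AutOmega
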