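import Cfsg.Agent.Lib.AutOmega.Models
import Cfsg.Agent.Lib.AutOmega.Outer
import Mathlib.RingTheory.AdjoinRoot
import Mathlib.Algebra.Polynomial.SpecificDegree

/-!
The inner-diagonal automorphisms of `PΩ` in even dimension and odd characteristic.
-/

set_option autoImplicit false

namespace Cfsg.Agent.Lib.AutOmega

open QuadraticMap hiding proj
open Matrix Cfsg.Agent.Lib.Classical.Quad Cfsg.Agent.Lib.Classical.QuadOmega Cfsg.Agent.Lib.Classical.QuadF2
open Cfsg.Agent.Lib.AutOmegaOdd (G Semi)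

universe u v

variable {F : Type u} [Field F]

/-- A similitude as a linear map. -/
noncomputable def linOf {V : Type v} [AddCommGroup V] [Module F V] {Q : QuadraticForm F V}
    (φ : Semi Q) (hσ : φ.σ = 1) : V ≃ₗ[F] V :=
  { φ.map with map_smul' := fun c v => (φ.map_smul c v).trans (by rw [hσ]; rfl) }

theorem linOf_apply {V : Type v} [AddCommGroup V] [Module F V] {Q : QuadraticForm F V}
    (φ : Semi Q) (hσ : φ.σ = 1) (v : V) : linOf φ hσ v = φ.map v := rfl

variable [Fintype F]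

/-- The similitudes inducing an automorphism class cut out by a predicate on matrices. -/
theorem autSubgroup_eq_proper {ι : Type} [Fintype ι] [DecidableEq ι] {f : (ι → F) → F}
    {Q : QuadraticForm F (ι → F)} (hf : ∀ v, Q v = f v) (D : Dat Q) (P : Matrix ι ι F → Prop)
    (hP : ∀ (ψ : Semi Q) (g : Matrix ι ι F), ψ.σ = 1 → (∀ v, g *ᵥ v = ψ.map v) →
      (P g ↔ D.del ψ = 1)) :
    Cfsg.autSubgroupOf (fun β => ∃ g : GL ι F, g ∈ Cfsg.Geo.quadSimilarityGroup (F := F) f ∧
        P (g : Matrix ι ι F) ∧ Cfsg.IsInducedBySemilinearPOmega f g (RingEquiv.refl F) β) =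
      D.proper.map (act hf D.good) := by
  refine le_antisymm ((Subgroup.closure_le _).2 ?_) ?_
  · rintro β ⟨g, ⟨c, hc⟩, hg, hβ⟩
    have hc' : ∀ v : ι → F, Q ((g : Matrix ι ι F).mulVec (fun i => (1 : F ≃+* F) (v i))) =
        (c : F) * (1 : F ≃+* F) (Q v) := fun v => by
      rw [hf, hf]
      exact hc v
    have hσ : (ofPair hc').σ = 1 := rfl
    refine ⟨ofPair hc', D.mem_proper.2 ⟨hσ, ?_⟩,
      (act_of_induced hf D.good (σ := RingEquiv.refl F) rfl (fun v => (ofPair_map hc' v).symm) hβ).symm⟩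
    exact (hP _ _ hσ fun v => (ofPair_map hc' v).symm).1 hg
  · rintro _ ⟨ψ, hψ, rfl⟩
    obtain ⟨hσ, hd⟩ := D.mem_proper.1 hψ
    refine Subgroup.subset_closure ?_
    obtain ⟨g, hg, hi⟩ := pair_of_semi hf D.good ψ
    rw [hσ] at hg hi
    refine ⟨g, ⟨Units.mk0 ψ.H ψ.H0, fun v => ?_⟩, (hP ψ _ hσ hg).2 hd, hi⟩
    rw [← hf, ← hf, show (g : Matrix ι ι F).mulVec v = ψ.map v from hg v, ψ.map_Q, hσ]
    rfl

/-! ### Plus type -/

theorem psc_plus_iff {m : ℕ} (D : Dat (plusQ m F))
    (hg0 : ∃ ν : F, ∀ v, D.g0.map v = Sum.elim (fun i => ν * v (.inl i)) (fun i => v (.inr i)))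
    (ψ : Semi (plusQ m F)) (g : Matrix (Fin m ⊕ Fin m) (Fin m ⊕ Fin m) F) (hσ : ψ.σ = 1)
    (hg : ∀ v, g *ᵥ v = ψ.map v) :
    Cfsg.PreservesSingularClasses (Cfsg.quadFormPlus m F) g ↔ D.del ψ = 1 := by
  obtain ⟨c, h, e⟩ := D.exists_decomp hσ
  set φ := ofScalar _ c * D.pw (mc _ ψ) with hφ
  have hφσ : φ.σ = 1 := by rw [hφ, semi_mul_σ, ofScalar_σ, D.pw_σ, one_mul]
  obtain ⟨ν, hν⟩ := hg0
  rw [psc_plus D.h2 g (linOf φ hφσ) (c := φ.H)
    (fun v => by rw [linOf_apply, φ.map_Q, hφσ]; rfl) ?_ h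
    (fun v => by rw [hg, e, linOf_apply]; rfl), e, D.del_std]
  intro v hv
  rw [mem_xPlane] at hv ⊢
  intro i
  rw [linOf_apply, hφ, semi_mul_map, ofScalar_map, Dat.pw]
  split_ifs <;> simp [hν, hv i]

/-! ### Minus type -/

variable {a b : F}

omit [Fintype F] in
theorem ext_form (m : ℕ) {K : Type u} [Field K] (φ : F →+* K) (v : (Fin m ⊕ Fin m) ⊕ Fin 2 → F) :
    Cfsg.quadFormMinus m K (φ a) (φ b) (fun i => φ (v i)) = φ (Cfsg.quadFormMinus m F a b v) := by
  simp [Cfsg.quadFormMinus]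

section ext

variable {K : Type u} [Field K] (m : ℕ) (t₁ t₂ : K)

/-- The hyperbolic coordinates of a minus form over a field where it splits. -/
noncomputable def splitMap : ((Fin m ⊕ Fin m) ⊕ Fin 2 → K) →ₗ[K] (Fin (m + 1) ⊕ Fin (m + 1) → K) where
  toFun v := Sum.elim (Fin.snoc (fun i => v (.inl (.inl i))) (v (.inr 0) - t₁ * v (.inr 1)))
    (Fin.snoc (fun i => v (.inl (.inr i))) (v (.inr 0) - t₂ * v (.inr 1)))
  map_add' v w := by
    ext (i | i) <;> induction i using Fin.lastCases <;> simp <;> ring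
  map_smul' c v := by
    ext (i | i) <;> induction i using Fin.lastCases <;> simp <;> ring

theorem splitMap_injective (h : t₁ ≠ t₂) : Function.Injective (splitMap m t₁ t₂) := by
  rw [injective_iff_map_eq_zero]
  intro v hv
  have l := congrFun hv (.inl (Fin.last m))
  have r := congrFun hv (.inr (Fin.last m))
  simp [splitMap] at l r
  have h1 : v (.inr 1) = 0 := by
    have : (t₁ - t₂) * v (.inr 1) = 0 := by linear_combination r - l
    exact (mul_eq_zero.1 this).resolve_left (sub_ne_zero.2 h)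
  ext ((i | i) | j)
  · simpa [splitMap] using congrFun hv (.inl i.castSucc)
  · simpa [splitMap] using congrFun hv (.inr i.castSucc)
  · rcases Fin.exists_fin_two.1 ⟨j, rfl⟩ with rfl | rfl
    · simpa [h1] using l
    · exact h1

theorem plus_splitMap {A B : K} (hA : t₁ + t₂ = -A) (hB : t₁ * t₂ = B)
    (v : (Fin m ⊕ Fin m) ⊕ Fin 2 → K) :
    Cfsg.quadFormPlus (m + 1) K (splitMap m t₁ t₂ v) = Cfsg.quadFormMinus m K A B v := by
  rw [Cfsg.quadFormPlus, Fin.sum_univ_castSucc, Cfsg.quadFormMinus]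
  simp [splitMap]
  rw [← hB, show A = -(t₁ + t₂) by rw [hA, neg_neg]]
  ring

end ext

theorem isSquare_ext {K : Type u} [Field K] [Algebra F K] [Fintype K]
    (hK : Module.finrank F K = 2) (h2 : (2 : F) ≠ 0) (d : F) : IsSquare (algebraMap F K d) := by
  rcases eq_or_ne d 0 with rfl | hd
  · exact ⟨0, by simp⟩
  have hK2 : ringChar K ≠ 2 := fun h => h2 (by
    apply (algebraMap F K).injective
    rw [map_ofNat, map_zero]
    haveI := ringChar.charP K
    exact_mod_cast (CharP.cast_eq_zero_iff K (ringChar K) 2).2 (by rw [h]))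
  rw [FiniteField.isSquare_iff hK2 (by simpa using hd),
    Module.card_eq_pow_finrank (K := F) (V := K), hK, ← map_pow]
  obtain ⟨k, hk⟩ := odd_card_of_two_ne_zero h2
  rw [hk, show (2 * k + 1) ^ 2 / 2 = 2 * k * (k + 1) by
    rw [show (2 * k + 1) ^ 2 = 2 * (2 * k * (k + 1)) + 1 by ring]; omega, pow_mul]
  have : d ^ (2 * k) = 1 := by
    have := FiniteField.pow_card_sub_one_eq_one d hd
    rwa [hk, Nat.add_sub_cancel] at this
  rw [this, one_pow, map_one]

theorem exists_roots {K : Type u} [Field K] [Algebra F K] [Fintype K] (hab : Aniso a b)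
    (hK : Module.finrank F K = 2) (h2 : (2 : F) ≠ 0) :
    ∃ t₁ t₂ : K, t₁ ≠ t₂ ∧ t₁ + t₂ = -algebraMap F K a ∧ t₁ * t₂ = algebraMap F K b := by
  obtain ⟨d, hd⟩ := isSquare_ext hK h2 (a ^ 2 - 4 * b)
  have h2K : (2 : K) ≠ 0 := fun h => h2 ((algebraMap F K).injective (by rw [map_ofNat, map_zero, h]))
  rw [map_sub, map_pow, map_mul, map_ofNat] at hd
  refine ⟨(-algebraMap F K a + d) / 2, (-algebraMap F K a - d) / 2, fun h => ?_, by field_simp; ring, ?_⟩
  · have hd0 : d = 0 := by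
      field_simp at h
      have : (2 : K) * d = 0 := by linear_combination h
      exact (mul_eq_zero.1 this).resolve_left h2K
    refine aniso_disc hab ((algebraMap F K).injective ?_)
    rw [map_sub, map_pow, map_mul, map_ofNat, map_zero, hd, hd0, mul_zero]
  · field_simp
    linear_combination hd

omit [Fintype F] in
theorem eMinus_xl {m : ℕ} (p : ((Fin m → F) × (Fin m → F)) × (Fin 2 → F)) (i : Fin m) :
    eMinus m p (.inl (.inl i)) = p.1.1 i := rfl

omit [Fintype F] in
theorem eMinus_xr {m : ℕ} (p : ((Fin m → F) × (Fin m → F)) × (Fin 2 → F)) (i : Fin m) :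
    eMinus m p (.inl (.inr i)) = p.1.2 i := rfl

omit [Fintype F] in
theorem eMinus_z {m : ℕ} (p : ((Fin m → F) × (Fin m → F)) × (Fin 2 → F)) (j : Fin 2) :
    eMinus m p (.inr j) = p.2 j := rfl

/-- Properness is preservation of the classes over a quadratic extension. -/
theorem psc_minus_iff_ext {m : ℕ} (D : Dat (minusQ m a b)) (hab : Aniso a b)
    (hg0 : ∃ (ν : F) (w : Fin 2 → F), binQ a b w = ν ∧
      ∀ v, D.g0.map v = eMinus m ((fun i => ν * v (.inl (.inl i)), fun i => v (.inl (.inr i))),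
        mulW a b w (fun j => v (.inr j))))
    {K : Type u} [Field K] [Algebra F K] (hK : Module.finrank F K = 2)
    (ψ : Semi (minusQ m a b)) (g : Matrix ((Fin m ⊕ Fin m) ⊕ Fin 2) ((Fin m ⊕ Fin m) ⊕ Fin 2) F)
    (hσ : ψ.σ = 1) (hg : ∀ v, g *ᵥ v = ψ.map v) :
    Cfsg.PreservesSingularClasses (Cfsg.quadFormMinus m K (algebraMap F K a) (algebraMap F K b))
      (g.map (algebraMap F K)) ↔ D.del ψ = 1 := by
  have : Module.Finite F K := Module.finite_of_finrank_eq_succ hK
  have : Finite K := Module.finite_of_finite F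
  have : Fintype K := Fintype.ofFinite K
  set φ := algebraMap F K
  obtain ⟨t₁, t₂, ht, hsum, hprod⟩ := exists_roots hab hK D.h2
  obtain ⟨c, h, e⟩ := D.exists_decomp hσ
  obtain ⟨ν, w, hw, hmap⟩ : ∃ (ν : F) (w : Fin 2 → F), binQ a b w = ν ∧
      ∀ v, (D.pw (mc _ ψ)).map v = eMinus m ((fun i => ν * v (.inl (.inl i)),
        fun i => v (.inl (.inr i))), mulW a b w (fun j => v (.inr j))) := by
    unfold Dat.pw
    split_ifs
    · refine ⟨1, ![1, 0], by simp [binQ_apply], fun v => ?_⟩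
      ext ((i | i) | i)
      · simp [eMinus_xl]
      · simp [eMinus_xr]
      · fin_cases i <;> simp [eMinus_z, mulW_apply]
    · exact hg0
  have hν : ν ≠ 0 := fun h0 => by
    have hw0 : w = 0 := binQ_eq_zero hab (hw.trans h0)
    have h1 := hmap (Sum.elim 0 ![1, 0])
    have h2' : (Sum.elim 0 ![1, 0] : (Fin m ⊕ Fin m) ⊕ Fin 2 → F) = 0 := by
      refine (D.pw (mc _ ψ)).map.map_eq_zero_iff.1 (h1.trans ?_)
      ext ((i | i) | i)
      · simp [eMinus_xl]
      · simp [eMinus_xr]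
      · fin_cases i <;> simp [eMinus_z, mulW_apply, hw0]
    simpa using congrFun h2' (.inr 0)
  let E : ((Fin m ⊕ Fin m) ⊕ Fin 2 → K) ≃ₗ[K] (Fin (m + 1) ⊕ Fin (m + 1) → K) :=
    LinearMap.linearEquivOfInjective (splitMap m t₁ t₂) (splitMap_injective m t₁ t₂ ht)
      (by simp [Module.finrank_pi, Fintype.card_sum]; ring)
  have hE : ∀ v, Cfsg.quadFormPlus (m + 1) K (E v) =
      Cfsg.quadFormMinus m K (φ a) (φ b) v := plus_splitMap m t₁ t₂ hsum hprod
  let J : ((Fin m ⊕ Fin m) ⊕ Fin 2 → F) → (Fin (m + 1) ⊕ Fin (m + 1) → K) :=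
    fun v => splitMap m t₁ t₂ fun i => φ (v i)
  have hJ : ∀ v, plusQ (m + 1) K (J v) = φ (minusQ m a b v) := fun v => by
    rw [plusQ_apply, plus_splitMap m t₁ t₂ hsum hprod, ext_form, minusQ_apply]
  have hJa : ∀ v w, J (v + w) = J v + J w := fun v w => by
    show splitMap m t₁ t₂ _ = _
    rw [← map_add]; congr 1; funext i; simp
  have hJs : ∀ (r : F) v, J (r • v) = φ r • J v := fun r v => by
    show splitMap m t₁ t₂ _ = _
    rw [← map_smul]; congr 1; funext i; simp
  -- the isometry, extended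
  obtain ⟨l, hl, hlh⟩ := exists_refl_list D.nd (reg_of_two_ne_zero D.h2) h
  have hJne : ∀ v, minusQ m a b v ≠ 0 → plusQ (m + 1) K (J v) ≠ 0 := fun v hv => by
    rw [hJ]; exact (map_ne_zero φ).2 hv
  obtain ⟨h', hh'd, hh'⟩ : ∃ h' : isoG (plusQ (m + 1) K),
      dick (nd_plusQ (m + 1)) h' = dick D.nd h ∧ ∀ v, h'.1 (J v) = J (h.1 v) := by
    refine ⟨((l.map J).map (refl (plusQ (m + 1) K))).prod, ?_, ?_⟩
    · have hl' : ∀ v ∈ l.map J, plusQ (m + 1) K v ≠ 0 := fun v hv => by
        obtain ⟨x, hx, rfl⟩ := List.mem_map.1 hv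
        exact hJne x (hl x hx)
      rw [dick_prod_refl _ _ hl', ← hlh, dick_prod_refl _ _ hl, List.length_map]
    · rw [← hlh]
      clear hlh
      induction l with
      | nil => intro v; rfl
      | cons x l ih =>
        intro v
        rw [List.map_cons, List.map_cons, List.prod_cons, Subgroup.coe_mul, LinearEquiv.mul_apply,
          ih (fun y hy => hl y (List.mem_cons_of_mem _ hy)), List.map_cons, List.prod_cons,
          Subgroup.coe_mul, LinearEquiv.mul_apply]
        generalize ((l.map (refl (minusQ m a b))).prod).1 v = z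
        have hx := hl x List.mem_cons_self
        rw [refl_apply (hJne x hx), refl_apply hx, sub_eq_add_neg, sub_eq_add_neg, hJa, ← neg_smul,
          ← neg_smul, hJs, map_neg, map_div₀, hJ]
        congr 3
        rw [polar, polar, ← hJa, hJ, hJ, hJ, map_sub, map_sub]
  -- the similitude, extended
  have ha' : φ a = -(t₁ + t₂) := by rw [hsum, neg_neg]
  have hb' : φ b = t₁ * t₂ := hprod.symm
  have hdet : (φ (w 0) - t₁ * φ (w 1)) * (φ (w 0) - t₂ * φ (w 1)) = φ ν := by
    rw [← hw, binQ_apply]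
    simp only [map_add, map_mul, map_pow]
    rw [ha', hb']
    ring
  let d : Fin (m + 1) ⊕ Fin (m + 1) → K := fun i => φ c * Sum.elim
    (Fin.snoc (fun _ => φ ν) (φ (w 0) - t₁ * φ (w 1)))
    (Fin.snoc (fun _ => (1 : K)) (φ (w 0) - t₂ * φ (w 1))) i
  have hd0 : ∀ i, d i ≠ 0 := by
    have h1 : φ (w 0) - t₁ * φ (w 1) ≠ 0 ∧ φ (w 0) - t₂ * φ (w 1) ≠ 0 :=
      mul_ne_zero_iff.1 (by rw [hdet]; exact (map_ne_zero φ).2 hν)
    rintro (i | i) <;> refine mul_ne_zero ((map_ne_zero φ).2 c.ne_zero) ?_ <;>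
      induction i using Fin.lastCases <;> simp [h1.1, h1.2, hν]
  let Dk : (Fin (m + 1) ⊕ Fin (m + 1) → K) ≃ₗ[K] (Fin (m + 1) ⊕ Fin (m + 1) → K) :=
    LinearEquiv.piCongrRight fun i => LinearEquiv.smulOfUnit (Units.mk0 (d i) (hd0 i))
  have hDk : ∀ v i, Dk v i = d i * v i := fun v i => rfl
  have hDJ : ∀ v, Dk (J v) = J ((ofScalar _ c * D.pw (mc _ ψ)).map v) := fun v => by
    ext (i | i) <;> rw [hDk, semi_mul_map, ofScalar_map, hmap] <;>
      induction i using Fin.lastCases <;>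
      simp [J, d, splitMap, eMinus_xl, eMinus_xr, eMinus_z, mulW_apply, ha', hb'] <;> ring
  -- compare
  let g' := LinearMap.toMatrix' (Dk.toLinearMap ∘ₗ h'.1.toLinearMap)
  have hg' : ∀ v, g' *ᵥ v = Dk (h'.1 v) := fun v => by
    rw [← Matrix.toLin'_apply, Matrix.toLin'_toMatrix']; rfl
  have hcomm : ∀ v, E ((g.map φ) *ᵥ v) = g' *ᵥ E v := by
    have h1 : (E : _ →ₗ[K] _) ∘ₗ Matrix.toLin' (g.map φ) = Matrix.toLin' g' ∘ₗ (E : _ →ₗ[K] _) := by
      refine LinearMap.pi_ext fun i r => ?_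
      suffices hi : E ((g.map φ) *ᵥ fun j => φ ((Pi.single i 1 : _ → F) j)) =
          g' *ᵥ E (fun j => φ ((Pi.single i 1 : _ → F) j)) by
        have hs : (Pi.single i r : (Fin m ⊕ Fin m) ⊕ Fin 2 → K) =
            r • fun j => φ ((Pi.single i 1 : _ → F) j) := by
          ext j; simp [Pi.single_apply, apply_ite φ]
        show E (Matrix.toLin' (g.map φ) (Pi.single i r)) = Matrix.toLin' g' (E (Pi.single i r))
        rw [hs, map_smul, map_smul, map_smul, map_smul, Matrix.toLin'_apply, Matrix.toLin'_apply, hi]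
      rw [hg', show E (fun j => φ ((Pi.single i 1 : _ → F) j)) = J (Pi.single i 1) from rfl, hh', hDJ,
        show ((g.map φ) *ᵥ fun j => φ ((Pi.single i 1 : _ → F) j)) =
          fun j => φ ((g *ᵥ Pi.single i 1) j) from
            funext fun j => (RingHom.map_mulVec φ g _ j).symm, hg]
      conv_lhs => rw [e]
      rfl
    intro v
    simpa [Matrix.toLin'_apply] using LinearMap.congr_fun h1 v
  rw [psc_congr E hE hcomm,
    psc_plus (fun h0 => D.h2 (φ.injective (by rw [map_ofNat, map_zero, h0]))) g' Dk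
      (c := φ c * φ c * φ ν) ?_ ?_ h' hg', hh'd, e, D.del_std]
  · intro v
    simp only [plusQ_apply, Cfsg.quadFormPlus, hDk, Finset.mul_sum]
    refine Finset.sum_congr rfl fun i _ => ?_
    induction i using Fin.lastCases with
    | last =>
      simp only [d, Sum.elim_inl, Sum.elim_inr, Fin.snoc_last]
      rw [← hdet]
      ring
    | cast i =>
      simp only [d, Sum.elim_inl, Sum.elim_inr, Fin.snoc_castSucc]
      ring
  · intro v hv
    rw [mem_xPlane] at hv ⊢
    exact fun i => by rw [hDk, hv i, mul_zero]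

omit [Fintype F] in
theorem exists_ext (hab : Aniso a b) :
    ∃ (K : Type u) (_ : Field K) (_ : Algebra F K), Module.finrank F K = 2 := by
  let p : Polynomial F := Polynomial.X ^ 2 + Polynomial.C a * Polynomial.X + Polynomial.C b
  have hdeg : p.natDegree = 2 := by
    simp only [p]
    compute_degree!
  have hp0 : p ≠ 0 := fun h => by rw [h, Polynomial.natDegree_zero] at hdeg; omega
  have hirr : Irreducible p :=
    (Polynomial.irreducible_iff_roots_eq_zero_of_degree_le_three (by rw [hdeg]) (by rw [hdeg]; omega)).2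
      (Multiset.eq_zero_of_forall_notMem fun x hx => by
        rw [Polynomial.mem_roots hp0, Polynomial.IsRoot.def] at hx
        simp [p] at hx
        exact one_ne_zero (hab x 1 (by linear_combination hx)).2)
  have : Fact (Irreducible p) := ⟨hirr⟩
  exact ⟨AdjoinRoot p, inferInstance, inferInstance,
    by rw [PowerBasis.finrank (AdjoinRoot.powerBasis hp0), AdjoinRoot.powerBasis_dim, hdeg]⟩

theorem psc_minus_iff {m : ℕ} (D : Dat (minusQ m a b)) (hab : Aniso a b)
    (hg0 : ∃ (ν : F) (w : Fin 2 → F), binQ a b w = ν ∧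
      ∀ v, D.g0.map v = eMinus m ((fun i => ν * v (.inl (.inl i)), fun i => v (.inl (.inr i))),
        mulW a b w (fun j => v (.inr j))))
    (ψ : Semi (minusQ m a b)) (g : Matrix ((Fin m ⊕ Fin m) ⊕ Fin 2) ((Fin m ⊕ Fin m) ⊕ Fin 2) F)
    (hσ : ψ.σ = 1) (hg : ∀ v, g *ᵥ v = ψ.map v) :
    Cfsg.PreservesSingularClassesMinus m a b g ↔ D.del ψ = 1 := by
  constructor
  · rintro ⟨K, iK, iA, hK, h⟩
    exact (psc_minus_iff_ext D hab hg0 hK ψ g hσ hg).1 h
  · intro h
    obtain ⟨K, iK, iA, hK⟩ := exists_ext hab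
    exact ⟨K, iK, iA, hK, (psc_minus_iff_ext D hab hg0 hK ψ g hσ hg).2 h⟩

theorem inndiag_plus_eq {m : ℕ} (D : Dat (plusQ m F))
    (hg0 : ∃ ν : F, ∀ v, D.g0.map v = Sum.elim (fun i => ν * v (.inl i)) (fun i => v (.inr i))) :
    Cfsg.inndiagPOmegaPlus m F = D.proper.map (act (fun v => plusQ_apply m v) D.good) :=
  autSubgroup_eq_proper _ D (fun g => Cfsg.PreservesSingularClasses (Cfsg.quadFormPlus m F) g)
    (fun ψ g hσ hg => psc_plus_iff D hg0 ψ g hσ hg)

theorem inndiag_minus_eq {m : ℕ} (D : Dat (minusQ m a b)) (hab : Aniso a b)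
    (hg0 : ∃ (ν : F) (w : Fin 2 → F), binQ a b w = ν ∧
      ∀ v, D.g0.map v = eMinus m ((fun i => ν * v (.inl (.inl i)), fun i => v (.inl (.inr i))),
        mulW a b w (fun j => v (.inr j)))) :
    Cfsg.inndiagPOmegaMinus m F a b = D.proper.map (act (fun v => minusQ_apply m a b v) D.good) :=
  autSubgroup_eq_proper _ D (fun g => Cfsg.PreservesSingularClassesMinus m a b g)
    (fun ψ g hσ hg => psc_minus_iff D hab hg0 ψ g hσ hg)

end Cfsg.Agent.Lib.AutOmega
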