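import Cfsg.Agent.Lib.AutOmega.Sim
import Cfsg.Agent.Lib.Classical.QuadOmega.Disc

/-!
Invariants of similitudes in even dimension and odd characteristic: the square class of the
multiplier, whether the similitude is proper, and the spinor norm.
-/

set_option autoImplicit false

namespace Cfsg.Agent.Lib.AutOmega

open QuadraticMap hiding proj
open Cfsg.Agent.Lib.Classical.Quad Cfsg.Agent.Lib.Classical.QuadOmega
open Cfsg.Agent.Lib.AutOmegaOdd (G Semi)

universe u v

variable {F : Type u} [Field F] [Fintype F] {V : Type v} [AddCommGroup V] [Module F V] [Finite V]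
  {Q : QuadraticForm F V}

omit [Finite V] in
theorem sqSign_map (σ : F ≃+* F) (c : F) : sqSign (σ c) = sqSign c := by
  have h : IsSquare (σ c) ↔ IsSquare c :=
    ⟨fun h => by simpa using h.map σ.symm, fun h => h.map σ⟩
  by_cases hc : IsSquare c
  · rw [sqSign_eq_one_iff.2 hc, sqSign_eq_one_iff.2 (h.2 hc)]
  · rw [sqSign, sqSign, if_neg hc, if_neg (h.not.2 hc)]

/-- The square class of the multiplier. -/
noncomputable def mc (Q : QuadraticForm F V) : Semi Q →* ℤˣ where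
  toFun ψ := sqSign ψ.H
  map_one' := sqSign_one
  map_mul' ψ φ := by
    rw [semi_mul_H, sqSign_mul ψ.H0 ((map_ne_zero ψ.σ).2 φ.H0), sqSign_map]

omit [Finite V] in
theorem mc_apply (ψ : Semi Q) : mc Q ψ = sqSign ψ.H := rfl

omit [Finite V] in
@[simp] theorem mc_ofScalar (c : Fˣ) : mc Q (ofScalar Q c) = 1 :=
  sqSign_eq_one_iff.2 ⟨c, rfl⟩

omit [Finite V] in
@[simp] theorem mc_ofIso (h : isoG Q) : mc Q (ofIso Q h) = 1 := sqSign_one

theorem conjI_refl (ψ : Semi Q) {w : V} (hw : Q w ≠ 0) :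
    ψ.conjI (refl Q w) = refl Q (ψ.map w) ∧ Q (ψ.map w) ≠ 0 := by
  have hne : Q (ψ.map w) ≠ 0 := by
    rw [ψ.map_Q]; exact mul_ne_zero ψ.H0 ((map_ne_zero ψ.σ).2 hw)
  refine ⟨iso_ext fun v => ?_, hne⟩
  obtain ⟨z, rfl⟩ := ψ.map.surjective v
  rw [ψ.conjI_apply, refl_apply hw, refl_apply hne, ψ.map_B, ψ.map_Q, map_sub, ψ.map_smul,
    map_div₀, mul_div_mul_left _ _ ψ.H0]

theorem dick_conjI (hQ : Nd Q) (hreg : Reg F V) (ψ : Semi Q) (h : isoG Q) :
    dick hQ (ψ.conjI h) = dick hQ h := by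
  have hh : h ∈ Subgroup.closure {r | ∃ w, Q w ≠ 0 ∧ r = refl Q w} :=
    closure_refl_eq_top' hQ hreg ▸ Subgroup.mem_top h
  refine MonoidHom.eqOn_closure (f := (dick hQ).comp ψ.conjI) (g := dick hQ) ?_ hh
  rintro _ ⟨w, hw, rfl⟩
  obtain ⟨e, hne⟩ := conjI_refl ψ hw
  rw [MonoidHom.comp_apply, e, dick_refl hQ hne, dick_refl hQ hw]

open _root_.Classical in
theorem spn_conjI (hQ : Nd Q) (h2 : (2 : F) ≠ 0) (ψ : Semi Q) (h : isoG Q) :
    spn hQ (ψ.conjI h) = spn hQ h * (if dick hQ h = 1 then 1 else mc Q ψ) := by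
  have hh : h ∈ Subgroup.closure {r | ∃ w, Q w ≠ 0 ∧ r = refl Q w} :=
    closure_refl_eq_top' hQ (reg_of_two_ne_zero h2) ▸ Subgroup.mem_top h
  let X : ℤˣ →* ℤˣ := if mc Q ψ = 1 then 1 else MonoidHom.id _
  have hX : ∀ d, X d = if d = 1 then 1 else mc Q ψ := fun d => by
    rcases Int.units_eq_one_or (mc Q ψ) with e | e <;>
      rcases Int.units_eq_one_or d with rfl | rfl <;> simp [X, e]
  rw [← hX]
  refine MonoidHom.eqOn_closure (f := (spn hQ).comp ψ.conjI)
    (g := spn hQ * X.comp (dick hQ)) ?_ hh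
  rintro _ ⟨w, hw, rfl⟩
  obtain ⟨e, hne⟩ := conjI_refl ψ hw
  rw [MonoidHom.comp_apply, MonoidHom.mul_apply, MonoidHom.comp_apply, e, spn_refl hQ h2 hne,
    spn_refl hQ h2 hw, dick_refl hQ hw, ψ.map_Q, sqSign_mul ψ.H0 ((map_ne_zero ψ.σ).2 hw),
    sqSign_map, hX, if_neg (by decide), mul_comm]
  rfl

theorem mem_siegel_iff (hG : Good Q) (h2 : (2 : F) ≠ 0) (h : isoG Q) :
    h ∈ siegelGroup Q ↔ dick (show Nd Q from hG.nd) h = 1 ∧ spn (show Nd Q from hG.nd) h = 1 := by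
  rw [← commutator_eq hG, mem_commutator_iff _ h2]

/-- What is needed to compute with similitudes. -/
structure Dat (Q : QuadraticForm F V) where
  good : Good Q
  h2 : (2 : F) ≠ 0
  neg : dick (show Nd Q from good.nd) (negOne Q) = 1
  g0 : Semi Q
  g0σ : g0.σ = 1
  g0ns : ¬ IsSquare g0.H
  h0 : isoG Q
  g0sq : g0 * g0 = ofScalar Q (Units.mk0 g0.H g0.H0) * ofIso Q h0
  h0d : dick (show Nd Q from good.nd) h0 = 1

namespace Dat

variable (D : Dat Q)

theorem nd (D : Dat Q) : Nd Q := D.good.nd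

theorem mc_g0 : mc Q D.g0 = -1 := by
  rw [mc_apply, sqSign, if_neg D.g0ns]

/-- A representative of a square class. -/
noncomputable def pw (e : ℤˣ) : Semi Q := if e = 1 then 1 else D.g0

theorem pw_σ (e : ℤˣ) : (D.pw e).σ = 1 := by
  unfold pw
  split_ifs
  · rfl
  · exact D.g0σ

theorem mc_pw (e : ℤˣ) : mc Q (D.pw e) = e := by
  unfold pw
  split_ifs with h
  · rw [map_one, h]
  · rw [mc_g0, (Int.units_eq_one_or e).resolve_left h]

theorem exists_decomp {ψ : Semi Q} (hσ : ψ.σ = 1) :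
    ∃ (c : Fˣ) (h : isoG Q), ψ = ofScalar Q c * D.pw (mc Q ψ) * ofIso Q h := by
  set φ := (D.pw (mc Q ψ))⁻¹ * ψ with hφ
  have hφσ : φ.σ = 1 := by
    rw [hφ, ← sigmaHom_apply, map_mul, map_inv, sigmaHom_apply, sigmaHom_apply, D.pw_σ, hσ,
      inv_one, one_mul]
  have hsq : IsSquare φ.H := by
    rw [← sqSign_eq_one_iff, ← mc_apply, hφ, map_mul, map_inv, D.mc_pw, inv_mul_cancel]
  obtain ⟨t, ht⟩ := hsq
  have ht0 : t ≠ 0 := fun h => φ.H0 (by rw [ht, h, mul_zero])
  obtain ⟨h, hh⟩ := eq_scalar_iso hφσ (c := Units.mk0 t ht0) ht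
  refine ⟨Units.mk0 t ht0, h, ?_⟩
  rw [← ofScalar_comm _ (D.pw_σ _), mul_assoc, ← hh, hφ, mul_inv_cancel_left]

theorem scalar_iso_eq {c c' : Fˣ} {h h' : isoG Q}
    (he : ofScalar Q c * ofIso Q h = ofScalar Q c' * ofIso Q h') :
    h = h' ∨ h = negOne Q * h' := by
  have hH := congrArg Semi.H he
  simp only [semi_mul_H, ofScalar_H, ofScalar_σ, ofIso_H, map_one, mul_one] at hH
  rcases mul_self_eq_mul_self_iff.1 hH with e | e
  · obtain rfl : c = c' := Units.ext e
    exact Or.inl (ofIso_injective (mul_left_cancel he))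
  · obtain rfl : c = c' * -1 := Units.ext (by simp [e])
    rw [map_mul, mul_assoc, ofScalar_negOne, ← map_mul] at he
    have h1 := ofIso_injective (mul_left_cancel he)
    refine Or.inr ?_
    rw [← h1, ← mul_assoc, show negOne Q * negOne Q = 1 from iso_ext fun v => neg_neg v, one_mul]

theorem decomp_unique {c c' : Fˣ} {e e' : ℤˣ} {h h' : isoG Q}
    (he : ofScalar Q c * D.pw e * ofIso Q h = ofScalar Q c' * D.pw e' * ofIso Q h') :
    e = e' ∧ (h = h' ∨ h = negOne Q * h') := by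
  have h1 : e = e' := by simpa [D.mc_pw] using congrArg (mc Q) he
  subst h1
  refine ⟨rfl, scalar_iso_eq (c := c) (c' := c') (mul_left_cancel (a := D.pw e) ?_)⟩
  rw [← mul_assoc, ← mul_assoc, ofScalar_comm _ (D.pw_σ e), ofScalar_comm _ (D.pw_σ e), he]

open _root_.Classical in
/-- Whether a similitude is proper. -/
noncomputable def del (ψ : Semi Q) : ℤˣ :=
  if h : ψ.σ = 1 then dick D.nd (D.exists_decomp h).choose_spec.choose else 1

theorem del_std (c : Fˣ) (e : ℤˣ) (h : isoG Q) :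
    D.del (ofScalar Q c * D.pw e * ofIso Q h) = dick D.nd h := by
  classical
  have hσ : (ofScalar Q c * D.pw e * ofIso Q h).σ = 1 := by simp [D.pw_σ]
  rw [del, dif_pos hσ]
  obtain ⟨-, h1 | h1⟩ :=
    D.decomp_unique (D.exists_decomp hσ).choose_spec.choose_spec.symm
  · rw [h1]
  · rw [h1, map_mul, D.neg, one_mul]

theorem del_iso (h : isoG Q) : D.del (ofIso Q h) = dick D.nd h := by
  have := D.del_std 1 1 h
  rwa [map_one, pw, if_pos rfl, one_mul, one_mul] at this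

theorem del_g0 : D.del D.g0 = 1 := by
  have := D.del_std 1 (-1) 1
  rwa [map_one, pw, if_neg (by decide), one_mul, map_one, map_one, mul_one] at this

theorem del_scalar (c : Fˣ) : D.del (ofScalar Q c) = 1 := by
  have := D.del_std c 1 1
  rwa [pw, if_pos rfl, mul_one, map_one, map_one, mul_one] at this

theorem exists_pw_mul (e e' : ℤˣ) : ∃ (c : Fˣ) (k : isoG Q), dick D.nd k = 1 ∧
    D.pw e * D.pw e' = ofScalar Q c * D.pw (e * e') * ofIso Q k := by
  rcases Int.units_eq_one_or e with rfl | rfl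
  · exact ⟨1, 1, map_one _, by simp [pw]⟩
  rcases Int.units_eq_one_or e' with rfl | rfl
  · exact ⟨1, 1, map_one _, by simp [pw]⟩
  · refine ⟨Units.mk0 D.g0.H D.g0.H0, D.h0, D.h0d, ?_⟩
    simp only [pw, show ((-1 : ℤˣ) = 1) = False from eq_false (by decide), if_false,
      show (-1 : ℤˣ) * -1 = 1 by decide, if_true, mul_one]
    exact D.g0sq

theorem del_mul {ψ φ : Semi Q} (hψ : ψ.σ = 1) (hφ : φ.σ = 1) :
    D.del (ψ * φ) = D.del ψ * D.del φ := by
  obtain ⟨c, h, e1⟩ := D.exists_decomp hψ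
  obtain ⟨c', h', e2⟩ := D.exists_decomp hφ
  set a := mc Q ψ
  set b := mc Q φ
  obtain ⟨c'', k, hk, e3⟩ := D.exists_pw_mul a b
  have hcm : ofIso Q h * D.pw b = D.pw b * ofIso Q ((D.pw b)⁻¹.conjI h) := by
    rw [← conj_ofIso, inv_inv]; group
  have e4 : ψ * φ = ofScalar Q (c * c' * c'') * D.pw (a * b) *
      ofIso Q (k * (D.pw b)⁻¹.conjI h * h') := by
    calc ψ * φ = ofScalar Q c * (D.pw a * ofIso Q h * ofScalar Q c') * (D.pw b * ofIso Q h') := by
          rw [e1, e2]; group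
      _ = ofScalar Q c * (ofScalar Q c' * (D.pw a * ofIso Q h)) * (D.pw b * ofIso Q h') := by
          rw [ofScalar_comm _ (show (D.pw a * ofIso Q h).σ = 1 by simp [D.pw_σ])]
      _ = ofScalar Q c * ofScalar Q c' * (D.pw a * (ofIso Q h * D.pw b)) * ofIso Q h' := by group
      _ = ofScalar Q c * ofScalar Q c' * (D.pw a * D.pw b) * ofIso Q ((D.pw b)⁻¹.conjI h) *
            ofIso Q h' := by rw [hcm]; group
      _ = _ := by rw [e3, map_mul, map_mul, map_mul, map_mul]; group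
  rw [e4, D.del_std, map_mul, map_mul, hk, one_mul,
    dick_conjI _ (reg_of_two_ne_zero D.h2), e1, e2, D.del_std, D.del_std]

/-- The square class of the multiplier and properness. -/
noncomputable def inv2 : (sigmaHom Q).ker →* ℤˣ × ℤˣ where
  toFun ψ := (mc Q ψ.1, D.del ψ.1)
  map_one' := Prod.ext (map_one _) (by
    show D.del 1 = 1
    rw [← map_one (ofIso Q), D.del_iso, map_one])
  map_mul' ψ φ := Prod.ext (map_mul _ _ _) (D.del_mul ψ.2 φ.2)

end Dat

end Cfsg.Agent.Lib.AutOmega
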