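import Cfsg.Agent.Lib.AutOmega.Classes

/-!
The plus and minus forms in odd characteristic: a similitude with nonsquare multiplier, the spinor
norm of `-1`.
-/

set_option autoImplicit false

namespace Cfsg.Agent.Lib.AutOmega

open QuadraticMap hiding proj
open Cfsg.Agent.Lib.Classical.Quad Cfsg.Agent.Lib.Classical.QuadOmega Cfsg.Agent.Lib.Classical.QuadF2
open Cfsg.Agent.Lib.AutOmegaOdd (G Semi)

universe u v w

section transport

variable {F : Type u} [Field F] {V : Type v} [AddCommGroup V] [Module F V] {W : Type w}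
  [AddCommGroup W] [Module F W] {Q : QuadraticForm F V} {R : QuadraticForm F W}
  (E : V ≃ₗ[F] W) (hE : ∀ v, R (E v) = Q v)

/-- Transport of isometries. -/
noncomputable def mapIso : isoG Q →* isoG R where
  toFun k := ⟨(E.symm.trans k.1).trans E, fun w => by
    show R (E (k.1 (E.symm w))) = R w
    rw [hE, iso_Q, ← hE, E.apply_symm_apply]⟩
  map_one' := iso_ext fun w => E.apply_symm_apply w
  map_mul' k l := iso_ext fun w => by
    show E (k.1 (l.1 (E.symm w))) = E (k.1 (E.symm (E (l.1 (E.symm w)))))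
    rw [E.symm_apply_apply]

theorem mapIso_apply (k : isoG Q) (v : V) : (mapIso E hE k).1 (E v) = E (k.1 v) := by
  show E (k.1 (E.symm (E v))) = _
  rw [E.symm_apply_apply]

include hE in
theorem mapIso_refl {x : V} (hx : Q x ≠ 0) : mapIso E hE (refl Q x) = refl R (E x) := by
  refine iso_ext fun w => ?_
  obtain ⟨v, rfl⟩ := E.surjective w
  rw [mapIso_apply, refl_apply hx, refl_apply (by rwa [hE]), hE, map_sub, map_smul]
  congr 3
  simp only [polar, ← map_add, hE]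

/-- Transport of semisimilitudes. -/
noncomputable def mapSemi (ψ : Semi Q) (hσ : ψ.σ = 1) : Semi R where
  σ := 1
  H := ψ.H
  H0 := ψ.H0
  map := (E.symm.toAddEquiv.trans ψ.map).trans E.toAddEquiv
  map_smul c w := by
    show E (ψ.map (E.symm (c • w))) = c • E (ψ.map (E.symm w))
    rw [map_smul, ψ.map_smul, hσ, map_smul, RingAut.one_apply]
  map_Q w := by
    show R (E (ψ.map (E.symm w))) = ψ.H * R w
    rw [hE, ψ.map_Q, hσ, RingAut.one_apply, ← hE, E.apply_symm_apply]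

theorem mapSemi_map (ψ : Semi Q) (hσ : ψ.σ = 1) (v : V) :
    (mapSemi E hE ψ hσ).map (E v) = E (ψ.map v) := by
  show E (ψ.map (E.symm (E v))) = _
  rw [E.symm_apply_apply]

variable [Fintype F] [Finite V] [Finite W]

include hE in
theorem invs_mapIso (hQ : Nd Q) (hR : Nd R) (h2 : (2 : F) ≠ 0) (k : isoG Q) :
    dick hR (mapIso E hE k) = dick hQ k ∧ spn hR (mapIso E hE k) = spn hQ k := by
  have hk : k ∈ Subgroup.closure {r | ∃ w, Q w ≠ 0 ∧ r = refl Q w} :=
    closure_refl_eq_top' hQ (reg_of_two_ne_zero h2) ▸ Subgroup.mem_top k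
  have h1 : ∀ x, Q x ≠ 0 → R (E x) ≠ 0 := fun x hx => by rwa [hE]
  constructor
  · refine MonoidHom.eqOn_closure (f := (dick hR).comp (mapIso E hE)) (g := dick hQ) ?_ hk
    rintro _ ⟨x, hx, rfl⟩
    rw [MonoidHom.comp_apply, mapIso_refl E hE hx, dick_refl hR (h1 x hx), dick_refl hQ hx]
  · refine MonoidHom.eqOn_closure (f := (spn hR).comp (mapIso E hE)) (g := spn hQ) ?_ hk
    rintro _ ⟨x, hx, rfl⟩
    rw [MonoidHom.comp_apply, mapIso_refl E hE hx, spn_refl hR h2 (h1 x hx), spn_refl hQ h2 hx, hE]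

omit [Fintype F] [Finite V] [Finite W] in
theorem mapIso_negOne [Fintype F] [Finite V] [Finite W] : mapIso E hE (negOne Q) = negOne R :=
  iso_ext fun w => by
    obtain ⟨v, rfl⟩ := E.surjective w
    rw [mapIso_apply, negOne_apply, negOne_apply, map_neg]

end transport

section models

variable {F : Type u} [Field F] [Fintype F] {U : Type v} [AddCommGroup U] [Module F U] [Finite U]
  {Q₀ : QuadraticForm F U}

open _root_.Classical in
theorem exists_nonsquare (h2 : (2 : F) ≠ 0) : ∃ ν : F, ν ≠ 0 ∧ ¬ IsSquare ν := by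
  obtain ⟨ν, hν0, -, hνc, -⟩ := exists_nu (F := F)
  exact ⟨ν, hν0, quadraticChar_neg_one_iff_not_isSquare.1 (hνc h2)⟩

omit [Fintype F] [Finite U] in
theorem splitQ_scale (m : ℕ) (Q₀ : QuadraticForm F U) {ν : F} {s : U → U}
    (hs : ∀ u, Q₀ (s u) = ν * Q₀ u) (p : ((Fin m → F) × (Fin m → F)) × U) :
    splitQ m Q₀ ((ν • p.1.1, p.1.2), s p.2) = ν * splitQ m Q₀ p := by
  rw [splitQ_apply, splitQ_apply, mul_add, Finset.mul_sum, hs]
  simp [mul_assoc]

/-- Scaling the first half and acting on the rest. -/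
noncomputable def scaleEquiv (m : ℕ) {ν : F} (hν : ν ≠ 0) (s : U ≃ₗ[F] U) :
    (((Fin m → F) × (Fin m → F)) × U) ≃ₗ[F] (((Fin m → F) × (Fin m → F)) × U) :=
  ((LinearEquiv.smulOfUnit (Units.mk0 ν hν)).prodCongr (LinearEquiv.refl F (Fin m → F))).prodCongr s

/-- A similitude of a split form. -/
noncomputable def splitSemi (m : ℕ) (Q₀ : QuadraticForm F U) {ν : F} (hν : ν ≠ 0) (s : U ≃ₗ[F] U)
    (hs : ∀ u, Q₀ (s u) = ν * Q₀ u) : Semi (splitQ m Q₀) where
  σ := 1
  H := ν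
  H0 := hν
  map := (scaleEquiv m hν s).toAddEquiv
  map_smul c p := (scaleEquiv m hν s).map_smul c p
  map_Q p := splitQ_scale m Q₀ hs p

omit [Fintype F] [Finite U] in
theorem splitSemi_map (m : ℕ) (Q₀ : QuadraticForm F U) {ν : F} (hν : ν ≠ 0) (s : U ≃ₗ[F] U)
    (hs : ∀ u, Q₀ (s u) = ν * Q₀ u) (p : ((Fin m → F) × (Fin m → F)) × U) :
    (splitSemi m Q₀ hν s hs).map p = ((ν • p.1.1, p.1.2), s p.2) := rfl

omit [Fintype F] [Finite U] in
theorem splitSemi_σ (m : ℕ) (Q₀ : QuadraticForm F U) {ν : F} (hν : ν ≠ 0) (s : U ≃ₗ[F] U)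
    (hs : ∀ u, Q₀ (s u) = ν * Q₀ u) : (splitSemi m Q₀ hν s hs).σ = 1 := rfl

/-- The square of a similitude of a split form, and the spinor norm of its isometry part. -/
theorem splitSemi_sq (hQ₀ : Nd Q₀) (h2 : (2 : F) ≠ 0) (m : ℕ) {ν : F} (hν : ν ≠ 0) (s : U ≃ₗ[F] U)
    (hs : ∀ u, Q₀ (s u) = ν * Q₀ u) (k : isoG Q₀) (hk : ∀ u, s (s u) = ν • k.1 u) :
    ∃ h0 : isoG (splitQ m Q₀),
      splitSemi m Q₀ hν s hs * splitSemi m Q₀ hν s hs =
        ofScalar _ (Units.mk0 ν hν) * ofIso _ h0 ∧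
      dick (nd_splitQ hQ₀ m) h0 = dick hQ₀ k ∧
      spn (nd_splitQ hQ₀ m) h0 = sqSign (ν ^ m) * spn hQ₀ k := by
  obtain ⟨s1, s2⟩ := invs_scaleHom hQ₀ h2 m (fun _ => Units.mk0 ν hν)
  obtain ⟨u1, u2⟩ := invs_liftHom hQ₀ h2 m k
  refine ⟨scaleHom m Q₀ (fun _ => Units.mk0 ν hν) * liftHom m Q₀ k, semi_ext rfl ?_ fun p => ?_, ?_, ?_⟩
  · simp [splitSemi]
  · simp only [semi_mul_map, splitSemi_map, ofScalar_map, ofIso_map, Units.val_mk0, Subgroup.coe_mul,
      LinearEquiv.mul_apply, scaleHom_apply]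
    refine Prod.ext (Prod.ext (funext fun i => ?_) (funext fun i => ?_)) (hk p.2)
    · simp [liftHom]
    · simp [liftHom, hν]
  · rw [map_mul, s1, u1, one_mul]
  · rw [map_mul, s2, u2]
    simp

theorem negOne_split (hQ₀ : Nd Q₀) (h2 : (2 : F) ≠ 0) (m : ℕ) :
    dick (nd_splitQ hQ₀ m) (negOne (splitQ m Q₀)) = dick hQ₀ (negOne Q₀) ∧
    spn (nd_splitQ hQ₀ m) (negOne (splitQ m Q₀)) =
      sqSign ((-1 : F) ^ m) * spn hQ₀ (negOne Q₀) := by
  have e : negOne (splitQ m Q₀) = scaleHom m Q₀ (fun _ => -1) * liftHom m Q₀ (negOne Q₀) := by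
    refine iso_ext fun p => ?_
    rw [negOne_apply, Subgroup.coe_mul, LinearEquiv.mul_apply]
    refine Prod.ext (Prod.ext (funext fun i => ?_) (funext fun i => ?_)) rfl <;>
      simp [scaleHom_apply, liftHom]
  obtain ⟨s1, s2⟩ := invs_scaleHom hQ₀ h2 m (fun _ => -1)
  obtain ⟨u1, u2⟩ := invs_liftHom hQ₀ h2 m (negOne Q₀)
  rw [e, map_mul, map_mul, s1, s2, u1, u2]
  simp

end models

/-! ### The plus form -/

variable {F : Type u} [Field F] [Fintype F]

omit [Fintype F] in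
theorem plus_ePlus (m : ℕ) (p : ((Fin m → F) × (Fin m → F)) × (Fin 0 → F)) :
    plusQ m F (ePlus m p) = splitQ m (zeroQ F) p := by rw [plusQ_apply, plus_apply]

theorem invs_zero (k : isoG (zeroQ F)) :
    dick (nd_zeroQ (F := F)) k = 1 ∧ spn (nd_zeroQ (F := F)) k = 1 := by
  have : k = 1 := iso_ext fun v => Subsingleton.elim _ _
  subst this
  exact ⟨map_one _, map_one _⟩

theorem exists_dat_plus {m : ℕ} (hm : 3 ≤ m) (h2 : (2 : F) ≠ 0) :
    ∃ D : Dat (plusQ m F), spn D.nd (negOne (plusQ m F)) = sqSign ((-1 : F) ^ m) ∧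
      spn D.nd D.h0 = (-1) ^ m ∧
      ∃ ν : F, ∀ v, D.g0.map v = Sum.elim (fun i => ν * v (.inl i)) (fun i => v (.inr i)) := by
  obtain ⟨ν, hν, hns⟩ := exists_nonsquare h2
  have hs : ∀ u : Fin 0 → F, zeroQ F (LinearEquiv.refl F (Fin 0 → F) u) = ν * zeroQ F u :=
    fun u => by simp [zeroQ]
  obtain ⟨h0, hsq, hd0, hs0⟩ := splitSemi_sq (nd_zeroQ (F := F)) h2 m hν _ hs 1
    (fun u => Subsingleton.elim _ _)
  obtain ⟨n1, n2⟩ := negOne_split (nd_zeroQ (F := F)) h2 m
  have hnd : Nd (plusQ m F) := nd_plusQ m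
  have hG : Good (plusQ m F) := good_of_split (good_plus hm) (ePlus m)
  obtain ⟨d1, d2⟩ := invs_mapIso (ePlus m) (plus_ePlus m) (nd_splitQ (nd_zeroQ (F := F)) m) hnd h2 h0
  obtain ⟨e1, e2⟩ := invs_mapIso (ePlus m) (plus_ePlus m) (nd_splitQ (nd_zeroQ (F := F)) m) hnd h2
    (negOne _)
  rw [mapIso_negOne] at e1 e2
  set g0 := mapSemi (ePlus m) (plus_ePlus m) (splitSemi m (zeroQ F) hν _ hs) (splitSemi_σ _ _ _ _ _) with hg0
  refine ⟨⟨hG, h2, by rw [e1, n1, (invs_zero _).1], g0, rfl, hns,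
    mapIso (ePlus m) (plus_ePlus m) h0, semi_ext rfl ?_ fun v => ?_,
    by rw [d1, hd0, map_one]⟩, ?_, ?_, ν, fun v => ?_⟩
  · simp [hg0, mapSemi, splitSemi]
  · obtain ⟨p, rfl⟩ := (ePlus m).surjective v
    have h := congrArg (fun x => ePlus m (x.map p)) hsq
    simp only [semi_mul_map, ofScalar_map, ofIso_map, map_smul] at h
    simp only [semi_mul_map, ofScalar_map, ofIso_map, hg0, mapSemi_map, mapIso_apply]
    exact h
  · show spn hnd _ = _
    rw [e2, n2, (invs_zero _).2, mul_one]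
  · show spn hnd _ = _
    rw [d2, hs0, map_one, mul_one]
    induction m with
    | zero => omega
    | succ k _ =>
      clear * - hν hns
      induction k with
      | zero => rw [pow_one, pow_one, sqSign, if_neg hns]
      | succ j ih => rw [pow_succ ν, sqSign_mul (pow_ne_zero _ hν) hν, ih, pow_succ (-1 : ℤˣ) (j + 1),
          show sqSign ν = -1 by rw [sqSign, if_neg hns]]
  · obtain ⟨p, rfl⟩ := (ePlus m).surjective v
    show g0.map (ePlus m p) = _
    rw [hg0, mapSemi_map, splitSemi_map]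
    ext (i | i) <;> rfl

/-! ### The minus form -/

variable {a b : F}

theorem minus_eMinus (m : ℕ) (p : ((Fin m → F) × (Fin m → F)) × (Fin 2 → F)) :
    minusQ m a b (eMinus m p) = splitQ m (binQ a b) p := by rw [minusQ_apply, minus_apply]

theorem sqSign_pow {ν : F} (hν : ν ≠ 0) (k : ℕ) : sqSign (ν ^ k) = sqSign ν ^ k := by
  induction k with
  | zero => rw [pow_zero, pow_zero, sqSign_one]
  | succ j ih => rw [pow_succ, pow_succ, sqSign_mul (pow_ne_zero _ hν) hν, ih]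

theorem exists_dat_minus (hab : Aniso a b) {m : ℕ} (hm : 3 ≤ m) (h2 : (2 : F) ≠ 0) :
    ∃ D : Dat (minusQ m a b),
      spn D.nd (negOne (minusQ m a b)) = -sqSign ((-1 : F) ^ (m + 1)) ∧
      spn D.nd D.h0 = (-1) ^ (m + 1) ∧
      ∃ (ν : F) (w : Fin 2 → F), binQ a b w = ν ∧
        ∀ v, D.g0.map v = eMinus m ((fun i => ν * v (.inl (.inl i)), fun i => v (.inl (.inr i))),
          mulW a b w (fun j => v (.inr j))) := by
  obtain ⟨ν, hν, hns⟩ := exists_nonsquare h2
  have hB : Nd (binQ a b) := nd_binQ hab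
  obtain ⟨w, hw⟩ := exists_binQ_eq hab ν
  have hw0 : w ≠ 0 := fun h => hν (by rw [← hw, h, map_zero])
  set s := LinearEquiv.ofInjectiveEndo (mulW a b w) (mulW_injective hab hw0)
  have hs : ∀ u, binQ a b (s u) = ν * binQ a b u := fun u => (binQ_mulW a b w u).trans (by rw [hw])
  have e1v : binQ a b ![1, 0] = 1 := by simp [binQ_apply]
  have n1 : binQ a b ![1, 0] ≠ 0 := by rw [e1v]; exact one_ne_zero
  have nw : binQ a b w ≠ 0 := by rwa [hw]
  set k := refl (binQ a b) w * refl (binQ a b) ![1, 0]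
  have hk : ∀ u, s (s u) = ν • k.1 u := fun u => by
    show mulW a b w (mulW a b w u) = _
    rw [Subgroup.coe_mul, LinearEquiv.mul_apply, refl_apply nw, refl_apply n1, e1v, ← hw]
    rw [smul_sub, smul_smul, mul_div_cancel₀ _ nw, mulW_apply, mulW_apply]
    ext i
    fin_cases i <;>
      simp [binQ_apply, polar, Matrix.vecHead, Matrix.vecTail] <;> ring
  obtain ⟨h0, hsq, hd0, hs0⟩ := splitSemi_sq hB h2 m hν s hs k hk
  obtain ⟨n1', n2'⟩ := negOne_split hB h2 m
  obtain ⟨t1, t2⟩ := invs_negOne_binQ h2 hab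
  have hnd : Nd (minusQ m a b) := nd_minusQ hab m
  have hG : Good (minusQ m a b) := good_of_split (good_minus hab hm) (eMinus m)
  obtain ⟨d1, d2⟩ := invs_mapIso (eMinus m) (minus_eMinus m) (nd_splitQ hB m) hnd h2 h0
  obtain ⟨e1, e2⟩ := invs_mapIso (eMinus m) (minus_eMinus m) (nd_splitQ hB m) hnd h2
    (negOne _)
  rw [mapIso_negOne] at e1 e2
  have hkd : dick hB k = 1 ∧ spn hB k = -1 := by
    rw [map_mul, map_mul, dick_refl _ nw, dick_refl _ n1, spn_refl _ h2 nw, spn_refl _ h2 n1, hw,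
      e1v, sqSign_one, mul_one, sqSign, if_neg hns]
    exact ⟨rfl, rfl⟩
  set g0 := mapSemi (eMinus m) (minus_eMinus m) (splitSemi m (binQ a b) hν s hs) (splitSemi_σ _ _ _ _ _) with hg0
  refine ⟨⟨hG, h2, by rw [e1, n1']; exact t1, g0, rfl, hns,
    mapIso (eMinus m) (minus_eMinus m) h0, semi_ext rfl ?_ fun v => ?_,
    by rw [d1, hd0, hkd.1]⟩, ?_, ?_, ν, w, hw, fun v => ?_⟩
  · simp [hg0, mapSemi, splitSemi]
  · obtain ⟨p, rfl⟩ := (eMinus m).surjective v
    have h := congrArg (fun x => eMinus m (x.map p)) hsq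
    simp only [semi_mul_map, ofScalar_map, ofIso_map, map_smul] at h
    simp only [semi_mul_map, ofScalar_map, ofIso_map, hg0, mapSemi_map, mapIso_apply]
    exact h
  · show spn hnd _ = _
    rw [e2, n2']
    erw [t2]
    have hd : 4 * b - a ^ 2 ≠ 0 :=
      fun h => not_isSquare_disc h2 hab ⟨0, by linear_combination -h⟩
    have hne : ((-1 : F) ^ m) ≠ 0 := pow_ne_zero _ (neg_ne_zero.2 one_ne_zero)
    rw [← sqSign_mul hne hd,
      show (-1 : F) ^ m * (4 * b - a ^ 2) = (-1 : F) ^ (m + 1) * (a ^ 2 - 4 * b) by rw [pow_succ]; ring,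
      sqSign_mul (pow_ne_zero _ (neg_ne_zero.2 one_ne_zero)) (aniso_disc hab),
      show sqSign (a ^ 2 - 4 * b) = -1 by rw [sqSign, if_neg (not_isSquare_disc h2 hab)], mul_neg,
      mul_one]
  · show spn hnd _ = _
    rw [d2, hs0, hkd.2, sqSign_pow hν, show sqSign ν = -1 by rw [sqSign, if_neg hns], pow_succ]
  · obtain ⟨p, rfl⟩ := (eMinus m).surjective v
    show g0.map (eMinus m p) = _
    rw [hg0, mapSemi_map, splitSemi_map]
    rfl

/-- The square class of a power of `-1`. -/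
theorem sqSign_negOne_pow (hodd : Odd (Fintype.card F)) (i : ℕ) :
    sqSign ((-1 : F) ^ i) = -1 ↔ Odd i ∧ Fintype.card F % 4 = 3 := by
  have h4 : Fintype.card F % 4 = 1 ∨ Fintype.card F % 4 = 3 := by
    have := Nat.odd_iff.1 hodd; omega
  have key := isSquare_neg_one_pow (F := F) rfl hodd i
  have hq : Fintype.card F ^ i % 4 = if Odd i ∧ Fintype.card F % 4 = 3 then 3 else 1 := by
    rw [Nat.pow_mod]
    rcases Nat.even_or_odd i with ⟨j, rfl⟩ | ⟨j, rfl⟩
    · rw [if_neg (fun h => absurd h.1 (Nat.not_odd_iff_even.2 ⟨j, rfl⟩)), ← two_mul, pow_mul]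
      rcases h4 with h | h <;> rw [h] <;> simp [Nat.pow_mod]
    · rw [pow_succ, pow_mul]
      rcases h4 with h | h <;> rw [h] <;> simp [Nat.pow_mod, Nat.mul_mod]
  by_cases hs : IsSquare ((-1 : F) ^ i)
  · rw [sqSign_eq_one_iff.2 hs]
    have := key.1 hs
    refine ⟨fun h => absurd h (by decide), fun h => ?_⟩
    rw [hq, if_pos h] at this
    omega
  · rw [sqSign, if_neg hs]
    refine ⟨fun _ => ?_, fun _ => rfl⟩
    by_contra h
    exact hs (key.2 (by rw [hq, if_neg h]))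

end Cfsg.Agent.Lib.AutOmega
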