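import Cfsg.Agent.Lib.AutOmega.Sim
import Cfsg.Agent.Lib.Classical.QuadOmega.BaseChange

/-!
Extension of scalars for semisimilitudes.
-/

set_option autoImplicit false

namespace Cfsg.Agent.Lib.AutOmega

open QuadraticMap hiding proj
open Matrix Cfsg.Agent.Lib.Classical.Quad Cfsg.Agent.Lib.Classical.QuadOmega
open Cfsg.Agent.Lib.AutOmegaOdd (Semi)

universe u w

variable {F : Type u} [Field F] {K : Type w} [Field K] (em : K →+* F)
  {ι κ : Type} [Fintype ι] [DecidableEq ι] [Fintype κ] [DecidableEq κ]
  (J : (κ → F) ≃ₗ[F] (ι → F))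

/-- A rational point. -/
noncomputable def kp (v : κ → K) : ι → F := J fun i => em (v i)

theorem kp_add (v w : κ → K) : kp em J (v + w) = kp em J v + kp em J w := by
  rw [kp, kp, kp, ← map_add]
  congr 1
  funext i
  exact map_add em _ _

theorem kp_smul (c : K) (v : κ → K) : kp em J (c • v) = em c • kp em J v := by
  rw [kp, kp, ← map_smul]
  congr 1
  funext i
  exact map_mul em _ _

theorem kp_injective : Function.Injective (kp em J) := fun _ _ h =>
  funext fun i => em.injective (congrFun (J.injective h) i)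

theorem kp_sum {α : Type} (s : Finset α) (g : α → κ → K) :
    kp em J (∑ a ∈ s, g a) = ∑ a ∈ s, kp em J (g a) :=
  map_sum (AddMonoidHom.mk' (kp em J) (kp_add em J)) g s

theorem kp_zero : kp em J (0 : κ → K) = 0 :=
  map_zero (AddMonoidHom.mk' (kp em J) (kp_add em J))

/-- Rational points span. -/
theorem eq_sum_kp (z : ι → F) :
    z = ∑ i, (J.symm z i) • kp em J (Pi.single i (1 : K)) := by
  have : ∀ i, kp em J (Pi.single i (1 : K)) = J (Pi.single i 1) := fun i => by
    rw [kp]
    congr 1
    funext j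
    simp [Pi.single_apply, apply_ite em]
  simp only [this, ← map_smul, ← map_sum, ← pi_eq_sum_univ' (J.symm z), J.apply_symm_apply]

/-- Induction on rational points. -/
theorem kp_induction {P : (ι → F) → Prop} (h0 : P 0) (hadd : ∀ x y, P x → P y → P (x + y))
    (hsm : ∀ (c : F) (v : κ → K), P (c • kp em J v)) (z : ι → F) : P z := by
  rw [eq_sum_kp em J z]
  exact Finset.sum_induction _ P hadd h0 fun i _ => hsm _ _

/-- Semilinear maps agreeing on rational points agree. -/
theorem semilin_ext {W : Type*} [AddCommGroup W] [Module F W] (τ : F → F)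
    (A B : (ι → F) → W) (hA : ∀ x y, A (x + y) = A x + A y) (hB : ∀ x y, B (x + y) = B x + B y)
    (hA' : ∀ (c : F) x, A (c • x) = τ c • A x) (hB' : ∀ (c : F) x, B (c • x) = τ c • B x)
    (h : ∀ v : κ → K, A (kp em J v) = B (kp em J v)) (z : ι → F) : A z = B z := by
  refine kp_induction em J (P := fun z => A z = B z) ?_ (fun x y hx hy => by rw [hA, hB, hx, hy])
    (fun c v => by rw [hA', hB', h]) z
  have a0 : A 0 = 0 := by
    have := hA 0 0
    rwa [add_zero, left_eq_add] at this
  have b0 : B 0 = 0 := by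
    have := hB 0 0
    rwa [add_zero, left_eq_add] at this
  rw [a0, b0]

/-- A semilinear map multiplying a form on rational points does so everywhere. -/
theorem form_semilin {κ' : Type} {S : QuadraticForm F (κ' → F)} {Q : QuadraticForm F (ι → F)}
    (τ : F →+* F) (A : (ι → F) →+ (κ' → F)) (hA : ∀ (c : F) x, A (c • x) = τ c • A x) (d : F)
    (h : ∀ v : κ → K, S (A (kp em J v)) = d * τ (Q (kp em J v))) (z : ι → F) :
    S (A z) = d * τ (Q z) := by
  have hp1 : ∀ v w : κ → K, polar S (A (kp em J v)) (A (kp em J w)) =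
      d * τ (polar Q (kp em J v) (kp em J w)) := by
    intro v w
    simp only [polar, ← map_add A, ← kp_add, h]
    rw [map_sub, map_sub, mul_sub, mul_sub]
  have hp2 : ∀ (y : ι → F) (v : κ → K), polar S (A y) (A (kp em J v)) =
      d * τ (polar Q y (kp em J v)) := by
    intro y
    refine kp_induction em J (P := fun y => ∀ v : κ → K, polar S (A y) (A (kp em J v)) = d * τ (polar Q y (kp em J v))) (fun v => by simp [polar_zero_left]) (fun a b ha hb v => ?_)
      (fun c u v => ?_) y
    · rw [map_add A, polar_add_left, ha, hb, polar_add_left, map_add, mul_add]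
    · rw [hA, polar_smul_left, hp1, polar_smul_left, smul_eq_mul, smul_eq_mul, map_mul]
      ring
  have hp : ∀ x y : ι → F, polar S (A x) (A y) = d * τ (polar Q x y) := by
    intro x y
    refine kp_induction em J (P := fun y => polar S (A x) (A y) = d * τ (polar Q x y)) (by simp [polar_zero_right]) (fun a b ha hb => ?_) (fun c v => ?_) y
    · rw [map_add A, polar_add_right, ha, hb, polar_add_right, map_add, mul_add]
    · rw [hA, polar_smul_right, hp2, polar_smul_right, smul_eq_mul, smul_eq_mul, map_mul]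
      ring
  refine kp_induction em J (P := fun z => S (A z) = d * τ (Q z)) (by simp) (fun x y hx hy => ?_) (fun c v => ?_) z
  · rw [map_add A, QuadraticMap.map_add ⇑S, hx, hy, hp, QuadraticMap.map_add ⇑Q, map_add, map_add]
    ring
  · rw [hA, QuadraticMap.map_smul, h, QuadraticMap.map_smul, smul_eq_mul, smul_eq_mul, map_mul,
      map_mul]
    ring

/-- The semilinear extension of a map on rational coordinates. -/
noncomputable def extMap (τ : F ≃+* F) (g : (κ → K) → (κ → K)) : (ι → F) →+ (ι → F) where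
  toFun z := ∑ i, τ (J.symm z i) • kp em J (g (Pi.single i 1))
  map_zero' := by simp
  map_add' x y := by simp [add_smul, Finset.sum_add_distrib]

theorem extMap_smul (τ : F ≃+* F) (g : (κ → K) → (κ → K)) (c : F) (z : ι → F) :
    extMap em J τ g (c • z) = τ c • extMap em J τ g z := by
  show ∑ i, τ (J.symm (c • z) i) • _ = τ c • ∑ i, _
  simp [Finset.smul_sum, smul_smul]

variable {R : QuadraticForm K (κ → K)} {Q : QuadraticForm F (ι → F)}

theorem extMap_kp (ψ : Semi R) (τ : F ≃+* F) (hτ : ∀ x, τ (em x) = em (ψ.σ x)) (v : κ → K) :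
    extMap em J τ (fun y => ψ.map y) (kp em J v) = kp em J (ψ.map v) := by
  show ∑ i, τ (J.symm (kp em J v) i) • _ = _
  conv_rhs => rw [pi_eq_sum_univ' v, map_sum ψ.map, kp_sum]
  refine Finset.sum_congr rfl fun i _ => ?_
  rw [kp, J.symm_apply_apply, hτ, ψ.map_smul, kp_smul]

/-- Compatibility of the forms. -/
def Compat (R : QuadraticForm K (κ → K)) (Q : QuadraticForm F (ι → F)) : Prop :=
  ∀ v, Q (kp em J v) = em (R v)

variable {em J}

theorem Compat.polar (h : Compat em J R Q) (v w : κ → K) :
    QuadraticMap.polar Q (kp em J v) (kp em J w) = em (QuadraticMap.polar R v w) := by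
  simp only [QuadraticMap.polar, ← kp_add, h _, map_sub]

theorem semi_symm_σ (ψ : Semi R) (τ : F ≃+* F) (hτ : ∀ x, τ (em x) = em (ψ.σ x)) (x : K) :
    τ.symm (em x) = em ((ψ⁻¹).σ x) := by
  rw [RingEquiv.symm_apply_eq, hτ]
  congr 1
  show x = ψ.σ (ψ.σ.symm x)
  rw [RingEquiv.apply_symm_apply]

/-- The extension of a semisimilitude. -/
noncomputable def extSemi (h : Compat em J R Q) (ψ : Semi R) (τ : F ≃+* F)
    (hτ : ∀ x, τ (em x) = em (ψ.σ x)) : Semi Q where
  σ := τ
  H := em ψ.H
  H0 := (map_ne_zero em).2 ψ.H0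
  map := AddMonoidHom.toAddEquiv (extMap em J τ fun y => ψ.map y)
    (extMap em J τ.symm fun y => (ψ⁻¹).map y)
    (AddMonoidHom.ext fun z => semilin_ext em J id _ id (map_add _) (fun _ _ => rfl)
      (fun c x => by
        show _ = c • _
        rw [AddMonoidHom.comp_apply, extMap_smul, extMap_smul, RingEquiv.symm_apply_apply]
        rfl) (fun _ _ => rfl)
      (fun v => by
        show extMap em J τ.symm _ (extMap em J τ _ _) = _
        rw [extMap_kp em J ψ τ hτ, extMap_kp em J ψ⁻¹ τ.symm (semi_symm_σ ψ τ hτ), ← semi_mul_map,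
          inv_mul_cancel, semi_one_map]
        rfl) z)
    (AddMonoidHom.ext fun z => semilin_ext em J id _ id (map_add _) (fun _ _ => rfl)
      (fun c x => by
        show _ = c • _
        rw [AddMonoidHom.comp_apply, extMap_smul, extMap_smul, RingEquiv.apply_symm_apply]
        rfl) (fun _ _ => rfl)
      (fun v => by
        show extMap em J τ _ (extMap em J τ.symm _ _) = _
        rw [extMap_kp em J ψ⁻¹ τ.symm (semi_symm_σ ψ τ hτ), extMap_kp em J ψ τ hτ, ← semi_mul_map,
          mul_inv_cancel, semi_one_map]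
        rfl) z)
  map_smul := fun c z => extMap_smul em J τ _ c z
  map_Q := fun z => by
    refine form_semilin em J τ.toRingHom (extMap em J τ fun y => ψ.map y) (extMap_smul em J τ _) _
      (fun v => ?_) z
    show Q (extMap em J τ _ _) = _ * τ (Q (kp em J v))
    rw [extMap_kp em J ψ τ hτ, h, h, ψ.map_Q, map_mul, hτ]

variable {h : Compat em J R Q}

@[simp] theorem extSemi_σ (ψ : Semi R) (τ : F ≃+* F) (hτ : ∀ x, τ (em x) = em (ψ.σ x)) :
    (extSemi h ψ τ hτ).σ = τ := rfl

@[simp] theorem extSemi_H (ψ : Semi R) (τ : F ≃+* F) (hτ : ∀ x, τ (em x) = em (ψ.σ x)) :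
    (extSemi h ψ τ hτ).H = em ψ.H := rfl

theorem extSemi_kp (ψ : Semi R) (τ : F ≃+* F) (hτ : ∀ x, τ (em x) = em (ψ.σ x)) (v : κ → K) :
    (extSemi h ψ τ hτ).map (kp em J v) = kp em J (ψ.map v) := extMap_kp em J ψ τ hτ v

/-- A semisimilitude is determined by the rational points. -/
theorem semi_eq_of_kp {A B : Semi Q} (hσ : A.σ = B.σ) (hH : A.H = B.H)
    (hkp : ∀ v : κ → K, A.map (kp em J v) = B.map (kp em J v)) : A = B :=
  semi_ext hσ hH fun z => semilin_ext em J (fun c => A.σ c) (fun x => A.map x) (fun x => B.map x)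
    (map_add A.map) (map_add B.map) A.map_smul (fun c x => by rw [B.map_smul, hσ]) hkp z

theorem extSemi_mul (ψ φ : Semi R) (τ τ' : F ≃+* F) (hτ : ∀ x, τ (em x) = em (ψ.σ x))
    (hτ' : ∀ x, τ' (em x) = em (φ.σ x)) (hm : ∀ x, (τ * τ') (em x) = em ((ψ * φ).σ x)) :
    extSemi h (ψ * φ) (τ * τ') hm = extSemi h ψ τ hτ * extSemi h φ τ' hτ' :=
  semi_eq_of_kp (em := em) (J := J) rfl (by simp [hτ]) fun v => by
    rw [semi_mul_map, extSemi_kp, extSemi_kp, extSemi_kp, semi_mul_map]

theorem one_em {ψ : Semi R} (hσ : ψ.σ = 1) (x : K) :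
    (1 : F ≃+* F) (em x) = em (ψ.σ x) := by
  rw [hσ]; rfl

/-- The extension of similitudes. -/
noncomputable def extHom (h : Compat em J R Q) : (sigmaHom R).ker →* Semi Q where
  toFun g := extSemi h g.1 1 (one_em g.2)
  map_one' := semi_eq_of_kp (em := em) (J := J) rfl (by simp) fun v => by
    rw [extSemi_kp, semi_one_map, OneMemClass.coe_one, semi_one_map]
  map_mul' g k := semi_eq_of_kp (em := em) (J := J) (by simp)
    (by simp [show g.1.σ = 1 from g.2]) fun v => by
    rw [semi_mul_map, extSemi_kp, extSemi_kp, extSemi_kp, Subgroup.coe_mul, semi_mul_map]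

theorem extHom_σ (g : (sigmaHom R).ker) : (extHom h g).σ = 1 := rfl

theorem extHom_H (g : (sigmaHom R).ker) : (extHom h g).H = em g.1.H := rfl

theorem extHom_kp (g : (sigmaHom R).ker) (v : κ → K) :
    (extHom h g).map (kp em J v) = kp em J (g.1.map v) := extMap_kp em J g.1 1 (one_em g.2) v

theorem extHom_scalar (c : Kˣ) :
    extHom h ⟨ofScalar R c, ofScalar_σ (Q := R) c⟩ = ofScalar Q (Units.map em.toMonoidHom c) :=
  semi_eq_of_kp (em := em) (J := J) rfl (by simp [extHom_H]) fun v => by
    rw [extHom_kp, ofScalar_map, ofScalar_map, kp_smul]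
    rfl

/-- Isometries as similitudes. -/
noncomputable def isoKer (R : QuadraticForm K (κ → K)) : isoG R →* (sigmaHom R).ker :=
  MonoidHom.codRestrict (ofIso R) (sigmaHom R).ker fun k => ofIso_σ k

theorem isoKer_coe (k : isoG R) : (isoKer R k).1 = ofIso R k := rfl

/-- The extension of isometries. -/
noncomputable def extI (h : Compat em J R Q) : isoG R →* isoG Q where
  toFun k :=
    ⟨{ (extHom h (isoKer R k)).map with
        map_smul' := fun c v => ((extHom h (isoKer R k)).map_smul c v).trans
          (by rw [extHom_σ]; rfl) },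
      fun v => ((extHom h (isoKer R k)).map_Q v).trans
        (by rw [extHom_H, extHom_σ, isoKer_coe, ofIso_H, map_one, one_mul]; rfl)⟩
  map_one' := iso_ext fun v => by
    show (extHom h (isoKer R 1)).map v = v
    rw [map_one, map_one, semi_one_map]
  map_mul' k l := iso_ext fun v => by
    show (extHom h (isoKer R (k * l))).map v = (extHom h (isoKer R k)).map ((extHom h (isoKer R l)).map v)
    rw [map_mul, map_mul, semi_mul_map]

theorem ofIso_extI (k : isoG R) : ofIso Q (extI h k) = extHom h (isoKer R k) :=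
  semi_ext rfl (by simp [extHom_H, isoKer_coe]) fun _ => rfl

theorem extI_kp (k : isoG R) (v : κ → K) : (extI h k).1 (kp em J v) = kp em J (k.1 v) :=
  extHom_kp (h := h) (isoKer R k) v

theorem extI_refl {w : κ → K} (hw : R w ≠ 0) :
    extI h (refl R w) = refl Q (kp em J w) ∧ Q (kp em J w) ≠ 0 := by
  have hw' : Q (kp em J w) ≠ 0 := by rw [h]; exact (map_ne_zero em).2 hw
  refine ⟨iso_ext fun z => semilin_ext em J id (fun x => (extI h (refl R w)).1 x)
    (fun x => (refl Q (kp em J w)).1 x) (map_add _) (map_add _) (map_smul _) (map_smul _)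
    (fun v => ?_) z, hw'⟩
  show (extI h (refl R w)).1 (kp em J v) = (refl Q (kp em J w)).1 (kp em J v)
  rw [extI_kp, refl_apply hw', refl_apply hw, h.polar, h, ← map_div₀, ← kp_smul, sub_eq_add_neg,
    sub_eq_add_neg, kp_add]
  congr 1
  exact map_neg (AddMonoidHom.mk' (kp em J) (kp_add em J)) _

theorem dick_extI [Fintype F] [Fintype K] (hR : Nd R) (hQ : Nd Q) (hreg : Reg K (κ → K))
    (k : isoG R) : dick hQ (extI h k) = dick hR k := by
  have hk : k ∈ Subgroup.closure {r | ∃ w, R w ≠ 0 ∧ r = refl R w} :=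
    closure_refl_eq_top' hR hreg ▸ Subgroup.mem_top k
  refine MonoidHom.eqOn_closure (f := (dick hQ).comp (extI h)) (g := dick hR) ?_ hk
  rintro _ ⟨w, hw, rfl⟩
  obtain ⟨e, hw'⟩ := extI_refl (h := h) hw
  rw [MonoidHom.comp_apply, e, dick_refl hQ hw', dick_refl hR hw]

theorem spn_extI [Fintype F] [Fintype K] (hR : Nd R) (hQ : Nd Q) (h2 : (2 : F) ≠ 0)
    (h2K : (2 : K) ≠ 0) (f : ℤˣ →* ℤˣ) (hf : ∀ c : K, c ≠ 0 → sqSign (em c) = f (sqSign c))
    (k : isoG R) : spn hQ (extI h k) = f (spn hR k) := by
  have hk : k ∈ Subgroup.closure {r | ∃ w, R w ≠ 0 ∧ r = refl R w} :=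
    closure_refl_eq_top' hR (reg_of_two_ne_zero h2K) ▸ Subgroup.mem_top k
  refine MonoidHom.eqOn_closure (f := (spn hQ).comp (extI h)) (g := f.comp (spn hR)) ?_ hk
  rintro _ ⟨w, hw, rfl⟩
  obtain ⟨e, hw'⟩ := extI_refl (h := h) hw
  rw [MonoidHom.comp_apply, e, spn_refl hQ h2 hw', MonoidHom.comp_apply, spn_refl hR h2K hw, h]
  exact hf _ hw

/-- A non-degenerate extension comes from a non-degenerate form. -/
theorem nd_of_compat (h : Compat em J R Q) (hQ : Nd Q) : Nd R := fun x hx => by
  refine kp_injective em J ((hQ _ fun y => ?_).trans (kp_zero em J).symm)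
  refine kp_induction em J (P := fun y => QuadraticMap.polar Q (kp em J x) y = 0) (polar_zero_right (Q := Q) _) (fun a b ha hb => by rw [polar_add_right, ha, hb, add_zero])
    (fun c v => by rw [polar_smul_right, h.polar, hx, map_zero, smul_zero]) y

/-- The extension of a non-degenerate form. -/
theorem nd_of_compat' (h : Compat em J R Q) (hR : Nd R) : Nd Q := by
  classical
  intro x hx
  -- the Gram matrix of rational points is invertible
  let B : Matrix κ κ K := fun i j => QuadraticMap.polar R (Pi.single i 1) (Pi.single j 1)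
  have hB : ∀ v, B *ᵥ v = fun i => QuadraticMap.polar R v (Pi.single i 1) := fun v => by
    funext i
    conv_rhs => rw [pi_eq_sum_univ' v]
    rw [← polarBilin_apply_apply, map_sum, LinearMap.sum_apply]
    simp only [mulVec, dotProduct, B, map_smul, LinearMap.smul_apply, polarBilin_apply_apply,
      smul_eq_mul, polar_comm R (Pi.single i 1)]
    exact Finset.sum_congr rfl fun j _ => mul_comm _ _
  have hBu : IsUnit B := mulVec_injective_iff_isUnit.1 fun v w hvw => by
    rw [← sub_eq_zero]
    refine hR _ fun y => ?_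
    have h1 : ∀ i, QuadraticMap.polar R (v - w) (Pi.single i 1) = 0 := fun i => by
      rw [polar_sub_left, sub_eq_zero]
      simpa [hB] using congrFun hvw i
    rw [pi_eq_sum_univ' y, ← polarBilin_apply_apply, map_sum]
    exact Finset.sum_eq_zero fun i _ => by
      rw [map_smul, polarBilin_apply_apply, h1, smul_zero]
  have hB' : ∀ i, ((B.map em) *ᵥ J.symm x) i = QuadraticMap.polar Q x (kp em J (Pi.single i 1)) := fun i => by
    conv_rhs => rw [eq_sum_kp em J x]
    rw [← polarBilin_apply_apply, map_sum, LinearMap.sum_apply]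
    simp only [mulVec, dotProduct, B, map_smul, LinearMap.smul_apply, polarBilin_apply_apply,
      smul_eq_mul, h.polar, Matrix.map_apply, polar_comm R (Pi.single i 1)]
    exact Finset.sum_congr rfl fun j _ => by
      show em (QuadraticMap.polar R _ _) * _ = _
      rw [mul_comm, polar_comm R]
  have hz : J.symm x = 0 := (mulVec_injective_iff_isUnit.2 (hBu.map em.mapMatrix))
    (funext fun i => (hB' i).trans ((hx _).trans (congrFun (mulVec_zero _) i).symm))
  simpa using congrArg J hz

end Cfsg.Agent.Lib.AutOmega
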