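import Cfsg.Agent.Lib.AutOmega.Inndiag
import Cfsg.Agent.Lib.AutOmega.ScalarExt
import Cfsg.Agent.Lib.AutOmega.Frob

/-!
The parity of semisimilitudes of a plus form and properness for minus forms, in every characteristic.
-/

set_option autoImplicit false

namespace Cfsg.Agent.Lib.AutOmega

open QuadraticMap hiding proj
open Matrix Cfsg.Agent.Lib.Classical.Quad Cfsg.Agent.Lib.Classical.QuadOmega Cfsg.Agent.Lib.Classical.QuadF2
open Cfsg.Agent.Lib.AutOmegaOdd (Semi)

universe u w v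

section image

variable {F : Type u} [Field F] {V : Type v} [AddCommGroup V] [Module F V] {Q : QuadraticForm F V}

/-- The image of a subspace. -/
noncomputable def imgσ (ψ : Semi Q) (U : Submodule F V) : Submodule F V where
  carrier := ψ.map '' U
  add_mem' := by
    rintro _ _ ⟨x, hx, rfl⟩ ⟨y, hy, rfl⟩
    exact ⟨x + y, U.add_mem hx hy, map_add ψ.map x y⟩
  zero_mem' := ⟨0, U.zero_mem, map_zero ψ.map⟩
  smul_mem' := by
    rintro c _ ⟨x, hx, rfl⟩
    exact ⟨ψ.σ.symm c • x, U.smul_mem _ hx, by rw [ψ.map_smul, RingEquiv.apply_symm_apply]⟩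

theorem mem_imgσ {ψ : Semi Q} {U : Submodule F V} {v : V} :
    v ∈ imgσ ψ U ↔ ∃ x ∈ U, ψ.map x = v := Iff.rfl

theorem imgσ_mul (ψ φ : Semi Q) (U : Submodule F V) : imgσ (ψ * φ) U = imgσ ψ (imgσ φ U) := by
  ext v
  constructor
  · rintro ⟨x, hx, rfl⟩
    exact ⟨φ.map x, ⟨x, hx, rfl⟩, rfl⟩
  · rintro ⟨_, ⟨x, hx, rfl⟩, rfl⟩
    exact ⟨x, hx, rfl⟩

theorem imgσ_one (U : Submodule F V) : imgσ (1 : Semi Q) U = U := by
  ext v
  simp [mem_imgσ]

theorem imgσ_inf (ψ : Semi Q) (U W : Submodule F V) : imgσ ψ U ⊓ imgσ ψ W = imgσ ψ (U ⊓ W) := by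
  ext v
  constructor
  · rintro ⟨⟨x, hx, rfl⟩, y, hy, hxy⟩
    exact ⟨x, ⟨hx, ψ.map.injective hxy ▸ hy⟩, rfl⟩
  · rintro ⟨x, ⟨hx, hy⟩, rfl⟩
    exact ⟨⟨x, hx, rfl⟩, x, hy, rfl⟩

variable [Fintype F] [Finite V]

theorem finrank_imgσ (ψ : Semi Q) (U : Submodule F V) :
    Module.finrank F (imgσ ψ U) = Module.finrank F U := by
  refine Nat.pow_right_injective (Nat.succ_le_of_lt (Fintype.one_lt_card (α := F))) ?_
  show Fintype.card F ^ _ = Fintype.card F ^ _
  rw [← Nat.card_eq_fintype_card, ← Module.natCard_eq_pow_finrank (K := F) (V := imgσ ψ U),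
    ← Module.natCard_eq_pow_finrank (K := F) (V := U)]
  exact Nat.card_image_of_injective ψ.map.injective _

theorem maxTS_imgσ (ψ : Semi Q) {U : Submodule F V} (hU : MaxTS Q U) : MaxTS Q (imgσ ψ U) :=
  ⟨fun v hv => by
    obtain ⟨x, hx, rfl⟩ := hv
    rw [ψ.map_Q, hU.sing x hx, map_zero, mul_zero],
    by rw [finrank_imgσ]; exact hU.dim⟩

theorem parS_imgσ (ψ : Semi Q) (U W : Submodule F V) :
    parS (imgσ ψ U) (imgσ ψ W) = parS U W := by
  rw [parS, parS, imgσ_inf, finrank_imgσ]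

end image

/-! ### Plus type -/

section plus

variable {F : Type u} [Field F] [Fintype F] {m : ℕ}

/-- The signed parity of two maximal subspaces. -/
noncomputable def sp (U W : Submodule F (Fin m ⊕ Fin m → F)) : ℤˣ := (-1) ^ m * parS U W

theorem sp_self {U : Submodule F (Fin m ⊕ Fin m → F)} (hU : MaxTS (plusQ m F) U) : sp U U = 1 := by
  rw [sp, parS, inf_idem, ((maxTS_iff m U).1 hU).1, Int.units_mul_self]

theorem sp_symm (U W : Submodule F (Fin m ⊕ Fin m → F)) : sp U W = sp W U := by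
  rw [sp, sp, parS_symm]

theorem sp_trans {U W X : Submodule F (Fin m ⊕ Fin m → F)} (hU : MaxTS (plusQ m F) U)
    (hW : MaxTS (plusQ m F) W) (hX : MaxTS (plusQ m F) X) : sp U X = sp U W * sp W X := by
  have h := parS_trans (nd_plusQ m) hU hW hX
  have e : parS W W = (-1) ^ m := by rw [parS, inf_idem, ((maxTS_iff m W).1 hW).1]
  rw [sp, sp, sp, parS_symm U X, parS_symm U W, parS_symm W X]
  rw [e] at h
  revert h
  generalize ((-1 : ℤˣ) ^ m) = s
  generalize parS X U = x
  generalize parS W U = y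
  generalize parS X W = z
  revert s x y z
  decide

theorem sp_imgσ (ψ : Semi (plusQ m F)) (U W : Submodule F (Fin m ⊕ Fin m → F)) :
    sp (imgσ ψ U) (imgσ ψ W) = sp U W := by rw [sp, sp, parS_imgσ]

/-- Whether a semisimilitude preserves the two classes. -/
noncomputable def pol (m : ℕ) (F : Type u) [Field F] [Fintype F] : Semi (plusQ m F) →* ℤˣ where
  toFun ψ := sp (xPlane m F) (imgσ ψ (xPlane m F))
  map_one' := by rw [imgσ_one, sp_self (maxTS_xPlane m)]
  map_mul' ψ φ := by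
    have hX := maxTS_xPlane (F := F) m
    rw [sp_trans hX (maxTS_imgσ ψ hX) (maxTS_imgσ (ψ * φ) hX), imgσ_mul, sp_imgσ]

theorem pol_apply (ψ : Semi (plusQ m F)) : pol m F ψ = sp (xPlane m F) (imgσ ψ (xPlane m F)) := rfl

theorem sp_imgσ_self (ψ : Semi (plusQ m F)) {U : Submodule F (Fin m ⊕ Fin m → F)}
    (hU : MaxTS (plusQ m F) U) : sp U (imgσ ψ U) = pol m F ψ := by
  have hX := maxTS_xPlane (F := F) m
  rw [sp_trans hU hX (maxTS_imgσ ψ hU), sp_trans hX (maxTS_imgσ ψ hX) (maxTS_imgσ ψ hU),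
    sp_imgσ, pol_apply, sp_symm U (xPlane m F), mul_comm, mul_assoc, Int.units_mul_self, mul_one]

theorem pol_of_map {ψ : Semi (plusQ m F)} (h : ∀ v ∈ xPlane m F, ψ.map v ∈ xPlane m F) :
    pol m F ψ = 1 := by
  have e : imgσ ψ (xPlane m F) = xPlane m F :=
    Submodule.eq_of_le_of_finrank_le (fun v hv => by obtain ⟨x, hx, rfl⟩ := hv; exact h x hx)
      (finrank_imgσ ψ _).ge
  rw [pol_apply, e, sp_self (maxTS_xPlane m)]

theorem pol_ofIso (hreg : Reg F (Fin m ⊕ Fin m → F)) (k : isoG (plusQ m F)) :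
    pol m F (ofIso _ k) = dick (nd_plusQ m) k := by
  rw [dick_eq_parS hreg k (maxTS_xPlane m), pol_apply, sp]
  rfl

theorem pol_scalar (c : Fˣ) : pol m F (ofScalar _ c) = 1 :=
  pol_of_map fun _ hv => Submodule.smul_mem _ _ hv

theorem psc_iff_pol (ψ : Semi (plusQ m F)) (hσ : ψ.σ = 1)
    (g : Matrix (Fin m ⊕ Fin m) (Fin m ⊕ Fin m) F) (hg : ∀ v, g *ᵥ v = ψ.map v) :
    Cfsg.PreservesSingularClasses (Cfsg.quadFormPlus m F) g ↔ pol m F ψ = 1 := by
  have key : ∀ U, MaxTS (plusQ m F) U →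
      (Cfsg.SameParityClass U (Cfsg.imageSubmodule g U) ↔ pol m F ψ = 1) := by
    intro U hU
    have himg : Cfsg.imageSubmodule g U = imgσ ψ U := by
      ext v
      constructor
      · rintro ⟨u, hu, rfl⟩
        exact ⟨u, hu, (hg u).symm⟩
      · rintro ⟨u, hu, rfl⟩
        exact ⟨u, hu, hg u⟩
    rw [sameParity_iff hU, himg, ← sp_imgσ_self ψ hU, sp]
    generalize parS U (imgσ ψ U) = s
    rcases Int.units_eq_one_or s with rfl | rfl <;> rcases Nat.even_or_odd m with e | e <;>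
      simp [e.neg_one_pow]
  exact ⟨fun hp => (key _ (maxTS_xPlane m)).1 (hp _ (isMax_iff.2 (maxTS_xPlane m))),
    fun hd U hU => (key U (isMax_iff.1 hU)).2 hd⟩

omit [Fintype F] in
/-- The diagonal similitude. -/
noncomputable def diagPlus (m : ℕ) (c : Fˣ) : Semi (plusQ m F) where
  σ := 1
  H := c
  H0 := c.ne_zero
  map := (LinearEquiv.piCongrRight fun i : Fin m ⊕ Fin m =>
    (LinearEquiv.smulOfUnit (Sum.elim (fun _ => c) (fun _ => (1 : Fˣ)) i) : F ≃ₗ[F] F)).toAddEquiv
  map_smul := fun a v => (LinearEquiv.piCongrRight fun i : Fin m ⊕ Fin m =>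
    (LinearEquiv.smulOfUnit (Sum.elim (fun _ => c) (fun _ => (1 : Fˣ)) i) : F ≃ₗ[F] F)).map_smul a v
  map_Q := fun v => by
    simp only [plusQ_apply, Cfsg.quadFormPlus, RingAut.one_apply, Finset.mul_sum]
    refine Finset.sum_congr rfl fun i _ => ?_
    show ((c : F) * v (.inl i)) * (((1 : Fˣ) : F) * v (.inr i)) = _
    rw [Units.val_one, one_mul, mul_assoc]

omit [Fintype F] in
theorem diagPlus_map (c : Fˣ) (v : Fin m ⊕ Fin m → F) (i : Fin m) :
    (diagPlus m c).map v (.inl i) = c * v (.inl i) ∧ (diagPlus m c).map v (.inr i) = v (.inr i) :=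
  ⟨rfl, one_mul _⟩

omit [Fintype F] in
/-- A field automorphism acting on the coordinates. -/
noncomputable def fieldPlus (m : ℕ) (σ : F ≃+* F) : Semi (plusQ m F) where
  σ := σ
  H := 1
  H0 := one_ne_zero
  map := AddEquiv.piCongrRight fun _ => σ.toAddEquiv
  map_smul := fun a v => funext fun i => map_mul σ _ _
  map_Q := fun v => by
    simp only [plusQ_apply, Cfsg.quadFormPlus, one_mul, map_sum, map_mul]
    rfl

omit [Fintype F] in
theorem fieldPlus_map (σ : F ≃+* F) (v : Fin m ⊕ Fin m → F) :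
    (fieldPlus m σ).map v = fun i => σ (v i) := rfl

theorem pol_fieldPlus (σ : F ≃+* F) : pol m F (fieldPlus m σ) = 1 :=
  pol_of_map fun v hv => by
    rw [mem_xPlane] at hv ⊢
    intro i
    rw [fieldPlus_map]
    simp [hv i]

theorem pol_diagPlus (c : Fˣ) : pol m F (diagPlus m c) = 1 :=
  pol_of_map fun v hv => by
    rw [mem_xPlane] at hv ⊢
    intro i
    rw [(diagPlus_map c v i).2, hv i]

end plus

/-! ### Proper similitudes -/

section proper

variable {F : Type u} [Field F] {ι : Type} [Fintype ι] [DecidableEq ι] {Q : QuadraticForm F (ι → F)}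

/-- A similitude is a given one followed by an isometry. -/
theorem exists_iso_part {g s : Semi Q} (hg : g.σ = 1) (hs : s.σ = 1) (hH : g.H = s.H) :
    ∃ k : isoG Q, g = s * ofIso Q k := by
  set φ := s⁻¹ * g with hφ
  have hφσ : φ.σ = 1 := by
    rw [hφ, ← sigmaHom_apply, map_mul, map_inv, sigmaHom_apply, sigmaHom_apply, hg, hs, inv_one,
      one_mul]
  have hφH : φ.H = ((1 : Fˣ) : F) * (1 : Fˣ) := by
    have h := congrArg Semi.H (mul_inv_cancel_left s g)
    rw [← hφ, semi_mul_H, hs, RingAut.one_apply, hH] at h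
    rw [Units.val_one, one_mul]
    exact (mul_eq_left₀ s.H0).1 h
  obtain ⟨k, hk⟩ := eq_scalar_iso hφσ hφH
  refine ⟨k, ?_⟩
  rw [map_one, one_mul] at hk
  rw [← hk, hφ, mul_inv_cancel_left]

variable [Fintype F] {f : (ι → F) → F} (hf : ∀ v, Q v = f v) (hG : Good Q)

/-- The data of the proper similitudes inducing a group of automorphisms. -/
structure Proper (G : Subgroup (MulAut (Cfsg.POmega F f))) where
  P : Subgroup (Semi Q)
  le : P ≤ (sigmaHom Q).ker
  normal : P.Normal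
  scalar : ∀ c, ofScalar Q c ∈ P
  iso : ∀ k, ofIso Q k ∈ P ↔ dick (show Nd Q from hG.nd) k = 1
  mult : ∀ ν : F, ν ≠ 0 → ∃ g ∈ P, g.H = ν
  eq : G = P.map (act hf hG)

theorem Proper.refl_not {G : Subgroup (MulAut (Cfsg.POmega F f))} (D : Proper hf hG G) {v : ι → F}
    (hv : Q v ≠ 0) : ofIso Q (refl Q v) ∉ D.P := fun h => by
  have := (D.iso _).1 h
  rw [dick_refl _ hv] at this
  exact absurd this (by decide)

/-- A similitude is proper or becomes so after a reflection. -/
theorem Proper.mem_or {G : Subgroup (MulAut (Cfsg.POmega F f))} (D : Proper hf hG G) {g : Semi Q}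
    (hg : g.σ = 1) {v : ι → F} (hv : Q v ≠ 0) : g ∈ D.P ∨ g * ofIso Q (refl Q v) ∈ D.P := by
  obtain ⟨s, hs, hH⟩ := D.mult g.H g.H0
  obtain ⟨k, rfl⟩ := exists_iso_part hg (D.le hs) hH.symm
  rcases Int.units_eq_one_or (dick (show Nd Q from hG.nd) k) with h | h
  · exact Or.inl (mul_mem hs ((D.iso k).2 h))
  · refine Or.inr ?_
    rw [mul_assoc, ← map_mul]
    exact mul_mem hs ((D.iso _).2 (by rw [map_mul, h, dick_refl _ hv]; rfl))

/-- The group generated by the automorphisms of a class of similitudes. -/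
theorem autSubgroup_eq (P : Subgroup (Semi Q)) (hle : P ≤ (sigmaHom Q).ker)
    (c : Matrix ι ι F → Prop)
    (hP : ∀ (ψ : Semi Q) (g : Matrix ι ι F), ψ.σ = 1 → (∀ v, g *ᵥ v = ψ.map v) →
      (c g ↔ ψ ∈ P)) :
    Cfsg.autSubgroupOf (fun β => ∃ g : GL ι F, g ∈ Cfsg.Geo.quadSimilarityGroup (F := F) f ∧
        c (g : Matrix ι ι F) ∧ Cfsg.IsInducedBySemilinearPOmega f g (RingEquiv.refl F) β) =
      P.map (act hf hG) := by
  refine le_antisymm ((Subgroup.closure_le _).2 ?_) ?_
  · rintro β ⟨g, ⟨d, hd⟩, hg, hβ⟩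
    have hd' : ∀ v : ι → F, Q ((g : Matrix ι ι F).mulVec (fun i => (1 : F ≃+* F) (v i))) =
        (d : F) * (1 : F ≃+* F) (Q v) := fun v => by
      rw [hf, hf]
      exact hd v
    have hσ : (ofPair hd').σ = 1 := rfl
    exact ⟨ofPair hd', (hP _ _ hσ fun v => (ofPair_map hd' v).symm).1 hg,
      (act_of_induced hf hG (σ := RingEquiv.refl F) rfl (fun v => (ofPair_map hd' v).symm) hβ).symm⟩
  · rintro _ ⟨ψ, hψ, rfl⟩
    refine Subgroup.subset_closure ?_
    have hσ : ψ.σ = 1 := hle hψ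
    obtain ⟨g, hg, hi⟩ := pair_of_semi hf hG ψ
    rw [hσ] at hg hi
    refine ⟨g, ⟨Units.mk0 ψ.H ψ.H0, fun v => ?_⟩, (hP ψ _ hσ hg).2 hψ, hi⟩
    rw [← hf, ← hf, show (g : Matrix ι ι F).mulVec v = ψ.map v from hg v, ψ.map_Q, hσ]
    rfl

end proper

section plusProper

variable {F : Type u} [Field F] [Fintype F] {m : ℕ}

theorem good_plusQ (hm : 3 ≤ m) : Good (plusQ m F) := good_of_split (good_plus hm) (ePlus m)

theorem reg_plusQ (hm : 3 ≤ m) : Reg F (Fin m ⊕ Fin m → F) := reg_plus (Or.inr (by omega))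

/-- The proper similitudes of a plus form. -/
noncomputable def Pp (m : ℕ) (F : Type u) [Field F] [Fintype F] : Subgroup (Semi (plusQ m F)) :=
  (sigmaHom (plusQ m F)).ker ⊓ (pol m F).ker

theorem mem_Pp {ψ : Semi (plusQ m F)} : ψ ∈ Pp m F ↔ ψ.σ = 1 ∧ pol m F ψ = 1 := Iff.rfl

/-- The inner-diagonal automorphisms of plus type. -/
noncomputable def properPlus (hm : 3 ≤ m) :
    Proper (fun v => plusQ_apply m v) (good_plusQ hm) (Cfsg.inndiagPOmegaPlus m F) where
  P := Pp m F
  le := inf_le_left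
  normal := Subgroup.normal_inf_normal _ _
  scalar c := ⟨ofScalar_σ (Q := plusQ m F) c, pol_scalar c⟩
  iso k := by
    rw [← pol_ofIso (reg_plusQ hm)]
    exact ⟨fun h => h.2, fun h => ⟨ofIso_σ k, h⟩⟩
  mult ν hν := ⟨diagPlus m (Units.mk0 ν hν), ⟨rfl, pol_diagPlus _⟩, rfl⟩
  eq := autSubgroup_eq _ _ _ inf_le_left
    (fun g => Cfsg.PreservesSingularClasses (Cfsg.quadFormPlus m F) g) fun ψ g hσ hg =>
      (psc_iff_pol ψ hσ g hg).trans ⟨fun h => ⟨hσ, h⟩, fun h => h.2⟩

end plusProper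

/-! ### Minus type -/

section minus

variable {K : Type w} [Field K] {F : Type u} [Field F] (em : K →+* F) {m : ℕ} {a b : K} {t₁ t₂ : F}

/-- The coordinates splitting a minus form. -/
noncomputable def splitEquiv (m : ℕ) (h : t₁ ≠ t₂) :
    ((Fin m ⊕ Fin m) ⊕ Fin 2 → F) ≃ₗ[F] (Fin (m + 1) ⊕ Fin (m + 1) → F) :=
  LinearMap.linearEquivOfInjective (splitMap m t₁ t₂) (splitMap_injective m t₁ t₂ h)
    (by simp [Module.finrank_pi, Fintype.card_sum]; ring)

theorem splitEquiv_apply (h : t₁ ≠ t₂) (v : (Fin m ⊕ Fin m) ⊕ Fin 2 → F) :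
    splitEquiv m h v = splitMap m t₁ t₂ v := rfl

theorem compat_split (h : t₁ ≠ t₂) (hs : t₁ + t₂ = -em a) (hp : t₁ * t₂ = em b) :
    Compat em (splitEquiv m h) (minusQ m a b) (plusQ (m + 1) F) := fun v => by
  rw [plusQ_apply, kp, splitEquiv_apply, plus_splitMap m t₁ t₂ hs hp, minusQ_apply]
  simp [Cfsg.quadFormMinus]

variable [Fintype K] [Fintype F]

/-- The diagonal similitude of a minus form. -/
noncomputable def shapeMinus (m : ℕ) (hab : Aniso a b) (w : Fin 2 → K) (hw : binQ a b w ≠ 0) :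
    Semi (minusQ m a b) :=
  let L : ((Fin m ⊕ Fin m) ⊕ Fin 2 → K) ≃ₗ[K] ((Fin m ⊕ Fin m) ⊕ Fin 2 → K) :=
    (eMinus m).symm.trans ((((LinearEquiv.piCongrRight fun _ =>
        LinearEquiv.smulOfUnit (Units.mk0 _ hw)).prodCongr (LinearEquiv.refl K (Fin m → K))).prodCongr
      (LinearEquiv.ofInjectiveEndo (mulW a b w)
        (mulW_injective hab fun h => hw (by rw [h, map_zero])))).trans (eMinus m))
  { σ := 1
    H := binQ a b w
    H0 := hw
    map := L.toAddEquiv
    map_smul := fun c v => L.map_smul c v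
    map_Q := fun v => by
      obtain ⟨p, rfl⟩ := (eMinus m).surjective v
      show minusQ m a b (L (eMinus m p)) = _
      simp only [L, LinearEquiv.trans_apply, LinearEquiv.symm_apply_apply, minus_eMinus, splitQ_apply,
        RingAut.one_apply, LinearEquiv.prodCongr_apply, LinearEquiv.refl_apply,
        LinearEquiv.piCongrRight_apply, mul_add, Finset.mul_sum]
      refine congrArg₂ (· + ·) (Finset.sum_congr rfl fun i _ => ?_) (binQ_mulW a b w p.2)
      show binQ a b w * p.1.1 i * _ = _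
      rw [mul_assoc] }

theorem shapeMinus_map (hab : Aniso a b) (w : Fin 2 → K) (hw : binQ a b w ≠ 0)
    (v : (Fin m ⊕ Fin m) ⊕ Fin 2 → K) :
    (shapeMinus m hab w hw).map v = eMinus m ((fun i => binQ a b w * v (.inl (.inl i)),
      fun i => v (.inl (.inr i))), mulW a b w fun j => v (.inr j)) := rfl

variable (m) in
theorem exists_shape (hab : Aniso a b) {ν : K} (hν : ν ≠ 0) :
    ∃ (w : Fin 2 → K) (hw : binQ a b w ≠ 0), (shapeMinus m hab w hw).H = ν := by
  obtain ⟨w, hw⟩ := exists_binQ_eq hab ν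
  exact ⟨w, by rwa [hw], hw⟩

variable {em}

theorem pol_ext_shape (hab : Aniso a b) (ht : t₁ ≠ t₂) (hs : t₁ + t₂ = -em a)
    (hp : t₁ * t₂ = em b) (w : Fin 2 → K) (hw : binQ a b w ≠ 0) :
    pol (m + 1) F (extHom (compat_split em ht hs hp) ⟨shapeMinus m hab w hw, rfl⟩) = 1 := by
  set S := extHom (compat_split em ht hs hp) ⟨shapeMinus m hab w hw, rfl⟩ with hS
  let A : ((Fin m ⊕ Fin m) ⊕ Fin 2 → F) → (Fin (m + 1) ⊕ Fin (m + 1) → F) := fun z =>
    splitEquiv m ht (eMinus m ((fun i => em (binQ a b w) * z (.inl (.inl i)),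
      fun i => z (.inl (.inr i))), mulW (em a) (em b) (fun j => em (w j)) fun j => z (.inr j)))
  have hA : ∀ z, S.map z = A ((splitEquiv m ht).symm z) := by
    refine semilin_ext em (splitEquiv m ht) id (fun z => S.map z) _ (map_add S.map) (fun x y => ?_)
      (fun c x => (S.map_smul c x).trans rfl) (fun c x => ?_) fun v => ?_
    · simp only [A]
      rw [← map_add (splitEquiv m ht), map_add (splitEquiv m ht).symm]
      congr 1
      rw [← map_add (eMinus m)]
      congr 1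
      refine Prod.ext (Prod.ext (funext fun i => by simp [mul_add]) (funext fun i => by simp)) ?_
      rw [show (fun j : Fin 2 => ((splitEquiv m ht).symm x + (splitEquiv m ht).symm y) (.inr j)) =
        (fun j => (splitEquiv m ht).symm x (.inr j)) + fun j => (splitEquiv m ht).symm y (.inr j)
          from rfl, map_add]
      rfl
    · simp only [A, map_smul, id]
      rw [← map_smul (splitEquiv m ht), ← map_smul (eMinus m)]
      congr 2
      refine Prod.ext (Prod.ext (funext fun i => by simp [mul_left_comm]) (funext fun i => by simp)) ?_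
      rw [show (fun j : Fin 2 => (c • (splitEquiv m ht).symm x) (.inr j)) =
        c • fun j => (splitEquiv m ht).symm x (.inr j) from rfl, map_smul]
      rfl
    · rw [hS, extHom_kp]
      show splitEquiv m ht (fun i => em ((shapeMinus m hab w hw).map v i)) = _
      simp only [A, kp, LinearEquiv.symm_apply_apply]
      congr 1
      ext ((i | i) | i)
      · simp [shapeMinus_map, eMinus_xl]
      · simp [shapeMinus_map, eMinus_xr]
      · simp only [shapeMinus_map, eMinus_z, mulW_apply]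
        fin_cases i <;> simp
  refine pol_of_map fun v hv => ?_
  obtain ⟨z, rfl⟩ := (splitEquiv m ht).surjective v
  rw [hA, LinearEquiv.symm_apply_apply]
  rw [mem_xPlane] at hv ⊢
  have ha' : em a = -(t₁ + t₂) := by rw [hs, neg_neg]
  intro i
  induction i using Fin.lastCases with
  | last =>
    have h0 : z (.inr 0) - t₂ * z (.inr 1) = 0 := by
      simpa [splitEquiv_apply, splitMap] using hv (Fin.last m)
    simp [A, splitEquiv_apply, splitMap, eMinus_z, mulW_apply]
    linear_combination (em (w 0) - t₂ * em (w 1)) * h0 + em (w 1) * z (.inr 1) * hp -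
      t₂ * em (w 1) * z (.inr 1) * ha'
  | cast i =>
    simpa [A, splitEquiv_apply, splitMap, eMinus_xr] using hv i.castSucc

theorem reg_split (hm : 2 ≤ m) : Reg F (Fin (m + 1) ⊕ Fin (m + 1) → F) :=
  reg_plus (Or.inr (by omega))

omit [Fintype F] in
theorem reg_minus (hm : 2 ≤ m) : Reg K ((Fin m ⊕ Fin m) ⊕ Fin 2 → K) := by
  refine Or.inr ?_
  rw [Module.finrank_pi, Fintype.card_sum, Fintype.card_sum, Fintype.card_fin, Fintype.card_fin]
  omega

theorem pol_extI (hab : Aniso a b) (hm : 2 ≤ m) (ht : t₁ ≠ t₂) (hs : t₁ + t₂ = -em a)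
    (hp : t₁ * t₂ = em b) (k : isoG (minusQ m a b)) :
    pol (m + 1) F (extHom (compat_split em ht hs hp) (isoKer _ k)) = dick (nd_minusQ hab m) k := by
  rw [← ofIso_extI, pol_ofIso (reg_split hm), dick_extI (nd_minusQ hab m) _ (reg_minus hm)]

omit [Fintype F] in
theorem exists_dec (hab : Aniso a b) (g : (sigmaHom (minusQ m a b)).ker) :
    ∃ (w : Fin 2 → K) (hw : binQ a b w ≠ 0) (k : isoG (minusQ m a b)),
      g = ⟨shapeMinus m hab w hw, rfl⟩ * isoKer _ k := by
  obtain ⟨w, hw, hH⟩ := exists_shape m hab g.1.H0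
  obtain ⟨k, hk⟩ := exists_iso_part (g := g.1) (s := shapeMinus m hab w hw) g.2 rfl hH.symm
  exact ⟨w, hw, k, Subtype.ext hk⟩

/-- The parity of a similitude of a minus form. -/
noncomputable def dm (hab : Aniso a b) (g : (sigmaHom (minusQ m a b)).ker) : ℤˣ :=
  dick (nd_minusQ hab m) (exists_dec hab g).choose_spec.choose_spec.choose

theorem pol_ext_eq (hab : Aniso a b) (hm : 2 ≤ m) (ht : t₁ ≠ t₂) (hs : t₁ + t₂ = -em a)
    (hp : t₁ * t₂ = em b) (g : (sigmaHom (minusQ m a b)).ker) :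
    pol (m + 1) F (extHom (compat_split em ht hs hp) g) = dm hab g := by
  rw [dm]
  conv_lhs => rw [(exists_dec hab g).choose_spec.choose_spec.choose_spec]
  rw [map_mul, map_mul, pol_ext_shape hab ht hs hp, one_mul, pol_extI hab hm ht hs hp]

theorem dm_shape (hab : Aniso a b) (hm : 2 ≤ m) (ht : t₁ ≠ t₂) (hs : t₁ + t₂ = -em a)
    (hp : t₁ * t₂ = em b) (w : Fin 2 → K) (hw : binQ a b w ≠ 0) (k : isoG (minusQ m a b)) :
    dm hab (⟨shapeMinus m hab w hw, rfl⟩ * isoKer _ k) = dick (nd_minusQ hab m) k := by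
  rw [← pol_ext_eq hab hm ht hs hp, map_mul, map_mul, pol_ext_shape hab ht hs hp, one_mul, pol_extI hab hm ht hs hp]

end minus

section roots

variable {F : Type u} [Field F] [Fintype F] {a b : F}

/-- The roots in a quadratic extension. -/
theorem exists_roots_ext {K : Type w} [Field K] [Fintype K] (em : F →+* K)
    (hcard : Fintype.card K = Fintype.card F ^ 2) (hab : Aniso a b) :
    ∃ t₁ t₂ : K, t₁ ≠ t₂ ∧ t₁ + t₂ = -em a ∧ t₁ * t₂ = em b := by
  letI : Algebra F K := em.toAlgebra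
  have hK : Module.finrank F K = 2 := by
    have h := Module.card_eq_pow_finrank (K := F) (V := K)
    rw [hcard] at h
    exact (Nat.pow_right_injective (Nat.succ_le_of_lt (Fintype.one_lt_card (α := F))) h).symm
  let p : Polynomial F := Polynomial.X ^ 2 + Polynomial.C a * Polynomial.X + Polynomial.C b
  have hdeg : p.natDegree = 2 := by
    simp only [p]
    compute_degree!
  have hp0 : p ≠ 0 := fun h => by rw [h, Polynomial.natDegree_zero] at hdeg; omega
  have hirr : Irreducible p :=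
    (Polynomial.irreducible_iff_roots_eq_zero_of_degree_le_three (by rw [hdeg]) (by rw [hdeg]; omega)).2
      (Multiset.eq_zero_of_forall_notMem fun x hx => by
        rw [Polynomial.mem_roots hp0, Polynomial.IsRoot.def] at hx
        simp [p] at hx
        exact one_ne_zero (hab x 1 (by linear_combination hx)).2)
  have : Fact (Irreducible p) := ⟨hirr⟩
  have hA : Module.finrank F (AdjoinRoot p) = 2 := by
    rw [PowerBasis.finrank (AdjoinRoot.powerBasis hp0), AdjoinRoot.powerBasis_dim, hdeg]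
  obtain ⟨f⟩ := FiniteField.nonempty_algHom_of_finrank_dvd (F := F) (K := AdjoinRoot p) (L := K)
    (by rw [hA, hK])
  have h0 : Polynomial.eval₂ em (f (AdjoinRoot.root p)) p = 0 := by
    have h1 := AdjoinRoot.eval₂_root p
    have h2 := congrArg f h1
    rw [map_zero] at h2
    rw [← h2]
    show _ = (f : AdjoinRoot p →+* K) (Polynomial.eval₂ (AdjoinRoot.of p) (AdjoinRoot.root p) p)
    rw [Polynomial.hom_eval₂]
    congr 1
    exact RingHom.ext fun x => (f.commutes x).symm
  simp [p] at h0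
  set t := f (AdjoinRoot.root p)
  refine ⟨t, -em a - t, fun h => ?_, by ring, by linear_combination -h0⟩
  refine aniso_disc hab (em.injective ?_)
  rw [map_sub, map_mul, map_pow, map_zero, map_ofNat]
  linear_combination (em a + 2 * t) * h - 4 * h0

/-- An automorphism lifts to an extension field. -/
theorem exists_lift_aut {K : Type w} [Field K] [Fintype K] (em : F →+* K) (σ : F ≃+* F) :
    ∃ τ : K ≃+* K, ∀ x, τ (em x) = em (σ x) := by
  obtain ⟨p, hcp⟩ := CharP.exists F
  obtain ⟨n, hp, hn⟩ := FiniteField.card F p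
  haveI := Fact.mk hp
  haveI : CharP K p := charP_of_injective_ringHom em.injective p
  obtain ⟨n', -, hn'⟩ := FiniteField.card K p
  obtain ⟨s, hs, hsn, hso, hc⟩ := exists_frob n.pos hn
  obtain ⟨j, rfl⟩ := exists_pow_eq n.pos hso hc σ
  obtain ⟨s', -, hsn', -, -⟩ := exists_frob n'.pos hn'
  exact ⟨s' ^ j, fun x => by rw [hsn', hsn, map_pow]⟩

end roots

section minusProper

variable {F : Type u} [Field F] [Fintype F] {a b : F} {m : ℕ}

theorem exists_split_field (hab : Aniso a b) :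
    ∃ (K : Type u) (_ : Field K) (_ : Fintype K) (em : F →+* K) (t₁ t₂ : K),
      t₁ ≠ t₂ ∧ t₁ + t₂ = -em a ∧ t₁ * t₂ = em b := by
  obtain ⟨K, iK, iA, hK⟩ := exists_ext hab
  have : Module.Finite F K := Module.finite_of_finrank_eq_succ hK
  have : Finite K := Module.finite_of_finite F
  letI : Fintype K := Fintype.ofFinite K
  obtain ⟨t₁, t₂, h⟩ := exists_roots_ext (algebraMap F K)
    (by rw [Module.card_eq_pow_finrank (K := F) (V := K), hK]) hab
  exact ⟨K, iK, inferInstance, algebraMap F K, t₁, t₂, h⟩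

/-- The proper similitudes of a minus form. -/
noncomputable def Pm (hab : Aniso a b) (hm : 2 ≤ m) : Subgroup (Semi (minusQ m a b)) where
  carrier := {g | ∃ h : g.σ = 1, dm hab ⟨g, h⟩ = 1}
  one_mem' := by
    obtain ⟨K, iK, iF, em, t₁, t₂, ht, hs, hp⟩ := exists_split_field hab
    refine ⟨rfl, ?_⟩
    rw [← pol_ext_eq hab hm ht hs hp]
    exact (congrArg (pol (m + 1) K) (map_one (extHom (compat_split em ht hs hp)))).trans (map_one _)
  mul_mem' := by
    rintro g k ⟨hg, hg'⟩ ⟨hk, hk'⟩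
    obtain ⟨K, iK, iF, em, t₁, t₂, ht, hs, hp⟩ := exists_split_field hab
    refine ⟨by rw [semi_mul_σ, hg, hk, one_mul], ?_⟩
    rw [← pol_ext_eq hab hm ht hs hp] at hg' hk' ⊢
    rw [show (⟨g * k, _⟩ : (sigmaHom (minusQ m a b)).ker) = ⟨g, hg⟩ * ⟨k, hk⟩ from rfl, map_mul,
      map_mul, hg', hk', one_mul]
  inv_mem' := by
    rintro g ⟨hg, hg'⟩
    obtain ⟨K, iK, iF, em, t₁, t₂, ht, hs, hp⟩ := exists_split_field hab
    refine ⟨by rw [← sigmaHom_apply, map_inv, sigmaHom_apply, hg, inv_one], ?_⟩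
    rw [← pol_ext_eq hab hm ht hs hp] at hg' ⊢
    rw [show (⟨g⁻¹, _⟩ : (sigmaHom (minusQ m a b)).ker) = ⟨g, hg⟩⁻¹ from rfl, map_inv, map_inv, hg',
      inv_one]

theorem Pm_normal (hab : Aniso a b) (hm : 2 ≤ m) : (Pm hab hm).Normal := by
  refine ⟨fun g ⟨hg, hg'⟩ ψ => ?_⟩
  obtain ⟨K, iK, iF, em, t₁, t₂, ht, hs, hp⟩ := exists_split_field hab
  obtain ⟨τ, hτ⟩ := exists_lift_aut em ψ.σ
  have hσ : (ψ * g * ψ⁻¹).σ = 1 := by
    rw [← sigmaHom_apply, map_mul, map_mul, map_inv, sigmaHom_apply g, hg, mul_one, mul_inv_cancel]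
  refine ⟨hσ, ?_⟩
  have hC := compat_split (m := m) em ht hs hp
  rw [← pol_ext_eq hab hm ht hs hp] at hg' ⊢
  have e : extHom hC ⟨ψ * g * ψ⁻¹, hσ⟩ * extSemi hC ψ τ hτ =
      extSemi hC ψ τ hτ * extHom hC ⟨g, hg⟩ := by
    refine semi_eq_of_kp (em := em) (J := splitEquiv m ht) ?_ ?_ fun v => ?_
    · simp [extHom_σ]
    · rw [semi_mul_H, semi_mul_H, extHom_σ, extSemi_σ, RingAut.one_apply, extHom_H, extHom_H,
        extSemi_H, hτ, ← map_mul, ← map_mul]
      have h := congrArg Semi.H (show ψ * g * ψ⁻¹ * ψ = ψ * g from inv_mul_cancel_right _ _)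
      rw [semi_mul_H, semi_mul_H ψ g, hσ] at h
      exact congrArg em h
    · rw [semi_mul_map, semi_mul_map, extSemi_kp, extHom_kp, extHom_kp, extSemi_kp, ← semi_mul_map,
        ← semi_mul_map]
      congr 1
      exact congrArg (fun x : Semi (minusQ m a b) => x.map v) (inv_mul_cancel_right (ψ * g) ψ)
  have h1 := congrArg (pol (m + 1) K) e
  rw [map_mul, map_mul, mul_comm, hg'] at h1
  exact (mul_eq_left.1 (h1.trans (mul_one _)))

theorem psc_minus_iff_dm (hab : Aniso a b) (hm : 2 ≤ m) (ψ : Semi (minusQ m a b))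
    (g : Matrix ((Fin m ⊕ Fin m) ⊕ Fin 2) ((Fin m ⊕ Fin m) ⊕ Fin 2) F) (hσ : ψ.σ = 1)
    (hg : ∀ v, g *ᵥ v = ψ.map v) :
    Cfsg.PreservesSingularClassesMinus m a b g ↔ ψ ∈ Pm hab hm := by
  have key : ∀ (K : Type u) [Field K] [Algebra F K], Module.finrank F K = 2 →
      (Cfsg.PreservesSingularClasses (Cfsg.quadFormMinus m K (algebraMap F K a) (algebraMap F K b))
        (g.map (algebraMap F K)) ↔ ψ ∈ Pm hab hm) := by
    intro K iK iA hK
    have : Module.Finite F K := Module.finite_of_finrank_eq_succ hK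
    have : Finite K := Module.finite_of_finite F
    letI : Fintype K := Fintype.ofFinite K
    obtain ⟨t₁, t₂, ht, hs, hp⟩ := exists_roots_ext (algebraMap F K)
      (by rw [Module.card_eq_pow_finrank (K := F) (V := K), hK]) hab
    have hC := compat_split (m := m) (algebraMap F K) ht hs hp
    set Ψ := extHom hC ⟨ψ, hσ⟩
    let L : (Fin (m + 1) ⊕ Fin (m + 1) → K) ≃ₗ[K] (Fin (m + 1) ⊕ Fin (m + 1) → K) :=
      linOf Ψ (extHom_σ _)
    have hL : ∀ v, LinearMap.toMatrix' L.toLinearMap *ᵥ v = Ψ.map v := fun v => by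
      rw [← Matrix.toLin'_apply, Matrix.toLin'_toMatrix']; rfl
    rw [psc_congr (splitEquiv m ht) (fun v => plus_splitMap m t₁ t₂ hs hp v)
        (g' := LinearMap.toMatrix' L.toLinearMap) ?_,
      psc_iff_pol Ψ (extHom_σ _) _ hL, pol_ext_eq hab hm ht hs hp]
    · exact ⟨fun h => ⟨hσ, h⟩, fun h => h.2⟩
    · intro v
      rw [hL]
      refine (semilin_ext (algebraMap F K) (LinearEquiv.refl K _) id
        (fun z => splitEquiv m ht (g.map (algebraMap F K) *ᵥ z))
        (fun z => Ψ.map (splitEquiv m ht z))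
        (fun x y => by rw [mulVec_add, map_add]) (fun x y => by rw [map_add, map_add Ψ.map])
        (fun c x => by rw [mulVec_smul, map_smul]; rfl)
        (fun c x => by rw [map_smul, Ψ.map_smul, extHom_σ]; rfl) (fun z => ?_) v)
      show _ = Ψ.map (kp (algebraMap F K) (splitEquiv m ht) z)
      rw [extHom_kp]
      show _ = splitEquiv m ht fun i => algebraMap F K (ψ.map z i)
      congr 1
      funext i
      rw [← hg]
      exact (RingHom.map_mulVec (algebraMap F K) g z i).symm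
  constructor
  · rintro ⟨K, iK, iA, hK, h⟩
    exact (key K hK).1 h
  · intro h
    obtain ⟨K, iK, iA, hK⟩ := exists_ext hab
    exact ⟨K, iK, iA, hK, (key K hK).2 h⟩

theorem good_minusQ (hab : Aniso a b) (hm : 3 ≤ m) : Good (minusQ m a b) := (hyp_minus hab hm).good

theorem dm_iso (hab : Aniso a b) (hm : 2 ≤ m) (k : isoG (minusQ m a b)) :
    dm hab (isoKer _ k) = dick (nd_minusQ hab m) k := by
  obtain ⟨K, iK, iF, em, t₁, t₂, ht, hs, hp⟩ := exists_split_field hab
  rw [← pol_ext_eq hab hm ht hs hp, pol_extI hab hm ht hs hp]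

theorem dm_scalar (hab : Aniso a b) (hm : 2 ≤ m) (c : Fˣ) :
    dm (m := m) hab ⟨ofScalar _ c, ofScalar_σ (Q := minusQ m a b) c⟩ = 1 := by
  obtain ⟨K, iK, iF, em, t₁, t₂, ht, hs, hp⟩ := exists_split_field hab
  rw [← pol_ext_eq hab hm ht hs hp, extHom_scalar, pol_scalar]

theorem shape_mem (hab : Aniso a b) (hm : 2 ≤ m) (w : Fin 2 → F) (hw : binQ a b w ≠ 0) :
    shapeMinus m hab w hw ∈ Pm hab hm := by
  obtain ⟨K, iK, iF, em, t₁, t₂, ht, hs, hp⟩ := exists_split_field hab
  refine ⟨rfl, ?_⟩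
  rw [← pol_ext_eq hab hm ht hs hp, pol_ext_shape hab ht hs hp]

/-- The inner-diagonal automorphisms of minus type. -/
noncomputable def properMinus (hab : Aniso a b) (hm : 3 ≤ m) :
    Proper (fun v => minusQ_apply m a b v) (good_minusQ hab hm) (Cfsg.inndiagPOmegaMinus m F a b) where
  P := Pm hab (by omega)
  le := fun g h => by obtain ⟨h', -⟩ := h; exact h'
  normal := Pm_normal hab _
  scalar c := ⟨ofScalar_σ c, dm_scalar hab (by omega) c⟩
  iso k := by
    rw [← dm_iso hab (by omega)]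
    exact ⟨fun h => h.2, fun h => ⟨ofIso_σ k, h⟩⟩
  mult ν hν := by
    obtain ⟨w, hw, hH⟩ := exists_shape m hab hν
    exact ⟨_, shape_mem hab _ w hw, hH⟩
  eq := autSubgroup_eq _ _ _ (fun g h => by obtain ⟨h', -⟩ := h; exact h')
    (fun g => Cfsg.PreservesSingularClassesMinus m a b g)
    fun ψ g hσ hg => psc_minus_iff_dm hab _ ψ g hσ hg

end minusProper

end Cfsg.Agent.Lib.AutOmega
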