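import Cfsg.Agent.Lib.AutOmega.Basic

/-!
Automorphisms of `PΩ` permute the root groups of singular points.
-/

set_option autoImplicit false

namespace Cfsg.Agent.Lib.AutOmega

open QuadraticMap hiding proj
open Cfsg.Agent.Lib.Classical.Quad Cfsg.Agent.Lib.Classical.QuadOmega
open Cfsg.Agent.Lib.AutOmegaOdd (G G_ext G_mul G_one G_inv G_inv' G_Q G_B sg sg_apply sg_add sg_zero
  sg_self sg_neg sg_smul sg_conj sg_fix sg_fix_self sg_swap U sg_mem_U mem_U U_smul map_conj_U Fr InW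
  proj proj_mem decomp B_proj sg_e_fix sg_e_f sg_e_inj mem_U_e Semi St mem_St U_le_St St_normalises
  map_map_mul map_one_aut inv_fix finite_G exists_fix isPGroup_U)

attribute [local instance] Cfsg.Agent.Lib.Classical.QuadOmega.ptAction

universe u v

variable {F : Type u} [Field F] {V : Type v} [AddCommGroup V] [Module F V] {Q : QuadraticForm F V}
  {e f : V}

theorem isCoatom_comap {X Y : Type*} [Group X] [Group Y] {φ : X →* Y} (hφ : Function.Surjective φ)
    {M : Subgroup Y} (hM : IsCoatom M) : IsCoatom (M.comap φ) := by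
  refine ⟨fun h => hM.1 (top_le_iff.1 fun y _ => ?_), fun L hL => ?_⟩
  · obtain ⟨x, rfl⟩ := hφ y
    exact (h ▸ Subgroup.mem_top x : x ∈ M.comap φ)
  · have hker : φ.ker ≤ L := le_trans (fun x hx => by
      show φ x ∈ M
      rw [MonoidHom.mem_ker.1 hx]; exact one_mem M) hL.le
    have hlt : M < L.map φ := by
      refine lt_of_le_of_ne (fun y hy => ?_) fun h => ?_
      · obtain ⟨x, rfl⟩ := hφ y
        exact ⟨x, hL.le hy, rfl⟩
      · refine hL.ne ?_
        rw [h, Subgroup.comap_map_eq_self hker]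
    rw [← Subgroup.comap_map_eq_self hker, hM.2 _ hlt, Subgroup.comap_top]

theorem isCoatom_map {X Y : Type*} [Group X] [Group Y] {φ : X →* Y} (hφ : Function.Surjective φ)
    {N : Subgroup X} (hker : φ.ker ≤ N) (hN : IsCoatom N) : IsCoatom (N.map φ) := by
  refine ⟨fun h => hN.1 (by rw [← Subgroup.comap_map_eq_self hker, h, Subgroup.comap_top]),
    fun L hL => ?_⟩
  have hlt : N < L.comap φ := by
    refine lt_of_le_of_ne (Subgroup.map_le_iff_le_comap.1 hL.le) fun h => hL.ne ?_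
    rw [h, Subgroup.map_comap_eq_self_of_surjective hφ]
  rw [← Subgroup.map_comap_eq_self_of_surjective hφ L, hN.2 _ hlt,
    Subgroup.map_top_of_surjective _ hφ]

theorem U_fix (hG : Good Q) (HP : Fr Q e f) {v : V} (hv : ∀ r ∈ U Q e, r.1.1 v = v) :
    ∃ c : F, v = c • e :=
  sie_common_fix hG HP.e_ne HP.ee fun _ hu => hv _ (sg_mem_U e hu)

theorem U_ne_bot (hG : Good Q) (HP : Fr Q e f) : U Q e ≠ ⊥ := by
  obtain ⟨a, b, ha, -, Hab⟩ := W_pair hG HP
  intro h
  have h1 : sg Q e a = 1 := Subgroup.mem_bot.1 (h ▸ sg_mem_U e ha.ex)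
  rw [← sg_zero HP.ee] at h1
  exact Hab.e_ne (sg_e_inj HP ha (InW.zero e f) h1)

theorem St_isCoatom (hG : Good Q) {x : V} (hx0 : x ≠ 0) (hx : Q x = 0) :
    IsCoatom (St Q hx0 hx) := by
  have := pretransitive hG
  have := preprimitive hG
  obtain ⟨y, hy, hxy⟩ := hG.exists_partner hx0 hx
  have hy0 : y ≠ 0 := fun h => by rw [h, polar_zero_right] at hxy; exact zero_ne_one hxy
  have : Nontrivial (Pt Q) := ⟨⟨pt hx0 hx, pt hy0 hy, fun h => by
    obtain ⟨c, hc⟩ := (pt_eq_iff hx0 hx hy0 hy).1 h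
    rw [← hc, polar_smul_left, polar_self_sing hy, smul_zero] at hxy
    exact zero_ne_one hxy⟩⟩
  exact MulAction.IsPreprimitive.isCoatom_stabilizer_of_isPreprimitive (G := G Q) (pt hx0 hx)

/-- The singular vectors fixed by a subgroup and orthogonal to all vectors fixed by it. -/
noncomputable def radFix (R : Subgroup (G Q)) : Submodule F V where
  carrier := {v | (∀ r ∈ R, r.1.1 v = v) ∧ Q v = 0 ∧
    ∀ w, (∀ r ∈ R, r.1.1 w = w) → polar Q v w = 0}
  zero_mem' := ⟨fun r _ => map_zero _, map_zero Q, fun w _ => polar_zero_left Q w⟩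
  add_mem' := by
    rintro a b ⟨ha, ha1, ha'⟩ ⟨hb, hb1, hb'⟩
    exact ⟨fun r hr => by rw [map_add, ha r hr, hb r hr],
      by rw [QuadraticMap.map_add ⇑Q, ha1, hb1, ha' b hb, add_zero, add_zero],
      fun w hw => by rw [polar_add_left, ha' w hw, hb' w hw, add_zero]⟩
  smul_mem' := by
    rintro c a ⟨ha, ha1, ha'⟩
    exact ⟨fun r hr => by rw [map_smul, ha r hr],
      by rw [QuadraticMap.map_smul, ha1, smul_zero],
      fun w hw => by rw [polar_smul_left, ha' w hw, smul_zero]⟩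

variable [Fintype F] [Finite V]

omit [Fintype F] in
theorem center_le_St (hG : Good Q) {x : V} (hx0 : x ≠ 0) (hx : Q x = 0) :
    Subgroup.center (G Q) ≤ St Q hx0 hx := fun z hz => by
  rw [mem_St]
  rcases center_cases hG hz with h | h
  · exact ⟨1, by rw [one_smul, h]; rfl⟩
  · exact ⟨-1, by rw [h, negOne_apply, neg_one_smul]⟩

/-- The fixed points of a Sylow subgroup containing the root group. -/
theorem sylow_fix {p : ℕ} [Fact p.Prime] [CharP F p] (hG : Good Q) (HP : Fr Q e f)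
    (K : Sylow p (G Q)) (hK : U Q e ≤ K) : ∀ g ∈ K, g.1.1 e = e := by
  obtain ⟨v, -, hv0, hv⟩ := exists_fix (Q := Q) (K : Subgroup (G Q)) K.2 ⊤ (fun _ _ _ _ => trivial)
    (fun h => HP.e_ne ((AddSubgroup.eq_bot_iff_forall _).1 h e trivial))
  obtain ⟨c, hc⟩ := U_fix hG HP (v := v) fun r hr => hv r (hK hr)
  have hc0 : c ≠ 0 := fun h => hv0 (by rw [hc, h, zero_smul])
  intro g hg
  have := hv g hg
  rw [hc, map_smul] at this
  exact smul_right_injective V hc0 this

omit [Fintype F] [Finite V] in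
/-- A singular subspace. -/
theorem perp_of_TS {T : Submodule F V} (hT : ∀ a ∈ T, Q a = 0) {a b : V} (ha : a ∈ T) (hb : b ∈ T) :
    polar Q a b = 0 := by
  rw [polar, hT _ (add_mem ha hb), hT a ha, hT b hb, sub_zero, sub_zero]

omit [Fintype F] in
theorem exists_dual (hG : Good Q) (T : Submodule F V) (ψ : Module.Dual F T) :
    ∃ v, ∀ t : T, polar Q v t = ψ t := by
  have := Module.Finite.of_finite (R := F) (M := V)
  obtain ⟨χ, rfl⟩ := LinearMap.exists_extend ψ
  have hinj : Function.Injective (polarBilin Q) := (injective_iff_map_eq_zero _).2 fun x hx =>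
    hG.nd x fun y => LinearMap.congr_fun hx y
  obtain ⟨v, hv⟩ := ((LinearMap.injective_iff_surjective_of_finrank_eq_finrank
    (Subspace.dual_finrank_eq (K := F) (V := V)).symm).1 hinj) χ
  exact ⟨v, fun t => by rw [← hv]; rfl⟩

omit [Fintype F] in
theorem exists_perp_pairing (hG : Good Q) (T : Submodule F V) {u : V} (hu : u ∉ T) :
    ∃ v, (∀ t ∈ T, polar Q v t = 0) ∧ polar Q v u = 1 := by
  obtain ⟨ψ, hψu, hψ⟩ := Submodule.exists_dual_map_eq_bot_of_notMem hu inferInstance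
  obtain ⟨v, hv⟩ := exists_dual hG ⊤ (((ψ u)⁻¹ • ψ).comp (⊤ : Submodule F V).subtype)
  refine ⟨v, fun t ht => ?_, ?_⟩
  · have h0 : ψ t ∈ T.map ψ := Submodule.mem_map_of_mem ht
    rw [hψ, Submodule.mem_bot] at h0
    rw [show polar Q v t = _ from hv ⟨t, trivial⟩]
    show (ψ u)⁻¹ * ψ t = 0
    rw [h0, mul_zero]
  · rw [show polar Q v u = _ from hv ⟨u, trivial⟩]
    exact inv_mul_cancel₀ hψu

omit [Fintype F] in
/-- A singular subspace either is of half the dimension or has a nonsingular vector orthogonal to it. -/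
theorem nonsing_perp_or_half (hG : Good Q) {T : Submodule F V} (hT : ∀ a ∈ T, Q a = 0) :
    (∃ u, Q u ≠ 0 ∧ ∀ t ∈ T, polar Q u t = 0) ∨ 2 * Module.finrank F T = Module.finrank F V := by
  have := Module.Finite.of_finite (R := F) (M := V)
  refine or_iff_not_imp_left.2 fun hno => ?_
  push Not at hno
  let φ : V →ₗ[F] Module.Dual F T := (LinearMap.lcomp F F T.subtype).comp (polarBilin Q)
  have hK0 : ∀ v ∈ LinearMap.ker φ, Q v = 0 := fun v hv => by
    by_contra hne
    obtain ⟨t, ht, h⟩ := hno v hne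
    exact h (LinearMap.congr_fun (LinearMap.mem_ker.1 hv) ⟨t, ht⟩)
  have hnd : Nd Q := hG.nd
  have h1 := hnd.two_mul_finrank_le (LinearMap.ker φ) fun a ha b hb => perp_of_TS hK0 ha hb
  have h2 := φ.finrank_range_add_finrank_ker
  have h3 := Submodule.finrank_le (LinearMap.range φ)
  rw [Subspace.dual_finrank_eq] at h3
  have h4 := hnd.two_mul_finrank_le T fun a ha b hb => perp_of_TS hT ha hb
  omega

omit [Fintype F] [Finite V] in
theorem apply_of_TS {T : Submodule F V} (hT : ∀ a ∈ T, Q a = 0) {a b : V} (ha : a ∈ T) (hb : b ∈ T)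
    (v : V) : (sg Q a b).1.1 v = v + (polar Q v a • b - polar Q v b • a) := by
  rw [sg_apply (hT a ha) (perp_of_TS hT ha hb), hT b hb]
  module

/-- The Siegel transformations inside a singular subspace. -/
noncomputable def ZT (Q : QuadraticForm F V) (T : Submodule F V) : Subgroup (G Q) :=
  Subgroup.closure {g | ∃ a ∈ T, ∃ b ∈ T, g = sg Q a b}

omit [Fintype F] [Finite V] in
theorem sg_mem_ZT {T : Submodule F V} {a b : V} (ha : a ∈ T) (hb : b ∈ T) : sg Q a b ∈ ZT Q T :=
  Subgroup.subset_closure ⟨a, ha, b, hb, rfl⟩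

omit [Fintype F] [Finite V] in
theorem ZT_fix {T : Submodule F V} (hT : ∀ a ∈ T, Q a = 0) {g : G Q} (hg : g ∈ ZT Q T) {v : V}
    (hv : ∀ t ∈ T, polar Q v t = 0) : g.1.1 v = v := by
  induction hg using Subgroup.closure_induction generalizing v with
  | mem z hz =>
    obtain ⟨a, ha, b, hb, rfl⟩ := hz
    exact sg_fix (hT a ha) (perp_of_TS hT ha hb) (hv a ha) (hv b hb)
  | one => rfl
  | mul a b _ _ ha hb => rw [G_mul, hb hv, ha hv]
  | inv a _ ha =>
    conv_lhs => rw [← ha hv]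
    rw [G_inv]

omit [Fintype F] [Finite V] in
theorem ZT_fix_T {T : Submodule F V} (hT : ∀ a ∈ T, Q a = 0) {g : G Q} (hg : g ∈ ZT Q T) {v : V}
    (hv : v ∈ T) : g.1.1 v = v := ZT_fix hT hg fun _ ht => perp_of_TS hT hv ht

omit [Fintype F] [Finite V] in
theorem ZT_comm {T : Submodule F V} (hT : ∀ a ∈ T, Q a = 0) {g h : G Q} (hg : g ∈ ZT Q T)
    (hh : h ∈ ZT Q T) : Commute g h := by
  induction hh using Subgroup.closure_induction with
  | mem z hz =>
    obtain ⟨a, ha, b, hb, rfl⟩ := hz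
    have h1 := sg_conj (hT a ha) (perp_of_TS hT ha hb) g
    rw [ZT_fix_T hT hg ha, ZT_fix_T hT hg hb] at h1
    exact mul_inv_eq_iff_eq_mul.1 h1
  | one => exact Commute.one_right g
  | mul a b _ _ ha hb => exact ha.mul_right hb
  | inv a _ ha => exact ha.inv_right

omit [Fintype F] in
/-- The alternating squares of a basis give many elements. -/
theorem card_ZT_ge (hG : Good Q) {T : Submodule F V} (hT : ∀ a ∈ T, Q a = 0) {d : ℕ}
    (B : Module.Basis (Fin d) F T) :
    Nat.card F ^ Fintype.card {ij : Fin d × Fin d // ij.1 < ij.2} ≤ Nat.card (ZT Q T) := by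
  classical
  have : Finite (G Q) := finite_G
  set a : Fin d → V := fun i => (B i : V) with ha'
  have ha : ∀ i, a i ∈ T := fun i => (B i).2
  have hex : ∀ k, ∃ v, ∀ t : T, polar Q v t = B.coord k t := fun k => exists_dual hG T _
  choose v hv using hex
  let ext : ({ij : Fin d × Fin d // ij.1 < ij.2} → F) → Fin d → Fin d → F := fun c i j =>
    if h : i < j then c ⟨(i, j), h⟩ else 0
  let w : ({ij : Fin d × Fin d // ij.1 < ij.2} → F) → Fin d → V := fun c i => ∑ j, ext c i j • a j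
  have hw : ∀ c i, w c i ∈ T := fun c i => Submodule.sum_mem _ fun j _ => T.smul_mem _ (ha j)
  let P : ({ij : Fin d × Fin d // ij.1 < ij.2} → F) → List (Fin d) → G Q := fun c l =>
    (l.map fun i => sg Q (a i) (w c i)).prod
  have hPmem : ∀ c l, P c l ∈ ZT Q T := fun c l => by
    refine list_prod_mem fun z hz => ?_
    obtain ⟨i, -, rfl⟩ := List.mem_map.1 hz
    exact sg_mem_ZT (ha i) (hw c i)
  have hPact : ∀ c l x, (P c l).1.1 x =
      x + (l.map fun i => polar Q x (a i) • w c i - polar Q x (w c i) • a i).sum := by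
    intro c l x
    induction l with
    | nil => simp [P, G_one]
    | cons i l ih =>
      have hs : (l.map fun i => polar Q x (a i) • w c i - polar Q x (w c i) • a i).sum ∈ T :=
        list_sum_mem fun z hz => by
          obtain ⟨j, -, rfl⟩ := List.mem_map.1 hz
          exact sub_mem (T.smul_mem _ (hw c j)) (T.smul_mem _ (ha j))
      rw [show P c (i :: l) = sg Q (a i) (w c i) * P c l by simp [P], G_mul, ih, map_add,
        apply_of_TS hT (ha i) (hw c i), apply_of_TS hT (ha i) (hw c i), perp_of_TS hT hs (ha i),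
        perp_of_TS hT hs (hw c i), List.map_cons, List.sum_cons]
      module
  let Φ : ({ij : Fin d × Fin d // ij.1 < ij.2} → F) → ZT Q T := fun c =>
    ⟨P c (List.finRange d), hPmem c _⟩
  have hΦ : Function.Injective Φ := by
    intro c c' h
    have hcoef : ∀ c k, (P c (List.finRange d)).1.1 (v k) =
        v k + ∑ j, (ext c k j - ext c j k) • a j := by
      intro c k
      rw [hPact, ← List.ofFn_eq_map, List.sum_ofFn, Finset.sum_sub_distrib]
      congr 1
      have h1 : ∀ i, polar Q (v k) (a i) = if k = i then 1 else 0 := fun i => by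
        rw [show polar Q (v k) (a i) = _ from hv k (B i)]
        simp [Finsupp.single_apply, eq_comm]
      have h2 : ∀ i, polar Q (v k) (w c i) = ext c i k := fun i => by
        rw [show polar Q (v k) (w c i) = ∑ j, polar Q (v k) (ext c i j • a j) from
          map_sum (polarBilin Q (v k)) _ _]
        simp [polar_smul_right, h1]
      simp only [h1, h2, ite_smul, one_smul, zero_smul, Finset.sum_ite_eq, Finset.mem_univ, if_true,
        sub_smul, Finset.sum_sub_distrib, w]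
    funext ⟨⟨k, j⟩, hkj⟩
    have h1 := congrArg (fun z : ZT Q T => z.1.1.1 (v k)) h
    simp only [Φ, hcoef, add_right_inj] at h1
    have hli : LinearIndependent F a := B.linearIndependent.map' T.subtype (Submodule.ker_subtype T)
    have h2 := (Fintype.linearIndependent_iffₛ.1 hli) _ _ h1 j
    have hjk : ¬ j < k := not_lt.2 (le_of_lt hkj)
    simpa [ext, hkj, hjk] using h2
  calc Nat.card F ^ Fintype.card {ij : Fin d × Fin d // ij.1 < ij.2}
      = Nat.card ({ij : Fin d × Fin d // ij.1 < ij.2} → F) := by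
        rw [Nat.card_fun, Nat.card_eq_fintype_card (α := {ij : Fin d × Fin d // ij.1 < ij.2})]
    _ ≤ _ := Nat.card_le_card_of_injective Φ hΦ

theorem two_mul_pairs (d : ℕ) :
    2 * Fintype.card {ij : Fin d × Fin d // ij.1 < ij.2} + d = d * d := by
  classical
  have h1 := Fintype.card_congr ((Equiv.prodComm (Fin d) (Fin d)).subtypeEquiv
    (p := fun ij => ij.1 < ij.2) (q := fun ij => ij.2 < ij.1) fun ij => Iff.rfl)
  simp only [Fintype.card_subtype] at h1 ⊢
  have h2 : (Finset.univ.filter fun ij : Fin d × Fin d => ij.1 < ij.2).card +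
      (Finset.univ.filter fun ij : Fin d × Fin d => ij.2 < ij.1).card +
      (Finset.univ.filter fun ij : Fin d × Fin d => ij.1 = ij.2).card = d * d := by
    rw [← Finset.card_union_of_disjoint, ← Finset.card_union_of_disjoint]
    · rw [show d * d = (Finset.univ : Finset (Fin d × Fin d)).card by simp]
      congr 1
      ext ⟨i, j⟩
      simp only [Finset.mem_union, Finset.mem_filter, Finset.mem_univ, true_and, iff_true]
      rcases lt_trichotomy i j with h | h | h <;> simp [h]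
    · rw [Finset.disjoint_left]
      rintro ⟨i, j⟩ h h'
      simp only [Finset.mem_union, Finset.mem_filter, Finset.mem_univ, true_and] at h h'
      subst h'
      simp at h
    · rw [Finset.disjoint_left]
      rintro ⟨i, j⟩ h h'
      simp only [Finset.mem_filter, Finset.mem_univ, true_and] at h h'
      exact lt_asymm h h'
  have h3 : (Finset.univ.filter fun ij : Fin d × Fin d => ij.1 = ij.2).card = d := by
    rw [← Fintype.card_subtype]
    simpa using (Fintype.card_congr (α := {ij : Fin d × Fin d // ij.1 = ij.2}) (β := Fin d)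
      ⟨fun x => x.1.1, fun i => ⟨(i, i), rfl⟩,
        fun ⟨⟨i, j⟩, h⟩ => by cases h; rfl, fun i => rfl⟩)
  omega

theorem card_U_le (hG : Good Q) (HP : Fr Q e f) :
    Nat.card (U Q e) ≤ Nat.card F ^ (Module.finrank F V - 1) := by
  have := Module.Finite.of_finite (R := F) (M := V)
  have : Finite (G Q) := finite_G
  set K := LinearMap.ker (polarBilin Q e)
  let Φ : K → U Q e := fun u => ⟨sg Q e u.1, sg_mem_U e u.2⟩
  have hΦ : Function.Surjective Φ := by
    rintro ⟨g, hg⟩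
    obtain ⟨u, hu, rfl⟩ := (mem_U HP.ee).1 hg
    exact ⟨⟨u, hu⟩, rfl⟩
  refine (Nat.card_le_card_of_surjective Φ hΦ).trans ?_
  rw [Module.natCard_eq_pow_finrank (K := F) (V := K)]
  refine Nat.pow_le_pow_right Nat.card_pos ?_
  have hne : (polarBilin Q e) ≠ 0 := fun h => by
    have := LinearMap.congr_fun h f
    simp [HP.ef] at this
  have := Submodule.finrank_lt (fun h => hne (LinearMap.ker_eq_top.1 h) : K ≠ ⊤)
  omega

/-- An automorphism fixing a Sylow subgroup through the root group fixes the root group, or in small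
dimension sends it to the root group of a maximal singular subspace. -/
theorem map_U_of_sylow_or {p : ℕ} [Fact p.Prime] [CharP F p] (hG : Good Q) (HP : Fr Q e f)
    (K : Sylow p (G Q)) (hK : U Q e ≤ K) (β : MulAut (PG Q))
    (hβ : ((K : Subgroup (G Q)).map (pr Q)).map β.toMonoidHom = (K : Subgroup (G Q)).map (pr Q)) :
    (UP Q e).map β.toMonoidHom = UP Q e ∨ ∃ T : Submodule F V, (∀ a ∈ T, Q a = 0) ∧
      2 * Module.finrank F T = Module.finrank F V ∧ Module.finrank F V ≤ 8 ∧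
      (UP Q e).map β.toMonoidHom = (ZT Q T).map (pr Q) := by
  classical
  haveI : Finite (G Q) := finite_G
  set φ : G Q →* PG Q := β.symm.toMonoidHom.comp (pr Q) with hφdef
  have hφ : ∀ g, φ g = β.symm (pr Q g) := fun g => rfl
  have hφsurj : Function.Surjective φ := β.symm.surjective.comp pr_surjective
  have hUPcomm : ∀ a ∈ UP Q e, ∀ b ∈ UP Q e, Commute a b := by
    rintro _ ⟨a, ha, rfl⟩ _ ⟨b, hb, rfl⟩
    exact (show Commute a b from Cfsg.Agent.Lib.AutOmegaOdd.U_comm HP.ee ha hb).map (pr Q)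
  have hφeq : ∀ {a b : G Q}, φ a = φ b → pr Q a = pr Q b := fun h => β.symm.injective h
  let R : Subgroup (G Q) :=
    { carrier := {g | g ^ p = 1 ∧ φ g ∈ UP Q e}
      one_mem' := ⟨one_pow p, by rw [map_one]; exact one_mem _⟩
      mul_mem' := fun {a b} ha hb => by
        have hc : Commute a b := commute_of_pr (p := p) hG (i := 1) (by rw [pow_one]; exact hb.1)
          (Commute.of_map (f := β.symm.toMonoidHom) β.symm.injective (hUPcomm _ ha.2 _ hb.2))
        exact ⟨by rw [hc.mul_pow, ha.1, hb.1, one_mul], by rw [map_mul]; exact mul_mem ha.2 hb.2⟩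
      inv_mem' := fun {a} ha => ⟨by rw [inv_pow, ha.1, inv_one], by rw [map_inv]; exact inv_mem ha.2⟩ }
  have hlift : ∀ T ∈ UP Q e, ∃ r ∈ R, φ r = T := by
    intro T hT
    obtain ⟨g, hg, rfl⟩ := hT
    obtain ⟨r, hr1, hr2⟩ := exists_lift (p := p) hG (T := β (pr Q g))
      (by rw [← map_pow, ← map_pow, pow_p_of_mem_U HP.ee hg, map_one, map_one])
    have hrφ : φ r = pr Q g := by rw [hφ, hr2, β.symm_apply_apply]
    exact ⟨r, ⟨hr1, by rw [hrφ]; exact ⟨g, hg, rfl⟩⟩, hrφ⟩
  have hRinj : ∀ a ∈ R, ∀ b ∈ R, pr Q a = pr Q b → a = b := fun a ha b hb h =>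
    eq_of_pr (p := p) hG (i := 1) (j := 1) (by rw [pow_one]; exact ha.1) (by rw [pow_one]; exact hb.1) h
  set N' := ((St Q HP.e_ne HP.ee).map (pr Q)).comap φ with hN'
  have hKfix := sylow_fix hG HP K hK
  have hSt : IsCoatom ((St Q HP.e_ne HP.ee).map (pr Q)) :=
    isCoatom_map pr_surjective (by rw [QuotientGroup.ker_mk']; exact center_le_St hG _ _)
      (St_isCoatom hG _ _)
  have hKN : (K : Subgroup (G Q)) ≤ N' := by
    intro k hk
    have h1 : pr Q k ∈ ((K : Subgroup (G Q)).map (pr Q)).map β.toMonoidHom := by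
      rw [hβ]; exact ⟨k, hk, rfl⟩
    obtain ⟨T, ⟨k', hk', rfl⟩, hT⟩ := h1
    refine ⟨k', (mem_St _ _).2 ⟨1, by rw [one_smul, hKfix k' hk']⟩, ?_⟩
    rw [hφ, ← hT]
    exact (β.symm_apply_apply _).symm
  have hRK : R ≤ K := by
    rintro r ⟨hr1, g, hg, hgr⟩
    have h1 : β (pr Q g) ∈ (K : Subgroup (G Q)).map (pr Q) := by
      rw [← hβ]
      exact ⟨pr Q g, ⟨g, hK hg, rfl⟩, rfl⟩
    obtain ⟨k, hk, hkr⟩ := h1
    rw [hgr, hφ, β.apply_symm_apply] at hkr
    obtain ⟨i, hi⟩ := K.2 ⟨k, hk⟩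
    rw [eq_of_pr (p := p) hG (i := 1) (j := i) (by rw [pow_one]; exact hr1)
      (congrArg Subtype.val hi : k ^ p ^ i = 1) hkr.symm]
    exact hk
  have hRnorm : ∀ n ∈ N', ∀ r ∈ R, n * r * n⁻¹ ∈ R := by
    rintro n ⟨n₀, hn₀, hn⟩ r ⟨hr1, r₀, hr₀, hr⟩
    refine ⟨by rw [conj_pow, hr1, mul_one, mul_inv_cancel], ?_⟩
    refine ⟨n₀ * r₀ * n₀⁻¹, St_normalises HP hn₀ hr₀, ?_⟩
    rw [map_mul, map_mul, map_inv, hn, hr, ← map_inv φ, ← map_mul, ← map_mul]
  have hRC : ∀ g : G Q, (∀ r ∈ R, Commute g r) → ∃ r ∈ R, pr Q g = pr Q r := by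
    intro g hg
    obtain ⟨h, hh⟩ := pr_surjective (φ g)
    obtain ⟨u0, hu0, hu0'⟩ := centralizer_U hG HP (g := h) fun u hu => by
      obtain ⟨r, hr, hrφ⟩ := hlift _ ⟨_, sg_mem_U e hu.ex, rfl⟩
      have hc : Commute h (sg Q e u) := commute_of_pr (p := p) hG (i := 1)
        (by rw [pow_one]; exact sg_pow_p HP.ee hu.ex) (by rw [hh, ← hrφ]; exact (hg r hr).map φ)
      exact mul_inv_eq_iff_eq_mul.2 hc.eq
    obtain ⟨r, hr, hrφ⟩ := hlift (φ g) (by rw [← hh, hu0']; exact ⟨_, sg_mem_U e hu0.ex, rfl⟩)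
    exact ⟨r, hr, hφeq hrφ.symm⟩
  have hRC' : ∀ g : G Q, g ^ p = 1 → (∀ r ∈ R, Commute g r) → g ∈ R := by
    intro g hg1 hg
    obtain ⟨r, hr, h⟩ := hRC g hg
    rw [eq_of_pr (p := p) hG (i := 1) (j := 1) (by rw [pow_one]; exact hg1)
      (by rw [pow_one]; exact hr.1) h]
    exact hr
  have hmin : ∀ M : Subgroup (G Q), M ≤ R → M ≠ ⊥ → (∀ n ∈ N', ∀ z ∈ M, n * z * n⁻¹ ∈ M) →
      M = R := by
    intro M hM hne hMn
    set M0 := U Q e ⊓ (M.map φ).comap (pr Q) with hM0
    have h1 : M0 = U Q e := by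
      refine U_minimal hG HP inf_le_left ?_ ?_
      · intro h
        refine hne ((Subgroup.eq_bot_iff_forall M).2 fun m hm => ?_)
        obtain ⟨u, hu, hum⟩ := (hM hm).2
        have hu1 : u = 1 :=
          Subgroup.mem_bot.1 (h ▸ Subgroup.mem_inf.2 ⟨hu, ⟨m, hm, hum.symm⟩⟩)
        rw [hu1, map_one, ← map_one φ] at hum
        exact hRinj m (hM hm) 1 (one_mem R) (hφeq hum.symm)
      · intro x u hx hu hxQ hxu z hz
        obtain ⟨hzU, hzM⟩ := Subgroup.mem_inf.1 hz
        have hs : sg Q x u ∈ St Q HP.e_ne HP.ee :=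
          (mem_St _ _).2 ⟨1, by rw [one_smul, sg_fix hxQ hxu hx.ex hu.ex]⟩
        refine Subgroup.mem_inf.2 ⟨St_normalises HP hs hzU, ?_⟩
        obtain ⟨m, hm, hmz⟩ := hzM
        obtain ⟨n, hn⟩ := hφsurj (pr Q (sg Q x u))
        refine ⟨n * m * n⁻¹, hMn n ?_ m hm, ?_⟩
        · exact ⟨_, hs, hn.symm⟩
        · rw [map_mul, map_mul, map_inv, hn, hmz, map_mul, map_mul, map_inv]
    refine le_antisymm hM fun r hr => ?_
    obtain ⟨u, hu, hur⟩ := hr.2
    have hu' : u ∈ M0 := h1.symm ▸ hu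
    obtain ⟨m, hm, hmu⟩ := (Subgroup.mem_inf.1 hu').2
    rw [hur] at hmu
    rw [← hRinj m (hM hm) r hr (hφeq hmu)]
    exact hm
  have hRne : R ≠ ⊥ := by
    intro h
    refine U_ne_bot hG HP ((Subgroup.eq_bot_iff_forall _).2 fun g hg => ?_)
    obtain ⟨r, hr, hrφ⟩ := hlift _ ⟨g, hg, rfl⟩
    rw [h, Subgroup.mem_bot] at hr
    rw [hr, map_one, ← map_one (pr Q)] at hrφ
    exact eq_of_pr (p := p) hG (i := 1) (j := 1) (by rw [pow_one]; exact pow_p_of_mem_U HP.ee hg)
      (one_pow _) hrφ.symm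
  have hRcard : Nat.card R ≤ Nat.card (U Q e) := by
    have hex : ∀ r : R, ∃ g : U Q e, pr Q g.1 = φ r.1 := fun r => by
      obtain ⟨g, hg, h⟩ := r.2.2
      exact ⟨⟨g, hg⟩, h⟩
    choose F' hF' using hex
    refine Nat.card_le_card_of_injective F' fun a b h => Subtype.ext (hRinj _ a.2 _ b.2 (hφeq ?_))
    rw [← hF', ← hF', h]
  set T := radFix R with hT
  have hTQ : ∀ a ∈ T, Q a = 0 := fun a ha => ha.2.1
  have hTts : ∀ a ∈ T, ∀ b ∈ T, polar Q a b = 0 := fun a ha b hb => perp_of_TS hTQ ha hb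
  have hfixN : ∀ n ∈ N', ∀ v, (∀ r ∈ R, r.1.1 v = v) → ∀ r ∈ R, r.1.1 (n.1.1 v) = n.1.1 v := by
    intro n hn v hv r hr
    have h1 := hv _ (hRnorm n⁻¹ (inv_mem hn) r hr)
    rw [inv_inv, G_mul, G_mul] at h1
    have := congrArg n.1.1 h1
    rwa [G_inv'] at this
  have hTN : ∀ n ∈ N', ∀ v ∈ T, n.1.1 v ∈ T := by
    intro n hn v hv
    refine ⟨hfixN n hn v hv.1, by rw [G_Q]; exact hv.2.1, fun w hw => ?_⟩
    rw [← G_inv' n w, G_B]
    exact hv.2.2 _ (hfixN _ (inv_mem hn) w hw)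
  have heR : ∀ r ∈ R, r.1.1 e = e := fun r hr => hKfix r (hRK hr)
  have heT : e ∈ T := by
    let Sp : AddSubgroup V :=
      { carrier := {v | ∀ w, (∀ r ∈ R, r.1.1 w = w) → polar Q v w = 0}
        zero_mem' := fun w _ => polar_zero_left Q w
        add_mem' := fun {a b} ha hb w hw => by rw [polar_add_left, ha w hw, hb w hw, add_zero]
        neg_mem' := fun {a} ha w hw => by rw [polar_neg_left, ha w hw, neg_zero] }
    obtain ⟨r0, hr0⟩ := (Subgroup.ne_bot_iff_exists_ne_one).1 hRne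
    obtain ⟨v, hv, hv0, hvK⟩ := exists_fix (Q := Q) (K : Subgroup (G Q)) K.2 Sp
      (fun k hk v hv w hw => by
        rw [← G_inv' k w, G_B]
        exact hv _ (hfixN _ (inv_mem (hKN hk)) w hw))
      (by
        intro hbot
        refine hr0 (Subtype.ext (G_ext fun z => sub_eq_zero.1 ?_))
        refine (AddSubgroup.eq_bot_iff_forall _).1 hbot _ (fun w hw => ?_)
        show polar Q (r0.1.1.1 z - z) w = 0
        rw [polar_sub_left]
        nth_rewrite 1 [← hw r0.1 r0.2]
        rw [G_B, sub_self])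
    obtain ⟨c, hc⟩ := U_fix hG HP (v := v) fun r hr => hvK r (hK hr)
    have hc0 : c ≠ 0 := fun h => hv0 (by rw [hc, h, zero_smul])
    refine ⟨heR, HP.ee, fun w hw => ?_⟩
    have := hv w hw
    rw [hc, polar_smul_left, smul_eq_mul, mul_eq_zero] at this
    exact this.resolve_left hc0
  let H : Subgroup (G Q) :=
    { carrier := {g | ∀ v, v ∈ T ↔ g.1.1 v ∈ T}
      one_mem' := fun v => Iff.rfl
      mul_mem' := fun {a b} ha hb v => (hb v).trans (ha _)
      inv_mem' := fun {a} ha v => by rw [ha ((a⁻¹).1.1 v), G_inv'] }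
  have hNH : N' ≤ H := fun n hn v => ⟨hTN n hn v, fun h => by
    have := hTN _ (inv_mem hn) _ h
    rwa [G_inv] at this⟩
  have hNeq : N' = H := by
    rcases hNH.eq_or_lt with h | h
    · exact h
    · exfalso
      have htop := (isCoatom_comap hφsurj hSt).2 H h
      obtain ⟨t, ht, htf⟩ := hG.exists_map_sing HP.e_ne HP.f_ne HP.ee HP.ff
      have := ((htop ▸ Subgroup.mem_top (⟨t, ht⟩ : G Q) : (⟨t, ht⟩ : G Q) ∈ H) e).1 heT
      rw [show (⟨t, ht⟩ : G Q).1.1 e = f from htf] at this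
      have h1 := hTts e heT f this
      rw [HP.ef] at h1
      exact one_ne_zero h1
  by_cases hcase : ∀ v ∈ T, ∃ c : F, v = c • e
  · have hNle : St Q HP.e_ne HP.ee ≤ N' := by
      rw [hNeq]
      intro g hg v
      obtain ⟨c, hc⟩ := (mem_St _ _).1 hg
      have hc0 : c ≠ 0 := fun h => by
        rw [h, zero_smul] at hc; exact HP.e_ne (g.1.1.map_eq_zero_iff.1 hc.symm)
      constructor
      · intro hv
        obtain ⟨d, rfl⟩ := hcase v hv
        rw [map_smul, ← hc, smul_smul]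
        exact T.smul_mem _ heT
      · intro hv
        obtain ⟨d, hd⟩ := hcase _ hv
        have : v = (d * c⁻¹) • e := g.1.1.injective (by
          rw [hd, map_smul, ← hc, smul_smul, inv_mul_cancel_right₀ hc0])
        rw [this]
        exact T.smul_mem _ heT
    by_cases hint : R ⊓ U Q e = ⊥
    · exfalso
      refine hRne (eq_bot_iff.2 (hint ▸ le_inf le_rfl fun r hr => ?_))
      obtain ⟨u₀, hu₀, h₀⟩ := centralizer_U hG HP (g := r) fun u hu => by
        have hs : sg Q e u ∈ U Q e := sg_mem_U e hu.ex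
        have hmem : r * sg Q e u * r⁻¹ * (sg Q e u)⁻¹ ∈ R ⊓ U Q e := by
          refine Subgroup.mem_inf.2 ⟨?_, mul_mem (St_normalises HP
            ((mem_St _ _).2 ⟨1, by rw [one_smul, heR r hr]⟩) hs) (inv_mem hs)⟩
          rw [show r * sg Q e u * r⁻¹ * (sg Q e u)⁻¹ = r * (sg Q e u * r⁻¹ * (sg Q e u)⁻¹) by group]
          exact mul_mem hr (hRnorm _ (hNle (U_le_St HP hs)) _ (inv_mem hr))
        rw [hint, Subgroup.mem_bot] at hmem
        exact mul_inv_eq_one.1 hmem
      rw [eq_of_pr (p := p) hG (i := 1) (j := 1) (by rw [pow_one]; exact hr.1)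
        (by rw [pow_one]; exact sg_pow_p HP.ee hu₀.ex) h₀]
      exact sg_mem_U e hu₀.ex
    · have hle : N' ≤ St Q HP.e_ne HP.ee := by
        intro n hn
        obtain ⟨c, hc⟩ := hcase _ (hTN n hn e heT)
        exact (mem_St _ _).2 ⟨c, hc.symm⟩
      have hRU : R ≤ U Q e := (hmin (R ⊓ U Q e) inf_le_left hint fun n hn z hz =>
        Subgroup.mem_inf.2 ⟨hRnorm n hn z hz.1, St_normalises HP (hle hn) hz.2⟩) ▸ inf_le_right
      refine Or.inl (Subgroup.eq_of_le_of_card_ge ?_ (Subgroup.card_map_of_injective β.injective).ge)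
      rintro _ ⟨_, hT', rfl⟩
      obtain ⟨r, hr, hrφ⟩ := hlift _ hT'
      refine ⟨r, hRU hr, ?_⟩
      rw [← hrφ, hφ]
      exact (β.apply_symm_apply _).symm
  · push Not at hcase
    obtain ⟨s, hs, hse⟩ := hcase
    have hZN : ∀ n ∈ N', ∀ z ∈ ZT Q T, n * z * n⁻¹ ∈ ZT Q T := by
      intro n hn z hz
      have : ZT Q T ≤ (ZT Q T).comap (MulAut.conj n).toMonoidHom := by
        refine (Subgroup.closure_le _).2 ?_
        rintro _ ⟨a, ha, b, hb, rfl⟩
        exact Subgroup.subset_closure ⟨_, hTN n hn a ha, _, hTN n hn b hb,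
          sg_conj (hTQ a ha) (hTts a ha b hb) n⟩
      exact this hz
    have hZle : ZT Q T ≤ N' := by
      rw [hNeq]
      intro z hz v
      refine ⟨fun hv => by rwa [ZT_fix_T hTQ hz hv], fun hv => ?_⟩
      have := ZT_fix_T hTQ hz hv
      rwa [z.1.1.injective this] at hv
    have hse1 : sg Q e s ≠ 1 := by
      intro h
      refine hse (polar Q s f) ?_
      have h1 := congrArg (fun g : G Q => g.1.1 f) h
      simp only [sg_apply HP.ee (hTts e heT s hs), HP.fe, one_smul, G_one, hTQ s hs, zero_mul,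
        zero_smul, sub_zero] at h1
      rw [polar_comm Q f s] at h1
      linear_combination (norm := module) h1
    have hRZ : R ≤ ZT Q T := by
      by_cases hint : R ⊓ ZT Q T = ⊥
      · exfalso
        refine hse1 (Subgroup.mem_bot.1 (hint ▸ ?_))
        have hzs : sg Q e s ∈ ZT Q T := sg_mem_ZT heT hs
        refine Subgroup.mem_inf.2 ⟨hRC' _ (sg_pow_p HP.ee (hTts e heT s hs)) fun r hr => ?_, hzs⟩
        have hmem : sg Q e s * r * (sg Q e s)⁻¹ * r⁻¹ ∈ R ⊓ ZT Q T := by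
          refine Subgroup.mem_inf.2 ⟨mul_mem (hRnorm _ (hZle hzs) r hr) (inv_mem hr), ?_⟩
          rw [show sg Q e s * r * (sg Q e s)⁻¹ * r⁻¹ = sg Q e s * (r * (sg Q e s)⁻¹ * r⁻¹) by group]
          exact mul_mem hzs (hZN r (hKN (hRK hr)) _ (inv_mem hzs))
        rw [hint, Subgroup.mem_bot] at hmem
        exact mul_inv_eq_iff_eq_mul.1 (mul_inv_eq_one.1 hmem)
      · exact (hmin (R ⊓ ZT Q T) inf_le_left hint fun n hn z hz =>
          Subgroup.mem_inf.2 ⟨hRnorm n hn z hz.1, hZN n hn z hz.2⟩) ▸ inf_le_right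
    rcases nonsing_perp_or_half hG hTQ with ⟨u, hu0, hu⟩ | hhalf
    · exfalso
      have heu : polar Q e u = 0 := by rw [polar_comm, hu e heT]
      have hh : sg Q e u ∈ ZT Q T := by
        refine hRZ (hRC' _ (sg_pow_p HP.ee heu) fun r hr => ?_)
        have hr' : r ∈ Subgroup.centralizer {sg Q e u} := by
          refine ((Subgroup.closure_le _).2 ?_ : ZT Q T ≤ _) (hRZ hr)
          rintro _ ⟨a, ha, b, hb, rfl⟩
          have h1 := sg_conj (hTQ a ha) (hTts a ha b hb) (sg Q e u)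
          rw [sg_fix HP.ee heu (hTts a ha e heT) (by rw [polar_comm, hu a ha]),
            sg_fix HP.ee heu (hTts b hb e heT) (by rw [polar_comm, hu b hb])] at h1
          exact Subgroup.mem_centralizer_singleton_iff.2 (mul_inv_eq_iff_eq_mul.1 h1).symm
        exact (Subgroup.mem_centralizer_singleton_iff.1 hr').symm
      obtain ⟨v, hv, hvu⟩ := exists_perp_pairing hG T (u := u) fun h => hu0 (hTQ u h)
      have h1 := ZT_fix hTQ hh hv
      rw [sg_apply HP.ee heu, hv e heT, hvu, mul_zero, zero_smul, zero_smul, sub_zero, add_zero,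
        one_smul, sub_eq_self] at h1
      exact HP.e_ne h1
    · have hZR : ZT Q T ≤ R := by
        intro g hg
        obtain ⟨r, hr, h⟩ := hRC g fun r hr => ZT_comm hTQ hg (hRZ hr)
        rcases sign_of_pr hG h with h1 | h1
        · rw [G_ext h1]; exact hr
        · have h2 := h1 e
          rw [ZT_fix_T hTQ hg heT, heR r hr] at h2
          have h20 : (2 : F) = 0 := by
            have htwo : (2 : F) • e = 0 := by rw [two_smul]; nth_rewrite 1 [h2]; exact neg_add_cancel e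
            exact (smul_eq_zero.1 htwo).resolve_right HP.e_ne
          rw [show g = r from G_ext fun v => by
            rw [h1, neg_eq_iff_add_eq_zero, ← two_smul F, h20, zero_smul]]
          exact hr
      by_cases hn : Module.finrank F V ≤ 9
      · refine Or.inr ⟨T, hTQ, hhalf, by omega, ?_⟩
        rw [← le_antisymm hRZ hZR]
        ext z
        constructor
        · rintro ⟨y, hy, rfl⟩
          obtain ⟨r, hr, hrφ⟩ := hlift _ hy
          exact ⟨r, hr, by rw [← hrφ, hφ]; exact (β.apply_symm_apply _).symm⟩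
        · rintro ⟨r, hr, rfl⟩
          exact ⟨φ r, hr.2, β.apply_symm_apply _⟩
      exfalso
      have := Module.Finite.of_finite (R := F) (M := V)
      have h1 := card_ZT_ge hG hTQ (Module.finBasis F T)
      have h2 := (Subgroup.card_le_of_le hZR).trans (hRcard.trans (card_U_le hG HP))
      have h3 := (Nat.pow_le_pow_iff_right (Finite.one_lt_card (α := F))).1 (h1.trans h2)
      have h4 := two_mul_pairs (Module.finrank F T)
      have h5 : 5 * Module.finrank F T ≤ Module.finrank F T * Module.finrank F T :=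
        Nat.mul_le_mul_right _ (by omega)
      omega

omit [Fintype F] [Finite V] in
theorem map_conj_ZT (g : G Q) {T : Submodule F V} (hT : ∀ a ∈ T, Q a = 0) :
    (ZT Q T).map (MulAut.conj g).toMonoidHom = ZT Q (T.map (g.1.1 : V →ₗ[F] V)) := by
  rw [ZT, ZT, MonoidHom.map_closure]
  congr 1
  ext z
  constructor
  · rintro ⟨_, ⟨a, ha, b, hb, rfl⟩, rfl⟩
    exact ⟨_, ⟨a, ha, rfl⟩, _, ⟨b, hb, rfl⟩, sg_conj (hT a ha) (perp_of_TS hT ha hb) g⟩
  · rintro ⟨_, ⟨a, ha, rfl⟩, _, ⟨b, hb, rfl⟩, rfl⟩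
    exact ⟨sg Q a b, ⟨a, ha, b, hb, rfl⟩, sg_conj (hT a ha) (perp_of_TS hT ha hb) g⟩

/-- Automorphisms send a root group to one or, in small dimension, to that of a maximal singular
subspace. -/
theorem map_U_or (hG : Good Q) {x : V} (hx0 : x ≠ 0) (hx : Q x = 0) (β : MulAut (PG Q)) :
    (∃ y, y ≠ 0 ∧ Q y = 0 ∧ (UP Q x).map β.toMonoidHom = UP Q y) ∨
      ∃ T : Submodule F V, (∀ a ∈ T, Q a = 0) ∧ 2 * Module.finrank F T = Module.finrank F V ∧
        Module.finrank F V ≤ 8 ∧ (UP Q x).map β.toMonoidHom = (ZT Q T).map (pr Q) := by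
  obtain ⟨y, hy, hxy⟩ := hG.exists_partner hx0 hx
  have HP : Fr Q x y := ⟨hx, hy, hxy⟩
  obtain ⟨p, hp⟩ := CharP.exists F
  obtain ⟨d, hpp, -⟩ := FiniteField.card F p
  haveI : Fact p.Prime := ⟨hpp⟩
  haveI : Finite (G Q) := finite_G
  obtain ⟨K, hK⟩ := (isPGroup_U HP (p := p)).exists_le_sylow
  set K1 : Sylow p (PG Q) := K.mapSurjective pr_surjective
  have hK1 : (K1 : Subgroup (PG Q)) = (K : Subgroup (G Q)).map (pr Q) := Sylow.coe_mapSurjective _ _
  set K2 : Sylow p (PG Q) := K1.mapSurjective (f := β.toMonoidHom) β.surjective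
  have hK2 : (K2 : Subgroup (PG Q)) = (K1 : Subgroup (PG Q)).map β.toMonoidHom :=
    Sylow.coe_mapSurjective _ _
  obtain ⟨g, hg⟩ := MulAction.exists_smul_eq (PG Q) K1 K2
  have hg' : (K2 : Subgroup (PG Q)) = (K1 : Subgroup (PG Q)).map (MulAut.conj g).toMonoidHom := by
    rw [← hg, Sylow.coe_subgroup_smul, Subgroup.pointwise_smul_def]
    rfl
  have hfix : (K1 : Subgroup (PG Q)).map ((MulAut.conj g)⁻¹ * β).toMonoidHom = K1 := by
    rw [← map_map_mul, ← hK2, hg', map_map_mul, inv_mul_cancel, map_one_aut]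
  rw [hK1] at hfix
  obtain ⟨g₀, rfl⟩ := pr_surjective g
  have hUP : UP Q (g₀.1.1 x) = (UP Q x).map (MulAut.conj (pr Q g₀)).toMonoidHom := by
    rw [UP, UP, ← map_conj_U g₀ hx, Subgroup.map_map, Subgroup.map_map]
    congr 1
  rcases map_U_of_sylow_or hG HP K hK _ hfix with h | ⟨T, hT, hhalf, h8, h⟩
  · refine Or.inl ⟨g₀.1.1 x, fun h0 => hx0 (g₀.1.1.map_eq_zero_iff.1 h0), by rw [G_Q, hx], ?_⟩
    rw [hUP]
    conv_rhs => rw [← h, map_map_mul, mul_inv_cancel_left]
  · refine Or.inr ⟨T.map (g₀.1.1 : V →ₗ[F] V), ?_, ?_, h8, ?_⟩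
    · rintro _ ⟨a, ha, rfl⟩
      exact (G_Q g₀ a).trans (hT a ha)
    · rwa [LinearEquiv.finrank_map_eq]
    · rw [← map_conj_ZT g₀ hT, Subgroup.map_map]
      refine Eq.trans ?_ (Subgroup.map_map (ZT Q T) (MulAut.conj (pr Q g₀)).toMonoidHom (pr Q))
      rw [← h, map_map_mul, mul_inv_cancel_left]

/-- Automorphisms permute the root groups. -/
theorem map_U (hH : Hyp Q) {x : V} (hx0 : x ≠ 0) (hx : Q x = 0) (β : MulAut (PG Q)) :
    ∃ y, y ≠ 0 ∧ Q y = 0 ∧ (UP Q x).map β.toMonoidHom = UP Q y := by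
  rcases map_U_or hH.good hx0 hx β with h | ⟨T, hT, hhalf, h8, -⟩
  · exact h
  · rcases hH.big T hT with h | h <;> omega

/-- The data of the normal form. -/
structure Norm (e f : V) (β : MulAut (PG Q)) : Prop where
  me : (UP Q e).map β.toMonoidHom = UP Q e
  mf : (UP Q f).map β.toMonoidHom = UP Q f

theorem UP_inf (hG : Good Q) {x y : V} (hx : Q x = 0) (hy : Q y = 0) :
    UP Q x ⊓ UP Q y = (U Q x ⊓ U Q y).map (pr Q) := by
  obtain ⟨p, hp⟩ := CharP.exists F
  obtain ⟨d, hpp, -⟩ := FiniteField.card F p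
  haveI : Fact p.Prime := ⟨hpp⟩
  refine le_antisymm ?_ (Subgroup.map_inf_le _ _ _)
  rintro _ ⟨⟨a, ha, rfl⟩, b, hb, hba⟩
  have : b = a := eq_of_pr (p := p) hG (i := 1) (j := 1) (by rw [pow_one]; exact pow_p_of_mem_U hy hb)
    (by rw [pow_one]; exact pow_p_of_mem_U hx ha) hba
  exact ⟨a, Subgroup.mem_inf.2 ⟨ha, this ▸ hb⟩, rfl⟩

theorem UP_inf_ne_bot (hG : Good Q) {x y : V} (hx0 : x ≠ 0) (hy0 : y ≠ 0) (hx : Q x = 0)
    (hy : Q y = 0) (hxy : polar Q x y = 0) : UP Q x ⊓ UP Q y ≠ ⊥ := by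
  obtain ⟨p, hp⟩ := CharP.exists F
  obtain ⟨d, hpp, -⟩ := FiniteField.card F p
  haveI : Fact p.Prime := ⟨hpp⟩
  rw [UP_inf hG hx hy]
  intro h
  have hbot : U Q x ⊓ U Q y = ⊥ := (Subgroup.eq_bot_iff_forall _).2 fun g hg => by
    have hg' := (Subgroup.eq_bot_iff_forall _).1 h _ ⟨g, hg, rfl⟩
    exact eq_of_pr (p := p) hG (i := 1) (j := 1)
      (by rw [pow_one]; exact pow_p_of_mem_U hx (Subgroup.mem_inf.1 hg).1) (one_pow _)
      (hg'.trans (map_one _).symm)
  by_cases hdep : ∃ c : F, y = c • x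
  · obtain ⟨c, rfl⟩ := hdep
    obtain ⟨z, hz, hxz⟩ := hG.exists_partner hx0 hx
    rw [U_smul hx (fun h => hy0 (by rw [h, zero_smul])), inf_idem] at hbot
    exact U_ne_bot hG ⟨hx, hz, hxz⟩ hbot
  · push Not at hdep
    have h1 : sg Q x y = 1 := by
      refine Subgroup.mem_bot.1 (hbot ▸ Subgroup.mem_inf.2 ⟨sg_mem_U x hxy, ?_⟩)
      rw [sg_swap hx hy hxy]
      exact sg_mem_U y (by rw [polar_neg_right, polar_comm, hxy, neg_zero])
    obtain ⟨z, hz, hxz⟩ := hG.exists_partner hx0 hx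
    have h2 := congrArg (fun g : G Q => g.1.1 z) h1
    simp only [sg_apply hx hxy, polar_comm Q z x, hxz, one_smul, G_one, hy, zero_mul, zero_smul,
      sub_zero] at h2
    exact hdep (polar Q z y) (by linear_combination (norm := module) h2)

theorem exists_normalise (hG : Good Q) (HP : Fr Q e f) {β : MulAut (PG Q)}
    (hP : ∀ x : V, x ≠ 0 → Q x = 0 → ∃ y, y ≠ 0 ∧ Q y = 0 ∧ (UP Q x).map β.toMonoidHom = UP Q y) :
    ∃ g : G Q, Norm e f ((MulAut.conj (pr Q g))⁻¹ * β) := by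
  obtain ⟨x, hx0, hx, hxe⟩ := hP e HP.e_ne HP.ee
  obtain ⟨y, hy0, hy, hyf⟩ := hP f HP.f_ne HP.ff
  have hxy : polar Q x y ≠ 0 := by
    intro h
    apply UP_inf_ne_bot hG hx0 hy0 hx hy h
    rw [← hxe, ← hyf, ← Subgroup.map_inf_eq _ _ _ β.injective, UP_inf hG HP.ee HP.ff,
      Cfsg.Agent.Lib.AutOmegaOdd.U_inf_eq_bot HP, Subgroup.map_bot, Subgroup.map_bot]
  set y' := (polar Q x y)⁻¹ • y with hy'
  obtain ⟨t, ht, h1, h2⟩ := hG.exists_map_pair HP.ee HP.ff HP.ef hx
    (show Q y' = 0 by rw [hy', QuadraticMap.map_smul, hy, smul_zero])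
    (by rw [hy', polar_smul_right, smul_eq_mul, inv_mul_cancel₀ hxy])
  have hconj : ∀ {z : V}, Q z = 0 → UP Q ((⟨t, ht⟩ : G Q).1.1 z) =
      (UP Q z).map (MulAut.conj (pr Q ⟨t, ht⟩)).toMonoidHom := fun {z} hz => by
    rw [UP, UP, ← map_conj_U _ hz, Subgroup.map_map, Subgroup.map_map]
    congr 1
  refine ⟨⟨t, ht⟩, ?_, ?_⟩
  · rw [← map_map_mul, hxe, show x = (⟨t, ht⟩ : G Q).1.1 e from h1.symm, hconj HP.ee, map_map_mul,
      inv_mul_cancel, map_one_aut]
  · rw [← map_map_mul, hyf, show UP Q y = UP Q y' by rw [UP, UP, hy', U_smul hy (inv_ne_zero hxy)],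
      show y' = (⟨t, ht⟩ : G Q).1.1 f from h2.symm, hconj HP.ff, map_map_mul, inv_mul_cancel,
      map_one_aut]

end Cfsg.Agent.Lib.AutOmega
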