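import Cfsg.Agent.Lib.AutOmega.Std

/-!
The group of semisimilitudes and its action on `PΩ`.
-/

set_option autoImplicit false

namespace Cfsg.Agent.Lib.AutOmega

open QuadraticMap hiding proj
open Cfsg.Agent.Lib.Classical.Quad Cfsg.Agent.Lib.Classical.QuadOmega
open Cfsg.Agent.Lib.AutOmegaOdd (G G_ext G_mul G_inv G_inv' sg sg_mem_U Semi Fr U mem_U)

universe u v

section group

variable {F : Type u} [Field F] {V : Type v} [AddCommGroup V] [Module F V] {Q : QuadraticForm F V}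

theorem semi_ext {ψ φ : Semi Q} (hσ : ψ.σ = φ.σ) (hH : ψ.H = φ.H)
    (hmap : ∀ v, ψ.map v = φ.map v) : ψ = φ := by
  cases ψ; cases φ
  congr
  exact AddEquiv.ext hmap

noncomputable instance semiOne : One (Semi Q) :=
  ⟨{ σ := 1
     H := 1
     H0 := one_ne_zero
     map := AddEquiv.refl V
     map_smul := fun _ _ => rfl
     map_Q := fun v => by simp }⟩

noncomputable instance semiMul : Mul (Semi Q) :=
  ⟨fun ψ φ =>
    { σ := ψ.σ * φ.σ
      H := ψ.H * ψ.σ φ.H
      H0 := mul_ne_zero ψ.H0 ((map_ne_zero ψ.σ).2 φ.H0)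
      map := φ.map.trans ψ.map
      map_smul := fun c v => by
        show ψ.map (φ.map (c • v)) = ψ.σ (φ.σ c) • ψ.map (φ.map v)
        rw [φ.map_smul, ψ.map_smul]
      map_Q := fun v => by
        show Q (ψ.map (φ.map v)) = ψ.H * ψ.σ φ.H * ψ.σ (φ.σ (Q v))
        rw [ψ.map_Q, φ.map_Q, map_mul, mul_assoc] }⟩

noncomputable instance semiInv : Inv (Semi Q) := ⟨Semi.inv⟩

@[simp] theorem semi_one_σ : (1 : Semi Q).σ = 1 := rfl
@[simp] theorem semi_one_H : (1 : Semi Q).H = 1 := rfl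
@[simp] theorem semi_one_map (v : V) : (1 : Semi Q).map v = v := rfl
@[simp] theorem semi_mul_σ (ψ φ : Semi Q) : (ψ * φ).σ = ψ.σ * φ.σ := rfl
@[simp] theorem semi_mul_H (ψ φ : Semi Q) : (ψ * φ).H = ψ.H * ψ.σ φ.H := rfl
@[simp] theorem semi_mul_map (ψ φ : Semi Q) (v : V) : (ψ * φ).map v = ψ.map (φ.map v) := rfl

noncomputable instance semiGroup : Group (Semi Q) :=
  Group.ofLeftAxioms
    (fun a b c => semi_ext (mul_assoc _ _ _) (by simp [mul_assoc]) fun v => rfl)
    (fun a => semi_ext (one_mul _) (by simp) fun v => rfl)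
    (fun a => semi_ext (inv_mul_cancel a.σ)
      (by
        show (a.σ.symm a.H)⁻¹ * a.σ.symm a.H = 1
        exact inv_mul_cancel₀ ((map_ne_zero a.σ.symm).2 a.H0))
      fun v => a.map.symm_apply_apply v)

/-- The field automorphism of a semisimilitude. -/
noncomputable def sigmaHom (Q : QuadraticForm F V) : Semi Q →* (F ≃+* F) where
  toFun ψ := ψ.σ
  map_one' := rfl
  map_mul' _ _ := rfl

theorem sigmaHom_apply (ψ : Semi Q) : sigmaHom Q ψ = ψ.σ := rfl

/-- Isometries as semisimilitudes. -/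
noncomputable def ofIso (Q : QuadraticForm F V) : isoG Q →* Semi Q where
  toFun h :=
    { σ := 1
      H := 1
      H0 := one_ne_zero
      map := h.1.toAddEquiv
      map_smul := fun c v => h.1.map_smul c v
      map_Q := fun v => by simpa using iso_Q h v }
  map_one' := semi_ext rfl rfl fun _ => rfl
  map_mul' g h := semi_ext rfl (by simp) fun _ => rfl

@[simp] theorem ofIso_σ (h : isoG Q) : (ofIso Q h).σ = 1 := rfl
@[simp] theorem ofIso_H (h : isoG Q) : (ofIso Q h).H = 1 := rfl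
@[simp] theorem ofIso_map (h : isoG Q) (v : V) : (ofIso Q h).map v = h.1 v := rfl

theorem ofIso_injective : Function.Injective (ofIso Q) := fun g h e =>
  iso_ext fun v => DFunLike.congr_fun (congrArg Semi.map e) v

/-- Scalars as semisimilitudes. -/
noncomputable def ofScalar (Q : QuadraticForm F V) : Fˣ →* Semi Q where
  toFun c :=
    { σ := 1
      H := (c : F) * c
      H0 := mul_ne_zero c.ne_zero c.ne_zero
      map := (LinearEquiv.smulOfUnit c : V ≃ₗ[F] V).toAddEquiv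
      map_smul := fun a v => (LinearEquiv.smulOfUnit c : V ≃ₗ[F] V).map_smul a v
      map_Q := fun v => by
        show Q ((c : F) • v) = _
        rw [QuadraticMap.map_smul, smul_eq_mul, RingAut.one_apply] }
  map_one' := semi_ext rfl (by simp) fun v => one_smul F v
  map_mul' a b := semi_ext rfl
    (by simp [mul_mul_mul_comm]) fun v => mul_smul (a : F) (b : F) v

@[simp] theorem ofScalar_σ (c : Fˣ) : (ofScalar Q c).σ = 1 := rfl
@[simp] theorem ofScalar_H (c : Fˣ) : (ofScalar Q c).H = (c : F) * c := rfl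
@[simp] theorem ofScalar_map (c : Fˣ) (v : V) : (ofScalar Q c).map v = (c : F) • v := rfl

theorem mul_ofScalar (ψ : Semi Q) (c : Fˣ) :
    ψ * ofScalar Q c = ofScalar Q (Units.map (ψ.σ : F →* F) c) * ψ :=
  semi_ext (by simp) (by simp; ring) fun v => by simp [ψ.map_smul]

theorem ofScalar_comm (ψ : Semi Q) (hσ : ψ.σ = 1) (c : Fˣ) :
    ψ * ofScalar Q c = ofScalar Q c * ψ :=
  semi_ext (by simp) (by simp [hσ]; ring) fun v => by simp [ψ.map_smul, hσ]

theorem ofScalar_negOne [Fintype F] [Finite V] : ofScalar Q (-1) = ofIso Q (negOne Q) :=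
  semi_ext rfl (by simp) fun v => by simp

theorem mul_ofIso (ψ : Semi Q) (h : isoG Q) : ψ * ofIso Q h = ofIso Q (ψ.conjI h) * ψ :=
  semi_ext (by simp) (by simp) fun v => (ψ.conjI_apply h v).symm

theorem conj_ofIso (ψ : Semi Q) (h : isoG Q) : ψ * ofIso Q h * ψ⁻¹ = ofIso Q (ψ.conjI h) := by
  rw [mul_ofIso, mul_inv_cancel_right]

/-- A similitude with square multiplier is a scalar times an isometry. -/
theorem eq_scalar_iso {ψ : Semi Q} (hσ : ψ.σ = 1) {c : Fˣ} (hH : ψ.H = (c : F) * c) :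
    ∃ h : isoG Q, ψ = ofScalar Q c * ofIso Q h := by
  set φ := ofScalar Q c⁻¹ * ψ with hφ
  have hφσ : φ.σ = 1 := by rw [hφ, semi_mul_σ, ofScalar_σ, hσ, one_mul]
  have hφH : φ.H = 1 := by
    simp only [hφ, semi_mul_H, ofScalar_H, ofScalar_σ, RingAut.one_apply, hH, Units.val_inv_eq_inv_val]
    field_simp
  let L : V ≃ₗ[F] V :=
    { φ.map with
      map_smul' := fun a v => (φ.map_smul a v).trans (by rw [hφσ]; rfl) }
  let h : isoG Q := ⟨L, fun v => (φ.map_Q v).trans (by rw [hφH, one_mul, hφσ]; rfl)⟩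
  refine ⟨h, ?_⟩
  rw [show ofIso Q h = φ from semi_ext hφσ.symm hφH.symm fun v => rfl, hφ, ← mul_assoc, ← map_mul,
    mul_inv_cancel, map_one, one_mul]

/-- The action on `PΩ`. -/
noncomputable def actP (Q : QuadraticForm F V) : Semi Q →* MulAut (PG Q) where
  toFun := conjP
  map_one' := MulEquiv.ext fun z => by
    obtain ⟨g, rfl⟩ := pr_surjective z
    rw [conjP_pr, MulAut.one_apply]
    congr 1
  map_mul' ψ φ := MulEquiv.ext fun z => by
    obtain ⟨g, rfl⟩ := pr_surjective z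
    rw [MulAut.mul_apply, conjP_pr, conjP_pr, conjP_pr]
    congr 1

theorem actP_apply (ψ : Semi Q) : actP Q ψ = conjP ψ := rfl

end group

/-! ### The kernel -/

variable {F : Type u} [Field F] [Fintype F] {V : Type v} [AddCommGroup V] [Module F V] [Finite V]
  {Q : QuadraticForm F V}

theorem fix_point_of_act {ψ : Semi Q} (hG : Good Q) (hψ : conjP ψ = 1) {x : V} (hx0 : x ≠ 0)
    (hx : Q x = 0) : ∃ c : F, ψ.map x = c • x := by
  obtain ⟨p, hp⟩ := CharP.exists F
  have : Fact p.Prime := ⟨CharP.char_is_prime F p⟩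
  obtain ⟨y, hy, hxy⟩ := hG.exists_partner hx0 hx
  have HP : Fr Q x y := ⟨hx, hy, hxy⟩
  refine U_fix hG HP fun r hr => ?_
  obtain ⟨u, hu, rfl⟩ := (mem_U hx).1 hr
  have h1 : pr Q (ψ.conjG (sg Q x u)) = pr Q (sg Q x u) := by
    rw [← conjP_pr, hψ, MulAut.one_apply]
  have hp1 : sg Q x u ^ p ^ 1 = 1 := by rw [pow_one]; exact sg_pow_p hx hu
  have h2 := eq_of_pr (p := p) hG (i := 1) (j := 1) (by rw [← map_pow, hp1, map_one]) hp1 h1
  have h := ψ.conjG_apply (sg Q x u) x
  rwa [h2, AutOmegaOdd.sg_fix_self hx hu] at h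

/-- Only the scalars act trivially. -/
theorem conjP_eq_one_iff {ψ : Semi Q} (hG : Good Q) :
    conjP ψ = 1 ↔ ∃ c : Fˣ, ψ = ofScalar Q c := by
  constructor
  · intro hψ
    obtain ⟨e, f, a, b, he, hf, ha, hb, hef, hab, hea, heb, hfa, hfb⟩ := hG.two
    have he0 : e ≠ 0 := fun h => by simp [h, polar_zero_left] at hef
    have hf0 : f ≠ 0 := fun h => by simp [h, polar_zero_right] at hef
    have ha0 : a ≠ 0 := fun h => by simp [h, polar_zero_left] at hab
    obtain ⟨ce, hce⟩ := fix_point_of_act hG hψ he0 he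
    obtain ⟨cf, hcf⟩ := fix_point_of_act hG hψ hf0 hf
    obtain ⟨ca, hca⟩ := fix_point_of_act hG hψ ha0 ha
    have hpair : ∀ (x : V) (cx : F), ψ.map x = cx • x → Q x = 0 → polar Q x a = 0 →
        polar Q x b = 0 → x ≠ 0 → (∃ y, polar Q x y = 1 ∧ polar Q a y = 0) →
        ∀ t : F, ψ.σ t * ca = cx * t := by
      intro x cx hcx hx hxa hxb hx0 ⟨y, hxy, hay⟩ t
      have hne : x + t • a ≠ 0 := fun h => by
        have h1 := congrArg (fun v => polar Q v y) h
        simp [polar_add_left, polar_smul_left, polar_zero_left, hxy, hay] at h1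
      obtain ⟨d, hd⟩ := fix_point_of_act hG hψ hne (by
        rw [QuadraticMap.map_add ⇑Q, QuadraticMap.map_smul, hx, ha, polar_smul_right, hxa]; simp)
      rw [map_add, ψ.map_smul, hcx, hca] at hd
      have h1 := congrArg (fun v => polar Q v y) hd
      have h2 := congrArg (fun v => polar Q v b) hd
      simp [polar_add_left, polar_smul_left, hxy, hay, hxb, hab] at h1 h2
      rw [h2, h1]
    have ke := hpair e ce hce he hea heb he0 ⟨f, hef, by rw [polar_comm, hfa]⟩
    have kf := hpair f cf hcf hf hfa hfb hf0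
      ⟨e, by rw [polar_comm, hef], by rw [polar_comm, hea]⟩
    have e1 : ca = ce := by simpa using ke 1
    have e2 : ca = cf := by simpa using kf 1
    have hca0 : ca ≠ 0 := fun h => by
      rw [h, zero_smul] at hca
      exact ha0 (ψ.map.map_eq_zero_iff.1 hca)
    have hσ : ψ.σ = 1 := RingEquiv.ext fun t => mul_right_cancel₀ hca0 (by
      rw [ke t, ← e1, RingAut.one_apply, mul_comm])
    have hH : ψ.H = ca * ca := by
      have h := ψ.map_B e f
      rw [hce, hcf, ← e1, ← e2, polar_smul_left, polar_smul_right, hef, map_one] at h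
      simpa [mul_comm] using h.symm
    obtain ⟨h, hh⟩ := eq_scalar_iso hσ (c := Units.mk0 ca hca0) hH
    obtain ⟨c, hc, hcv⟩ := scalar_of_fix_lines hG h fun x hx0 hx => by
      obtain ⟨cx, hcx⟩ := fix_point_of_act hG hψ hx0 hx
      rw [hh] at hcx
      simp only [semi_mul_map, ofIso_map, ofScalar_map, Units.val_mk0] at hcx
      refine ⟨ca⁻¹ * cx, ?_⟩
      rw [mul_smul, ← hcx, smul_smul, inv_mul_cancel₀ hca0, one_smul]
    refine ⟨Units.mk0 ca hca0 * Units.mk0 c (fun h0 => by simp [h0] at hc), semi_ext (by simp [hσ])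
      ?_ fun v => ?_⟩
    · rw [hH]
      simp only [ofScalar_H, Units.val_mul, Units.val_mk0]
      linear_combination (-(ca * ca)) * hc
    · rw [hh]
      simp [hcv, smul_smul]
  · rintro ⟨c, rfl⟩
    refine MulEquiv.ext fun z => ?_
    obtain ⟨g, rfl⟩ := pr_surjective z
    rw [conjP_pr, MulAut.one_apply]
    congr 1
    refine G_ext fun v => ?_
    obtain ⟨w, rfl⟩ := (ofScalar Q c).map.surjective v
    rw [AutOmegaOdd.Semi.conjG_apply]
    simp

/-! ### On `PΩ` as a matrix quotient -/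

variable {ι : Type} [Fintype ι] [DecidableEq ι] {f : (ι → F) → F} {R : QuadraticForm F (ι → F)}

/-- The action on the matrix `PΩ`. -/
noncomputable def act (hf : ∀ v, R v = f v) (hG : Good R) : Semi R →* MulAut (Cfsg.POmega F f) :=
  (MulAut.congr (toPG hf hG).symm).toMonoidHom.comp (actP R)

variable (hf : ∀ v, R v = f v) (hG : Good R)

theorem act_apply (ψ : Semi R) :
    act hf hG ψ = ((toPG hf hG).trans (conjP ψ)).trans (toPG hf hG).symm := by
  ext z; rfl

theorem act_eq_one_iff {ψ : Semi R} :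
    act hf hG ψ = 1 ↔ ∃ c : Fˣ, ψ = ofScalar R c := by
  rw [act, MonoidHom.comp_apply, MulEquiv.coe_toMonoidHom, map_eq_one_iff _ (MulEquiv.injective _),
    actP_apply, conjP_eq_one_iff hG]

theorem act_eq_iff {ψ φ : Semi R} :
    act hf hG ψ = act hf hG φ ↔ ∃ c : Fˣ, ψ = ofScalar R c * φ := by
  rw [← mul_inv_eq_one, ← map_inv, ← map_mul, act_eq_one_iff]
  simp only [mul_inv_eq_iff_eq_mul]

theorem act_ofScalar (c : Fˣ) : act hf hG (ofScalar R c) = 1 := (act_eq_one_iff hf hG).2 ⟨c, rfl⟩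

theorem act_surjective (hH : Hyp R) : Function.Surjective (act hf hG) := fun β => by
  obtain ⟨ψ, hψ⟩ := exists_semi hf hH β
  exact ⟨ψ, by rw [act_apply, hψ]⟩

theorem conj_toPG_symm (g : G R) :
    MulAut.conj ((toPG hf hG).symm (pr R g)) = act hf hG (ofIso R g.1) := by
  refine MulEquiv.ext fun z => ?_
  obtain ⟨s, rfl⟩ := (toPG hf hG).symm.surjective z
  obtain ⟨k, rfl⟩ := pr_surjective s
  rw [act_apply, MulAut.conj_apply, ← map_inv, ← map_inv, ← map_mul, ← map_mul, ← map_mul,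
    ← map_mul]
  show _ = (toPG hf hG).symm (conjP _ (toPG hf hG ((toPG hf hG).symm (pr R k))))
  rw [MulEquiv.apply_symm_apply, conjP_pr]
  congr 2

theorem inn_eq : Cfsg.Inn (Cfsg.POmega F f) =
    (siegelGroup R).map ((act hf hG).comp (ofIso R)) := by
  refine le_antisymm ?_ ?_
  · rintro _ ⟨a, rfl⟩
    obtain ⟨s, rfl⟩ := (toPG hf hG).symm.surjective a
    obtain ⟨g, rfl⟩ := pr_surjective s
    exact ⟨g.1, g.2, (conj_toPG_symm hf hG g).symm⟩
  · rintro _ ⟨g, hg, rfl⟩
    exact ⟨_, conj_toPG_symm hf hG ⟨g, hg⟩⟩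

theorem act_mem_inn {ψ : Semi R} : act hf hG ψ ∈ Cfsg.Inn (Cfsg.POmega F f) ↔
    ∃ (c : Fˣ) (h : isoG R), h ∈ siegelGroup R ∧ ψ = ofScalar R c * ofIso R h := by
  rw [inn_eq hf hG]
  constructor
  · rintro ⟨h, hh, e⟩
    obtain ⟨c, hc⟩ := (act_eq_iff hf hG).1 e.symm
    exact ⟨c, h, hh, hc⟩
  · rintro ⟨c, h, hh, rfl⟩
    exact ⟨h, hh, ((act_eq_iff hf hG).2 ⟨c, rfl⟩).symm⟩

/-- The semisimilitude of a pair. -/
noncomputable def ofPair {g : GL ι F} {σ : F ≃+* F} {c : Fˣ}
    (hc : ∀ v : ι → F, R ((g : Matrix ι ι F).mulVec (fun i => σ (v i))) = (c : F) * σ (R v)) : Semi R where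
  σ := σ
  H := c
  H0 := c.ne_zero
  map := (AddEquiv.piCongrRight fun _ : ι => σ.toAddEquiv).trans
    ((toAut (LinearEquiv.refl F (ι → F)) g).toAddEquiv)
  map_smul a v := by
    show toAut (LinearEquiv.refl F (ι → F)) g (fun i => σ ((a • v) i)) = _
    rw [show (fun i => σ ((a • v) i)) = σ a • fun i => σ (v i) by funext i; simp, map_smul]
    rfl
  map_Q v := by
    show R (toAut (LinearEquiv.refl F (ι → F)) g (fun i => σ (v i))) = _
    rw [show toAut (LinearEquiv.refl F (ι → F)) g (fun i => σ (v i)) =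
      (g : Matrix ι ι F).mulVec (fun i => σ (v i)) from toAut_apply (LinearEquiv.refl F (ι → F)) g _,
      hc]

omit [Fintype F] in
theorem ofPair_map {g : GL ι F} {σ : F ≃+* F} {c : Fˣ}
    (hc : ∀ v : ι → F, R ((g : Matrix ι ι F).mulVec (fun i => σ (v i))) = (c : F) * σ (R v))
    (v : ι → F) : (ofPair hc).map v = (g : Matrix ι ι F).mulVec (fun i => σ (v i)) :=
  toAut_apply (LinearEquiv.refl F (ι → F)) g _

include hf hG in
/-- An automorphism induced by a pair is the action of its semisimilitude. -/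
theorem act_of_induced {g : GL ι F} {σ : F ≃+* F} {ψ : Semi R} (hσ : ψ.σ = σ)
    (hg : ∀ v, (g : Matrix ι ι F).mulVec (fun i => σ (v i)) = ψ.map v)
    {β : MulAut (Cfsg.POmega F f)} (hβ : Cfsg.IsInducedBySemilinearPOmega f g σ β) :
    β = act hf hG ψ := by
  subst hσ
  refine MulEquiv.ext fun z => ?_
  obtain ⟨s, rfl⟩ := QuotientGroup.mk_surjective z
  obtain ⟨s', hs'⟩ := (toG hf hG).surjective (ψ.conjG (toG hf hG s))
  have key : mat s' = (g : Matrix ι ι F) * (mat s).map ψ.σ * ((g⁻¹ : GL ι F) : Matrix ι ι F) := by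
    refine Matrix.ext_of_mulVec_single fun i => ?_
    obtain ⟨z, hz⟩ := ψ.map.surjective (Pi.single i 1)
    rw [← hz, ← toG_apply hf hG, hs', AutOmegaOdd.Semi.conjG_apply, toG_apply, ← hg z,
      Matrix.mulVec_mulVec, mul_assoc, ← Units.val_mul, inv_mul_cancel, Units.val_one, mul_one,
      ← Matrix.mulVec_mulVec, map_mulVec_field, hg]
  rw [hβ s s' key, act_apply]
  show _ = (toPG hf hG).symm (conjP ψ (toPG hf hG (QuotientGroup.mk s)))
  rw [toPG_mk, conjP_pr, ← hs', ← toPG_mk hf hG, MulEquiv.symm_apply_apply]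

theorem pair_of_semi (ψ : Semi R) :
    ∃ g : GL ι F, (∀ v, (g : Matrix ι ι F).mulVec (fun i => ψ.σ (v i)) = ψ.map v) ∧
      Cfsg.IsInducedBySemilinearPOmega f g ψ.σ (act hf hG ψ) := by
  obtain ⟨g, σ, -, rfl, hg, hi⟩ := exists_pair hf hG ψ
  exact ⟨g, hg, by rw [act_apply]; exact hi⟩

include hf in
/-- The image of the similitudes. -/
theorem pgoAut_eq : Cfsg.pgoAut F f = (sigmaHom R).ker.map (act hf hG) := by
  refine le_antisymm ((Subgroup.closure_le _).2 ?_) ?_
  · rintro β ⟨g, ⟨c, hc⟩, hβ⟩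
    have hc' : ∀ v : ι → F, R ((g : Matrix ι ι F).mulVec (fun i => (1 : F ≃+* F) (v i))) =
        (c : F) * (1 : F ≃+* F) (R v) := fun v => by
      rw [hf, hf]
      exact hc v
    refine ⟨ofPair hc', (rfl : (ofPair hc').σ = 1),
      (act_of_induced hf hG (σ := RingEquiv.refl F) rfl (fun v => ?_) hβ).symm⟩
    exact (ofPair_map hc' v).symm
  · rintro _ ⟨ψ, hψ, rfl⟩
    refine Subgroup.subset_closure ?_
    obtain ⟨g, hg, hi⟩ := pair_of_semi hf hG ψ
    have hσ : ψ.σ = 1 := hψ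
    rw [hσ] at hg hi
    refine ⟨g, ⟨Units.mk0 ψ.H ψ.H0, fun v => ?_⟩, hi⟩
    rw [← hf, ← hf, show (g : Matrix ι ι F).mulVec v = ψ.map v from hg v, ψ.map_Q, hσ]
    rfl

end Cfsg.Agent.Lib.AutOmega
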