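import Cfsg.Agent.Lib.AutOmega.Main
import Cfsg.Agent.Lib.Classical.QuadOmega.Main
import Cfsg.Agent.Lib.Classical.QuadF2
import Cfsg.Prelude.Def_LieTypeDatum

/-!
Every automorphism of the matrix group `PΩ` is induced by a semisimilarity.
-/

set_option autoImplicit false

namespace Cfsg.Agent.Lib.AutOmega

open QuadraticMap hiding proj
open Matrix Cfsg.Agent.Lib.Classical.Quad Cfsg.Agent.Lib.Classical.QuadOmega
open Cfsg.Agent.Lib.AutOmegaOdd (G G_ext G_mul G_inv G_inv' Semi)

universe u v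

/-- A semisimilitude followed by an isometry. -/
noncomputable def semiLeft {F : Type u} [Field F] {V : Type v} [AddCommGroup V] [Module F V]
    {Q : QuadraticForm F V} (h : isoG Q) (ψ : Semi Q) : Semi Q where
  σ := ψ.σ
  H := ψ.H
  H0 := ψ.H0
  map := ψ.map.trans h.1.toAddEquiv
  map_smul c v := by
    show h.1 (ψ.map (c • v)) = ψ.σ c • h.1 (ψ.map v)
    rw [ψ.map_smul, map_smul]
  map_Q v := by
    show Q (h.1 (ψ.map v)) = _
    rw [iso_Q, ψ.map_Q]

variable {F : Type u} [Field F] {ι : Type} [Fintype ι] [DecidableEq ι]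
  {f : (ι → F) → F} {Q : QuadraticForm F (ι → F)} (hf : ∀ v, Q v = f v)

/-- `Ω` as a matrix group. -/
abbrev Om (f : (ι → F) → F) := ↥(Cfsg.Omega F f)

/-- The matrix of an element of `Ω`. -/
abbrev mat (s : Om f) : Matrix ι ι F := (((s : ↥(Cfsg.isometryGroup F f)) : GL ι F) : Matrix ι ι F)

/-- Matrix isometries as linear maps. -/
noncomputable def toI : Cfsg.isometryGroup F f ≃* isoG Q :=
  isoEquiv _ (LinearEquiv.refl F _) fun v => (hf v).symm

theorem toI_apply (g : Cfsg.isometryGroup F f) (v : ι → F) :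
    (toI hf g).1 v = ((g : GL ι F) : Matrix ι ι F) *ᵥ v := rfl

variable [Fintype F] (hG : Good Q)

include hf hG in
theorem map_Omega : (Cfsg.Omega F f).map (toI hf).toMonoidHom = siegelGroup Q := by
  unfold Cfsg.Omega
  rw [← commutator_eq hG, commutator_def, commutator_def, Subgroup.map_commutator,
    Subgroup.map_top_of_surjective _ (toI hf).surjective]

/-- `Ω` as a group of linear maps. -/
noncomputable def toG : Om f ≃* G Q :=
  ((toI hf).subgroupMap _).trans (MulEquiv.subgroupCongr (map_Omega hf hG))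

theorem toG_apply (s : Om f) (v : ι → F) : (toG hf hG s).1.1 v = mat s *ᵥ v := rfl

/-- `PΩ` as a group of linear maps. -/
noncomputable def toPG : Cfsg.POmega F f ≃* PG Q :=
  QuotientGroup.congr _ _ (toG hf hG) (by
    ext z
    obtain ⟨w, rfl⟩ := (toG hf hG).surjective z
    rw [Subgroup.mem_map]
    constructor
    · rintro ⟨x, hx, hxw⟩
      refine Subgroup.mem_center_iff.2 fun k => ?_
      obtain ⟨k, rfl⟩ := (toG hf hG).surjective k
      obtain rfl : x = w := (toG hf hG).injective hxw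
      rw [← map_mul, ← map_mul, Subgroup.mem_center_iff.1 hx k]
    · intro hz
      refine ⟨w, Subgroup.mem_center_iff.2 fun k => (toG hf hG).injective ?_, rfl⟩
      rw [map_mul, map_mul]
      exact Subgroup.mem_center_iff.1 hz _)

theorem toPG_mk (s : Om f) : toPG hf hG (QuotientGroup.mk s) = pr Q (toG hf hG s) := rfl

omit [Fintype F] in
theorem map_mulVec_field (σ : F ≃+* F) (M : Matrix ι ι F) (v : ι → F) :
    M.map σ *ᵥ (fun i => σ (v i)) = fun i => σ ((M *ᵥ v) i) := by
  funext i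
  exact (RingHom.map_mulVec σ.toRingHom M v i).symm

include hf hG in
/-- An automorphism given by a semisimilitude is induced by a pair. -/
theorem exists_pair (ψ : Semi Q) :
    ∃ (g : GL ι F) (σ : F ≃+* F), Cfsg.IsSemisimilarityPair f g σ ∧ σ = ψ.σ ∧
      (∀ v, (g : Matrix ι ι F) *ᵥ (fun i => σ (v i)) = ψ.map v) ∧
      Cfsg.IsInducedBySemilinearPOmega f g σ
        (((toPG hf hG).trans (conjP ψ)).trans (toPG hf hG).symm) := by
  let L : (ι → F) →ₗ[F] (ι → F) :=
    { toFun := fun v => ψ.map fun i => ψ.σ.symm (v i)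
      map_add' := fun v w => by
        rw [← map_add]; congr 1; funext i; simp
      map_smul' := fun c v => by
        rw [show (fun i => ψ.σ.symm ((c • v) i)) = ψ.σ.symm c • fun i => ψ.σ.symm (v i) by
          funext i; simp, ψ.map_smul, RingEquiv.apply_symm_apply]
        rfl }
  have hinj : Function.Injective L := fun v w h => funext fun i =>
    ψ.σ.symm.injective (congrFun (ψ.map.injective h) i)
  let g : GL ι F := (toAut (LinearEquiv.refl F (ι → F))).symm (LinearEquiv.ofInjectiveEndo L hinj)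
  have hg : ∀ v, (g : Matrix ι ι F) *ᵥ v = L v := fun v =>
    (toAut_apply (LinearEquiv.refl F (ι → F)) g v).symm.trans (by
      rw [MulEquiv.apply_symm_apply]; rfl)
  have hgψ : ∀ v, (g : Matrix ι ι F) *ᵥ (fun i => ψ.σ (v i)) = ψ.map v := fun v => by
    rw [hg]
    show ψ.map _ = _
    congr 1
    funext i; simp
  refine ⟨g, ψ.σ, ⟨Units.mk0 ψ.H ψ.H0, fun v => by rw [hgψ, ← hf, ← hf, ψ.map_Q]; rfl⟩, rfl, hgψ, ?_⟩
  intro s s' hs'
  show (toPG hf hG).symm (conjP ψ (toPG hf hG (QuotientGroup.mk s))) = _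
  rw [MulEquiv.symm_apply_eq, toPG_mk, toPG_mk, conjP_pr]
  congr 1
  refine G_ext fun v => ?_
  obtain ⟨z, rfl⟩ := ψ.map.surjective v
  rw [Semi.conjG_apply, toG_apply, toG_apply, show mat s' = _ from hs', ← hgψ z, mulVec_mulVec, mul_assoc,
    ← Units.val_mul, inv_mul_cancel, Units.val_one, mul_one, ← mulVec_mulVec,
    map_mulVec_field, hgψ]

include hf in
/-- Every automorphism is induced by a semisimilarity. -/
theorem exists_semi (hH : Hyp Q) (β : MulAut (Cfsg.POmega F f)) :
    ∃ ψ : Semi Q, β = ((toPG hf hH.good).trans (conjP ψ)).trans (toPG hf hH.good).symm := by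
  obtain ⟨g, ψ, hg⟩ := std_all hH (((toPG hf hH.good).symm.trans β).trans (toPG hf hH.good))
  refine ⟨semiLeft g.1 ψ, MulEquiv.ext fun z => ?_⟩
  obtain ⟨h, hh⟩ := pr_surjective (toPG hf hH.good z)
  have h1 := DFunLike.congr_fun hg (pr Q h)
  simp only [MulEquiv.trans_apply, MulAut.mul_apply, conjP_pr, conj_pr_eq] at h1
  show β z = (toPG hf hH.good).symm (conjP (semiLeft g.1 ψ) (toPG hf hH.good z))
  rw [← hh, conjP_pr, MulEquiv.eq_symm_apply]
  rw [hh, MulEquiv.symm_apply_apply] at h1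
  rw [h1]
  congr 1

include hf in
theorem gamma_eq_top (hH : Hyp Q) : Cfsg.gammaPOmega F f = ⊤ := by
  refine eq_top_iff.2 fun β _ => Subgroup.subset_closure ?_
  obtain ⟨ψ, rfl⟩ := exists_semi hf hH β
  obtain ⟨g, σ, h1, -, -, h2⟩ := exists_pair hf hH.good ψ
  exact ⟨g, σ, h1, h2⟩

omit [Fintype F] in
theorem good_of_split {W : Type*} [AddCommGroup W] [Module F W] {Q₀ : QuadraticForm F W}
    (hG : Good Q₀) (e : W ≃ₗ[F] (ι → F)) :
    Good (Q₀.comp (e.symm : (ι → F) →ₗ[F] W)) := by
  have hp : ∀ x y, polar (Q₀.comp (e.symm : (ι → F) →ₗ[F] W)) x y = polar Q₀ (e.symm x) (e.symm y) :=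
    fun x y => by simp [polar]
  refine ⟨fun x hx => e.symm.map_eq_zero_iff.1 (hG.nd _ fun y => ?_), fun a b c d => ?_, ?_⟩
  · obtain ⟨y, rfl⟩ := e.symm.surjective y
    rw [← hp]; exact hx y
  · obtain ⟨v, hv⟩ := hG.spare (e.symm a) (e.symm b) (e.symm c) (e.symm d)
    refine ⟨e v, fun h => hv ?_⟩
    have := Submodule.mem_map_of_mem (f := (e.symm : (ι → F) →ₗ[F] W)) h
    rw [Submodule.map_span, LinearEquiv.coe_coe, e.symm_apply_apply] at this
    simpa [Set.image_insert_eq, Set.image_singleton] using this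
  · obtain ⟨a, b, c, d, h⟩ := hG.two
    refine ⟨e a, e b, e c, e d, ?_⟩
    simp only [hp, QuadraticMap.comp_apply, LinearEquiv.coe_coe, e.symm_apply_apply]
    exact h

theorem hyp_plus {m : ℕ} (hm : 5 ≤ m) : Hyp (plusQ m F) := by
  refine ⟨good_of_split (good_plus (by omega)) (ePlus m), fun T _ => Or.inr ?_⟩
  rw [finrank_plus]
  omega

open Cfsg.Agent.Lib.Classical.QuadF2 in
theorem hyp_minus {a b : F} (hab : Aniso a b) {m : ℕ} (hm : 3 ≤ m) : Hyp (minusQ m a b) := by
  refine ⟨good_of_split (good_minus hab hm) (eMinus m), fun T hT => Or.inl ?_⟩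
  have h := finrank_le_of_minus hab m T fun v hv => by rw [← minusQ_apply]; exact hT v hv
  rw [Module.finrank_pi, Fintype.card_sum, Fintype.card_sum, Fintype.card_fin, Fintype.card_fin]
  omega

end Cfsg.Agent.Lib.AutOmega
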