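import Cfsg.Agent.Lib.AutOmega.Descent
import Cfsg.Agent.Lib.AutPSL.Field
import Cfsg.Agent.Lib.AutOmegaOdd.Classes

/-!
The possible rational forms of a semisimilitude with scalar power.
-/

set_option autoImplicit false

namespace Cfsg.Agent.Lib.AutOmega

open QuadraticMap hiding proj
open Matrix Cfsg.Agent.Lib.Classical.Quad Cfsg.Agent.Lib.Classical.QuadOmega Cfsg.Agent.Lib.Classical.QuadF2
open Cfsg.Agent.Lib.AutOmegaOdd (Semi)

universe u w

section field

variable {F : Type u} [Field F] [Fintype F] {σ : F ≃+* F}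

/-- The degree over the fixed field. -/
theorem card_of_fixed {K : Type w} [Field K] [Fintype K] {em : K →+* F}
    (hι : ∀ x : F, σ x = x ↔ x ∈ Set.range em) {r : ℕ} (hr : orderOf σ = r) :
    Fintype.card F = Fintype.card K ^ r := by
  classical
  haveI : Finite (F ≃+* F) := Finite.of_injective (fun e : F ≃+* F => (e : F → F)) DFunLike.coe_injective
  let H : Subgroup (F ≃+* F) := Subgroup.zpowers σ
  letI : Fintype H := Fintype.ofFinite H
  let L := FixedPoints.subfield H F
  have hmem : ∀ c : F, c ∈ L ↔ σ c = c := by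
    intro c
    show (∀ h : H, h • c = c) ↔ _
    constructor
    · intro h; exact h ⟨σ, Subgroup.mem_zpowers σ⟩
    · rintro h ⟨τ, hτ⟩
      have : σ ∈ MulAction.stabilizer (F ≃+* F) c := h
      exact (Subgroup.zpowers_le.2 this hτ : τ ∈ MulAction.stabilizer (F ≃+* F) c)
  have hrank : Module.finrank L F = r := by
    rw [FixedPoints.finrank_eq_card H F, ← Nat.card_eq_fintype_card, Nat.card_zpowers, hr]
  letI : Fintype L := Fintype.ofFinite L
  let e : K ≃ L := Equiv.ofBijective (fun x => ⟨em x, (hmem _).2 ((hι _).2 ⟨x, rfl⟩)⟩)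
    ⟨fun x y h => em.injective (congrArg Subtype.val h), fun ⟨y, hy⟩ => by
      obtain ⟨x, hx⟩ := (hι _).1 ((hmem _).1 hy)
      exact ⟨x, Subtype.ext hx⟩⟩
  rw [Module.card_eq_pow_finrank (K := L) (V := F), hrank, Fintype.card_congr e]

/-- An inclusion of the fixed field. -/
theorem fixF_range (σ : F ≃+* F) (x : F) :
    σ x = x ↔ x ∈ Set.range (AutOmegaOdd.fixF σ).subtype :=
  ⟨fun hx => ⟨⟨x, AutOmegaOdd.mem_fixF.2 hx⟩, rfl⟩, fun ⟨y, hy⟩ => hy ▸ AutOmegaOdd.mem_fixF.1 y.2⟩

omit [Fintype F] in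
/-- An anisotropic binary form stays anisotropic in odd degree. -/
theorem aniso_odd {K : Type w} [Field K] {em : K →+* F} (hι : ∀ x : F, σ x = x ↔ x ∈ Set.range em)
    {r : ℕ} (hr : orderOf σ = r) (hodd : Odd r) {a b : K} (hab : Aniso a b) :
    Aniso (em a) (em b) := by
  intro z₁ z₂ h
  by_cases h2 : z₂ = 0
  · subst h2
    exact ⟨(pow_eq_zero_iff two_ne_zero).1 (by linear_combination h), rfl⟩
  exfalso
  set t := z₁ / z₂
  have ht : t * t + em a * t + em b = 0 := by
    simp only [t]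
    field_simp
    linear_combination h
  have hst : σ t * σ t + em a * σ t + em b = 0 := by
    have h1 := congrArg σ ht
    rw [map_add, map_add, map_mul, map_mul, map_zero, (hι _).2 ⟨a, rfl⟩, (hι _).2 ⟨b, rfl⟩] at h1
    exact h1
  have h2' : σ (σ t) = t := by
    rcases mul_eq_zero.1 (show (σ t - t) * (σ t + t + em a) = 0 by linear_combination hst - ht) with e | e
    · rw [sub_eq_zero.1 e, sub_eq_zero.1 e]
    · have e' : σ t = -t - em a := by linear_combination e
      rw [e', map_sub, map_neg, e', (hι _).2 ⟨a, rfl⟩]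
      ring
  have hpow : ∀ k : ℕ, (σ ^ (2 * k) : F ≃+* F) t = t := by
    intro k
    induction k with
    | zero => rfl
    | succ j ih =>
      rw [show 2 * (j + 1) = 2 * j + 1 + 1 by ring, pow_succ, pow_succ, RingAut.mul_apply,
        RingAut.mul_apply, h2', ih]
  obtain ⟨k, hk⟩ := hodd
  have hfix : σ t = t := by
    have h1 : (σ ^ r : F ≃+* F) (σ t) = σ t := by rw [← hr, pow_orderOf_eq_one]; rfl
    rw [hk, pow_succ, RingAut.mul_apply, h2', hpow] at h1
    exact h1.symm
  obtain ⟨x, hx⟩ := (hι _).1 hfix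
  rw [← hx, ← map_mul, ← map_mul, ← map_add, ← map_add, map_eq_zero] at ht
  exact one_ne_zero (hab x 1 (by linear_combination ht)).2

/-- Anisotropic binary forms are isometric, compatibly with the multiplication. -/
theorem exists_binary_equiv {a b a' b' : F} (hab : Aniso a b) (hab' : Aniso a' b') :
    ∃ e : (Fin 2 → F) ≃ₗ[F] (Fin 2 → F), (∀ z, binQ a b (e z) = binQ a' b' z) ∧
      ∀ w z, e (mulW a' b' w z) = mulW a b (e w) (e z) := by
  obtain ⟨K, iK, iA, hK⟩ := exists_ext hab
  have : Module.Finite F K := Module.finite_of_finrank_eq_succ hK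
  have : Finite K := Module.finite_of_finite F
  letI : Fintype K := Fintype.ofFinite K
  have hcard : Fintype.card K = Fintype.card F ^ 2 := by
    rw [Module.card_eq_pow_finrank (K := F) (V := K), hK]
  obtain ⟨t, t₂, -, hs, hp⟩ := exists_roots_ext (algebraMap F K) hcard hab
  obtain ⟨x, x₂, -, hs', hp'⟩ := exists_roots_ext (algebraMap F K) hcard hab'
  set em := algebraMap F K
  have ht : t * t + em a * t + em b = 0 := by
    rw [← hp, show em a = -(t + t₂) by rw [hs, neg_neg]]; ring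
  have hx : x * x + em a' * x + em b' = 0 := by
    rw [← hp', show em a' = -(x + x₂) by rw [hs', neg_neg]]; ring
  have hne : ∀ c d : F, em c + em d * t = 0 → c = 0 ∧ d = 0 := by
    intro c d h
    by_cases hd : d = 0
    · subst hd
      exact ⟨em.injective (by simpa using h), rfl⟩
    exfalso
    have ht' : t = em (-c / d) := by
      rw [map_div₀, map_neg, eq_div_iff ((map_ne_zero em).2 hd)]
      linear_combination h
    rw [ht', ← map_mul, ← map_mul, ← map_add, ← map_add, map_eq_zero] at ht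
    exact one_ne_zero (hab (-c / d) 1 (by linear_combination ht)).2
  have hbij : Function.Bijective fun p : F × F => em p.1 + em p.2 * t := by
    rw [Fintype.bijective_iff_injective_and_card]
    refine ⟨fun p q h => ?_, by rw [Fintype.card_prod, hcard, pow_two]⟩
    obtain ⟨h1, h2⟩ := hne (p.1 - q.1) (p.2 - q.2) (by
      rw [map_sub, map_sub]; linear_combination h)
    exact Prod.ext (sub_eq_zero.1 h1) (sub_eq_zero.1 h2)
  obtain ⟨⟨u, v⟩, huv⟩ := hbij.2 x
  change em u + em v * t = x at huv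
  obtain ⟨h1, h2⟩ := hne (u * u - b * v * v + a' * u + b') (2 * u * v - a * v * v + a' * v) (by
    rw [← huv] at hx
    simp only [map_add, map_sub, map_mul, map_ofNat]
    linear_combination hx - (em v * em v) * ht)
  have hv : v ≠ 0 := fun hv => by
    subst hv
    exact one_ne_zero (hab' u 1 (by linear_combination h1)).2
  have h3 : 2 * u - a * v + a' = 0 := by
    refine mul_left_cancel₀ hv ?_
    linear_combination h2
  let L : (Fin 2 → F) →ₗ[F] (Fin 2 → F) :=
    { toFun := fun z => ![z 0 - u * z 1, v * z 1]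
      map_add' := fun y z => by ext i; fin_cases i <;> simp <;> ring
      map_smul' := fun c z => by ext i; fin_cases i <;> simp <;> ring }
  have hinj : Function.Injective L := by
    rw [injective_iff_map_eq_zero]
    intro z hz
    have e1 := congrFun hz 1
    have e0 := congrFun hz 0
    simp [L, hv] at e1 e0
    ext i
    rcases Fin.exists_fin_two.1 ⟨i, rfl⟩ with rfl | rfl
    · simpa [e1] using e0
    · exact e1
  refine ⟨LinearEquiv.ofInjectiveEndo L hinj, fun z => ?_, fun w z => ?_⟩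
  · show binQ a b (L z) = _
    simp [binQ_apply, L]
    linear_combination (u * (z 1 * z 1) - z 0 * z 1) * h3 - (z 1 * z 1) * h1
  · show L (mulW a' b' w z) = mulW a b (L w) (L z)
    ext i
    fin_cases i <;> simp [L, mulW_apply]
    · linear_combination -(w 1 * z 1) * h1
    · linear_combination (w 1 * z 1) * h2

/-- A binary isometry on a minus space. -/
noncomputable def liftBin (m : ℕ) (e : (Fin 2 → F) ≃ₗ[F] (Fin 2 → F)) :
    ((Fin m ⊕ Fin m) ⊕ Fin 2 → F) ≃ₗ[F] ((Fin m ⊕ Fin m) ⊕ Fin 2 → F) :=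
  ((eMinus m).symm.trans ((LinearEquiv.refl F ((Fin m → F) × (Fin m → F))).prodCongr e)).trans
    (eMinus m)

omit [Fintype F] in
theorem liftBin_apply (m : ℕ) (e : (Fin 2 → F) ≃ₗ[F] (Fin 2 → F))
    (p : ((Fin m → F) × (Fin m → F)) × (Fin 2 → F)) :
    liftBin m e (eMinus m p) = eMinus m (p.1, e p.2) := by
  simp [liftBin]

theorem minusQ_liftBin {a b a' b' : F} (m : ℕ) (e : (Fin 2 → F) ≃ₗ[F] (Fin 2 → F))
    (he : ∀ z, binQ a b (e z) = binQ a' b' z) (v : (Fin m ⊕ Fin m) ⊕ Fin 2 → F) :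
    minusQ m a b (liftBin m e v) = minusQ m a' b' v := by
  obtain ⟨p, rfl⟩ := (eMinus m).surjective v
  rw [liftBin_apply, minus_eMinus, minus_eMinus, splitQ_apply, splitQ_apply, he]

/-- Anisotropic binary forms are isometric. -/
theorem exists_bin_equiv {a b a' b' : F} (hab : Aniso a b) (hab' : Aniso a' b') (m : ℕ) :
    ∃ e : ((Fin m ⊕ Fin m) ⊕ Fin 2 → F) ≃ₗ[F] ((Fin m ⊕ Fin m) ⊕ Fin 2 → F),
      ∀ v, minusQ m a b (e v) = minusQ m a' b' v := by
  obtain ⟨e, he, -⟩ := exists_binary_equiv hab hab'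
  exact ⟨liftBin m e, minusQ_liftBin m e he⟩

end field

section forms

variable {F : Type u} [Field F] [Fintype F]

/-- A minus form is not similar to a plus form. -/
theorem no_plus_minus {m : ℕ} {a b : F} (hab : Aniso a b)
    (L : (Fin (m + 1) ⊕ Fin (m + 1) → F) ≃ₗ[F] ((Fin m ⊕ Fin m) ⊕ Fin 2 → F)) {d : F}
    (hL : ∀ z, minusQ m a b (L z) = d * plusQ (m + 1) F z) : False := by
  have h := finrank_le_of_minus hab m ((xPlane (m + 1) F).map (L : _ →ₗ[F] _)) fun v hv => by
    obtain ⟨x, hx, rfl⟩ := hv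
    rw [← minusQ_apply]
    exact (hL x).trans (by rw [(maxTS_xPlane (m + 1)).sing x hx, mul_zero])
  rw [LinearEquiv.finrank_map_eq, ((maxTS_iff _ _).1 (maxTS_xPlane (m + 1))).1] at h
  omega

variable {K : Type w} [Field K] {em : K →+* F} {ι κ μ : Type} [Fintype ι] [DecidableEq ι] [Fintype κ]
  [DecidableEq κ] [Fintype μ] [DecidableEq μ] {Q : QuadraticForm F (ι → F)}
  {Q' : QuadraticForm F (μ → F)} {R : QuadraticForm K (κ → K)} {J : (κ → F) ≃ₗ[F] (μ → F)}

/-- Forms with isometric rational forms are similar. -/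
theorem exists_similar (h : Compat em J R Q') (hQ' : Nd Q') {R₀ : QuadraticForm K (ι → K)}
    {A : (ι → F) ≃ₗ[F] (ι → F)} {d : F} (hd : d ≠ 0) (hC : Compat em A R₀ (d⁻¹ • Q))
    (e : (κ → K) ≃ₗ[K] (ι → K)) (he : ∀ v, R₀ (e v) = R v) :
    ∃ L : (μ → F) ≃ₗ[F] (ι → F), ∀ z, Q (L z) = d * Q' z := by
  let L : (μ → F) →ₗ[F] (ι → F) :=
    { toFun := fun z => ∑ i, J.symm z i • kp em A (e (Pi.single i 1))
      map_add' := fun x y => by simp [add_smul, Finset.sum_add_distrib]
      map_smul' := fun t x => by simp [Finset.smul_sum, smul_smul] }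
  have hLkp : ∀ v, L (kp em J v) = kp em A (e v) := fun v => by
    show ∑ i, J.symm (kp em J v) i • _ = _
    conv_rhs => rw [pi_eq_sum_univ' v, map_sum, kp_sum]
    exact Finset.sum_congr rfl fun i _ => by rw [kp, J.symm_apply_apply, map_smul, kp_smul]
  have hLQ : ∀ z, Q (L z) = d * Q' z := by
    intro z
    refine (form_semilin em J (RingHom.id F) L.toAddMonoidHom L.map_smul d (fun v => ?_) z)
    show Q (L (kp em J v)) = d * Q' (kp em J v)
    rw [hLkp, h, ← he, ← hC, QuadraticMap.smul_apply, smul_eq_mul, mul_inv_cancel_left₀ hd]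
  have hinj : Function.Injective L := (injective_iff_map_eq_zero L).2 fun z hz => hQ' z fun y => by
    have h1 : polar Q (L z) (L y) = d * polar Q' z y := by simp only [polar, ← map_add, hLQ]; ring
    rw [hz, polar_zero_left, eq_comm, mul_eq_zero] at h1
    exact h1.resolve_left hd
  have hcard : Fintype.card μ = Fintype.card ι := by
    have h1 := J.finrank_eq
    have h2 := e.finrank_eq
    rw [Module.finrank_fintype_fun_eq_card, Module.finrank_fintype_fun_eq_card] at h1 h2
    omega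
  exact ⟨LinearMap.linearEquivOfInjective L hinj
    (by rw [Module.finrank_fintype_fun_eq_card, Module.finrank_fintype_fun_eq_card, hcard]), hLQ⟩

end forms

section cases

variable {F : Type u} [Field F] [Fintype F] {K : Type w} [Field K] [Fintype K] (em : K →+* F)
  {σ : F ≃+* F}

/-- The plus form over the fixed field. -/
theorem compat_plus (m : ℕ) :
    Compat em (LinearEquiv.refl F _) (plusQ m K) (plusQ m F) := fun v => by
  simp [kp, plusQ_apply, Cfsg.quadFormPlus]

variable {em}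

/-- The rational forms in plus type. -/
theorem plus_cases {k : ℕ} (hk : 2 ≤ k) (hι : ∀ x : F, σ x = x ↔ x ∈ Set.range em)
    {r : ℕ} (hr : orderOf σ = r) (hr0 : 0 < r) {ψ : Semi (plusQ (k + 1) F)} (hψ : ψ.σ = σ) {l : Fˣ}
    (hl : ψ ^ r = ofScalar _ l) :
    (∃ a ∈ Cfsg.inndiagPOmegaPlus (k + 1) F,
      act (fun v => plusQ_apply (k + 1) v) (good_plusQ (by omega)) ψ = a *
        act (fun v => plusQ_apply (k + 1) v) (good_plusQ (by omega))
          (stdS (compat_plus em (k + 1)) hι) * a⁻¹) ∨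
    (¬ Odd r ∧ ∀ (a₀ b₀ : K) (_ : Aniso a₀ b₀) (t₁ t₂ : F) (ht : t₁ ≠ t₂) (hs : t₁ + t₂ = -em a₀)
      (hp : t₁ * t₂ = em b₀), ∃ a ∈ Cfsg.inndiagPOmegaPlus (k + 1) F,
        act (fun v => plusQ_apply (k + 1) v) (good_plusQ (by omega)) ψ = a *
          act (fun v => plusQ_apply (k + 1) v) (good_plusQ (by omega))
            (stdS (compat_split em ht hs hp) hι) * a⁻¹) := by
  haveI : Nonempty (Fin (k + 1) ⊕ Fin (k + 1)) := ⟨.inl 0⟩
  haveI : Nonempty ((Fin k ⊕ Fin k) ⊕ Fin 2) := ⟨.inr 0⟩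
  have D := properPlus (F := F) (m := k + 1) (by omega)
  obtain ⟨R₀, A, d, c, hd, hC, hR₀, hfix⟩ := exists_rational em (nd_plusQ (k + 1)) hι hr hr0 hψ hl
  rcases exists_normal_even k hR₀ (by rw [finrank_plus]; ring) with ⟨e, he⟩ | ⟨ζ, hζ, e, he⟩
  · exact Or.inl (act_conj_std D (compat_plus em (k + 1)) hι hd hC hψ hfix e fun v => by
      rw [he, plusQ_apply])
  · refine Or.inr ⟨fun hodd => ?_, fun a₀ b₀ hab t₁ t₂ ht hs hp => ?_⟩
    · have hab' := aniso_odd hι hr hodd hζ
      obtain ⟨L, hL⟩ := exists_similar (Q := plusQ (k + 1) F) (Q' := minusQ k (em 1) (em ζ))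
        (R := minusQ k 1 ζ) (J := LinearEquiv.refl F _)
        (fun v => by simp [kp, minusQ_apply, Cfsg.quadFormMinus]) (nd_minusQ hab' k) hd hC e
        fun v => by rw [he, minusQ_apply]
      refine no_plus_minus hab' L.symm (d := d⁻¹) fun z => ?_
      have h1 := hL (L.symm z)
      rw [L.apply_symm_apply] at h1
      rw [h1, inv_mul_cancel_left₀ hd]
    · obtain ⟨eb, heb⟩ := exists_bin_equiv hζ hab k
      exact act_conj_std D (compat_split em ht hs hp) hι hd hC hψ hfix (eb.trans e) fun v => by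
        rw [LinearEquiv.trans_apply, he, ← minusQ_apply, heb]

/-- The rational forms in minus type. -/
theorem minus_cases {m : ℕ} (hm : 3 ≤ m) {a b : F} (hab : Aniso a b)
    (hι : ∀ x : F, σ x = x ↔ x ∈ Set.range em) {r : ℕ} (hr : orderOf σ = r) (hr0 : 0 < r)
    {ψ : Semi (minusQ m a b)} (hψ : ψ.σ = σ) {l : Fˣ} (hl : ψ ^ r = ofScalar _ l) :
    r ≠ 2 ∧ ∀ (a₀ b₀ : K) (_ : Aniso a₀ b₀)
      (J : ((Fin m ⊕ Fin m) ⊕ Fin 2 → F) ≃ₗ[F] ((Fin m ⊕ Fin m) ⊕ Fin 2 → F))
      (h : Compat em J (minusQ m a₀ b₀) (minusQ m a b)), ∃ x ∈ Cfsg.inndiagPOmegaMinus m F a b,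
        act (fun v => minusQ_apply m a b v) (good_minusQ hab hm) ψ = x *
          act (fun v => minusQ_apply m a b v) (good_minusQ hab hm) (stdS h hι) * x⁻¹ := by
  haveI : Nonempty ((Fin m ⊕ Fin m) ⊕ Fin 2) := ⟨.inr 0⟩
  have D := properMinus (F := F) hab hm
  obtain ⟨R₀, A, d, c, hd, hC, hR₀, hfix⟩ := exists_rational em (nd_minusQ hab m) hι hr hr0 hψ hl
  rcases exists_normal_even m hR₀
    (by rw [Module.finrank_pi, Fintype.card_sum, Fintype.card_sum, Fintype.card_fin, Fintype.card_fin]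
        ring) with ⟨e, he⟩ | ⟨ζ, hζ, e, he⟩
  · exfalso
    obtain ⟨L, hL⟩ := exists_similar (Q := minusQ m a b) (Q' := plusQ (m + 1) F) (R := plusQ (m + 1) K)
      (J := LinearEquiv.refl F _) (compat_plus em (m + 1)) (nd_plusQ (m + 1)) hd hC e
      fun v => by rw [he, plusQ_apply]
    exact no_plus_minus hab L hL
  · refine ⟨fun h2 => ?_, fun a₀ b₀ hab₀ J h => ?_⟩
    · obtain ⟨t₁, t₂, ht, hs, hp⟩ := exists_roots_ext em
        (by rw [card_of_fixed hι hr, h2]) hζ
      obtain ⟨L, hL⟩ := exists_similar (Q := minusQ m a b) (Q' := plusQ (m + 1) F)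
        (compat_split em ht hs hp) (nd_plusQ (m + 1)) hd hC e fun v => by rw [he, minusQ_apply]
      exact no_plus_minus hab L hL
    · obtain ⟨eb, heb⟩ := exists_bin_equiv hζ hab₀ m
      exact act_conj_std D h hι hd hC hψ hfix (eb.trans e) fun v => by
        rw [LinearEquiv.trans_apply, he, ← minusQ_apply, heb]

end cases

end Cfsg.Agent.Lib.AutOmega
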